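/-
Sylow 2-subgroups of type PSp4(q), I: the 2-group.
-/
import Cfsg.Agent.H17.GS3
import Cfsg.Agent.H19.Dh

set_option autoImplicit false
set_option linter.unusedSectionVars false

namespace H26.PS
open Cfsg Subgroup H18 H17.GS
open H19 hiding eq_bot_mono

universe u
variable {G : Type u} [Group G]

def pr (t x : G) : G := t * x * t⁻¹
def Qg (r s : G) : Subgroup G := zpowers r ⊔ zpowers s
def Yg (r s t : G) : Subgroup G := Qg r s ⊔ cj t (Qg r s)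
def Sg (r s t : G) : Subgroup G := Yg r s t ⊔ zpowers t

/-- the relations: `⟨r, s⟩` is a quaternion group with involution `z`, commuting with its conjugate under `t` -/
structure Sp (j : ℕ) (z r s t : G) : Prop where
  rz : r ^ 2 ^ j * r ^ 2 ^ j = z
  ss : s * s = z
  sr : s * r * s⁻¹ = r⁻¹
  tt : t * t = 1
  tz : t * z = z * t
  rr : r * pr t r = pr t r * r
  rs : r * pr t s = pr t s * r
  s2 : s * pr t s = pr t s * s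

/-- `Sg r s t` is of type `PSp4(q)` -/
structure Sy (j : ℕ) (z r s t : G) : Prop extends Sp j z r s t where
  z1 : z ≠ 1
  int : ∀ a ∈ Qg r s, pr t a ∈ Qg r s → a = 1 ∨ a = z

set_option hygiene false in
scoped notation "𝐏" => zpowers r
set_option hygiene false in
scoped notation "𝐐" => Qg r s
set_option hygiene false in
scoped notation "𝐘" => Yg r s t
set_option hygiene false in
scoped notation "𝐒" => Sg r s t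
set_option hygiene false in
scoped notation "𝐜" => r ^ 2 ^ j
set_option hygiene false in
scoped notation:max x:max "′" => pr t x

variable [Finite G] {j : ℕ} {z r s t a b d e f g p q x y : G}

theorem pr_mul (t x y : G) : (x * y)′ = x′ * y′ := by unfold pr; group
theorem pr_inv (t x : G) : (x⁻¹)′ = x′⁻¹ := by unfold pr; group
theorem pr_pow (t x : G) (n : ℕ) : (x ^ n)′ = x′ ^ n := conj_pow.symm
theorem pr_inj (h : x′ = y′) : x = y := by simpa [pr] using h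
theorem pr_one (t : G) : (1 : G)′ = 1 := by simp [pr]
theorem pr_cj (t x y : G) : (x * y * x⁻¹)′ = x′ * y′ * x′⁻¹ := by unfold pr; group
theorem mem_pr {K : Subgroup G} : x ∈ cj t K ↔ ∃ y ∈ K, y′ = x := mem_cj'
theorem pr_mem {K : Subgroup G} : x′ ∈ cj t K ↔ x ∈ K := conj_mem_cj
theorem PQ : 𝐏 ≤ 𝐐 := le_sup_left
theorem rP : r ∈ 𝐏 := mem_zpowers r
theorem cP : 𝐜 ∈ 𝐏 := pow_mem rP _
theorem rQ : r ∈ 𝐐 := PQ rP
theorem cQ : 𝐜 ∈ 𝐐 := PQ cP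
theorem sQ : s ∈ 𝐐 := mem_sup_right (mem_zpowers s)
theorem QY : 𝐐 ≤ 𝐘 := le_sup_left
theorem prY (ha : a ∈ 𝐐) : a′ ∈ 𝐘 := mem_sup_right (conj_mem_cj.2 ha)
theorem mY (ha : a ∈ 𝐐) (hb : b ∈ 𝐐) : a * b′ ∈ 𝐘 := mul_mem (QY ha) (prY hb)
theorem YS : 𝐘 ≤ 𝐒 := le_sup_left
theorem QS : 𝐐 ≤ 𝐒 := QY.trans YS
theorem tS : t ∈ 𝐒 := mem_sup_right (mem_zpowers t)
theorem prS (ha : a ∈ 𝐐) : a′ ∈ 𝐒 := YS (prY ha)
theorem Pc (hp : p ∈ 𝐏) (hq : q ∈ 𝐏) : p * q = q * p := mul_comm_of_comm (comm_zpowers r) hp hq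
theorem Qle {K : Subgroup G} (h1 : r ∈ K) (h2 : s ∈ K) : 𝐐 ≤ K := sup_le (zpowers_le.2 h1) (zpowers_le.2 h2)

namespace Sp
variable (h : Sp j z r s t)
include h

theorem ti : t⁻¹ = t := inv_eq_of_mul_eq_one_right h.tt
theorem pp (x : G) : x′′ = x := by
  rw [pr, pr, h.ti, ← mul_assoc, ← mul_assoc, h.tt, one_mul, mul_assoc, h.tt, mul_one]
theorem tm (x : G) : t * x = x′ * t := by unfold pr; group
theorem mt (x : G) : x * t = t * x′ := by rw [h.tm, h.pp]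
theorem zp : z′ = z := by rw [pr, h.tz, mul_inv_cancel_right]
theorem zP : z ∈ 𝐏 := h.rz ▸ mul_mem cP cP
theorem zQ : z ∈ 𝐐 := PQ h.zP
theorem zY : z ∈ 𝐘 := QY h.zQ
theorem zS : z ∈ 𝐒 := QS h.zQ
theorem sP (hp : p ∈ 𝐏) : s * p * s⁻¹ = p⁻¹ := by
  obtain ⟨k, rfl⟩ := hp
  rw [← conj_zpow, h.sr, inv_zpow]
theorem zz : z * z = 1 := by
  have := h.sP h.zP
  rw [← h.ss, mul_assoc, mul_inv_cancel_right, h.ss] at this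
  exact eq_inv_iff_mul_eq_one.1 this
theorem zi : z⁻¹ = z := inv_eq_of_mul_eq_one_right h.zz
theorem sN : zpowers s ≤ N(𝐏) := zpowers_le.2 (mem_norm_of_cj_le fun _ k =>
  let ⟨_, k, e⟩ := mem_cj'.1 k; e ▸ (h.sP k).symm ▸ inv_mem k)
theorem memQ : a ∈ 𝐐 ↔ a ∈ 𝐏 ∨ ∃ p ∈ 𝐏, a = p * s := by
  refine ⟨fun k => ?_, fun k => k.elim (PQ ·) fun ⟨p, k, e⟩ => e ▸ mul_mem (PQ k) sQ⟩
  obtain ⟨p, hp, _, ⟨n, rfl⟩, rfl⟩ := (mem_sup_of_norm h.sN).1 k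
  have e : ∀ m : ℤ, s ^ (2 * m) ∈ 𝐏 := fun m => by rw [zpow_mul, zpow_two, h.ss]; exact zpow_mem h.zP m
  obtain ⟨m, rfl | rfl⟩ := Int.even_or_odd' n
  exacts [.inl (mul_mem hp (e m)), .inr ⟨_, mul_mem hp (e m), by beta_reduce; rw [zpow_add_one, mul_assoc]⟩]
theorem Qz : 𝐐 ≤ C[z] := Qle (mem_cent1.2 (Pc rP h.zP)) (mem_cent1.2 (by rw [← h.ss, mul_assoc]))
theorem out (ha : a ∈ 𝐐) (k : a ∉ 𝐏) : a * a = z ∧ ∀ p ∈ 𝐏, a * p * a⁻¹ = p⁻¹ := by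
  obtain ⟨q, hq, rfl⟩ := (h.memQ.1 ha).resolve_left k
  refine ⟨?_, fun p hp => ?_⟩
  · rw [show q * s * (q * s) = q * (s * q * s⁻¹) * (s * s) by group, h.sP hq, h.ss, mul_inv_cancel, one_mul]
  · rw [conj_conj' q s p |>.symm, h.sP hp, Pc hq (inv_mem hp), mul_inv_cancel_right]
theorem out2 (ha : a ∈ 𝐐) (hb : b ∈ 𝐐) (k : a ∉ 𝐏) (k' : b ∉ 𝐏) : a * b ∈ 𝐏 := by
  obtain ⟨p, hp, rfl⟩ := (h.memQ.1 ha).resolve_left k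
  obtain ⟨q, hq, rfl⟩ := (h.memQ.1 hb).resolve_left k'
  rw [show p * s * (q * s) = p * (s * q * s⁻¹) * (s * s) by group, h.sP hq, h.ss]
  exact mul_mem (mul_mem hp (inv_mem hq)) h.zP
theorem QP (ha : a ∈ 𝐐) (hp : p ∈ 𝐏) : a * p * a⁻¹ = p ∨ a * p * a⁻¹ = p⁻¹ := by
  by_cases k : a ∈ 𝐏
  exacts [.inl (by rw [Pc k hp, mul_inv_cancel_right]), .inr ((h.out ha k).2 p hp)]
theorem cm (ha : a ∈ 𝐐) (hb : b ∈ 𝐐) : a * b′ = b′ * a := by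
  have k : ∀ x y : G, x * y′ = y′ * x → y ∈ cj t⁻¹ C[x] := fun x y e => mem_cj_inv.2 (mem_cent1.2 e.symm)
  have sr : s * r′ = r′ * s := pr_inj (t := t) (by rw [pr_mul, pr_mul, h.pp, h.rs])
  exact mem_cent1.1 (Qle (K := C[b′]) (mem_cent1_symm.1 (mem_cj_inv.1 (Qle (k _ _ h.rr) (k _ _ h.rs) hb)))
    (mem_cent1_symm.1 (mem_cj_inv.1 (Qle (k _ _ sr) (k _ _ h.s2) hb))) ha)
theorem QQ : cj t 𝐐 ≤ C(𝐐) := fun _ k => let ⟨_, k, e⟩ := mem_pr.1 k; mem_cent.2 fun _ ha => e ▸ h.cm ha k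
theorem memY : y ∈ 𝐘 ↔ ∃ a ∈ 𝐐, ∃ b ∈ 𝐐, y = a * b′ :=
  ⟨fun k => let ⟨a, ha, _, k, e⟩ := (mem_sup_of_norm (norms_of_cents h.QQ)).1 k
    let ⟨b, hb, e'⟩ := mem_pr.1 k; ⟨a, ha, b, hb, e' ▸ e⟩, fun ⟨_, ha, _, hb, e⟩ => e ▸ mY ha hb⟩
theorem mm (hb : b ∈ 𝐐) (hd : d ∈ 𝐐) (a e : G) : a * b′ * (d * e′) = a * d * (b * e)′ := by
  rw [pr_mul, mul_assoc, ← mul_assoc b′, ← h.cm hd hb]; simp only [mul_assoc]
theorem mi (ha : a ∈ 𝐐) (hb : b ∈ 𝐐) : (a * b′)⁻¹ = a⁻¹ * (b⁻¹)′ := by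
  rw [h.cm ha hb, mul_inv_rev, pr_inv]
theorem pm (ha : a ∈ 𝐐) (hb : b ∈ 𝐐) : (a * b′)′ = b * a′ := by rw [pr_mul, h.pp, h.cm hb ha]
theorem mpow (ha : a ∈ 𝐐) (hb : b ∈ 𝐐) (n : ℕ) : (a * b′) ^ n = a ^ n * (b ^ n)′ := by
  rw [Commute.mul_pow (h.cm ha hb), pr_pow]
theorem cjm (ha : a ∈ 𝐐) (hb : b ∈ 𝐐) (hd : d ∈ 𝐐) (he : e ∈ 𝐐) :
    a * b′ * (d * e′) * (a * b′)⁻¹ = a * d * a⁻¹ * (b * e * b⁻¹)′ := by
  rw [h.mm hb hd, h.mi ha hb, h.mm (mul_mem hb he) (inv_mem ha)]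
theorem tY : t ∈ N(𝐘) := mem_norm_of_cj_le fun _ k => by
  obtain ⟨y, hy, rfl⟩ := mem_pr.1 k
  obtain ⟨a, ha, b, hb, rfl⟩ := h.memY.1 hy
  exact h.pm ha hb ▸ mY hb ha
theorem memS' : x ∈ 𝐒 ↔ x ∈ 𝐘 ∨ x * t ∈ 𝐘 := mem_sup_invol h.tt h.tY
theorem memS (hx : x ∈ 𝐒) : ∃ a ∈ 𝐐, ∃ b ∈ 𝐐, x = a * b′ ∨ x = a * b′ * t := by
  rcases h.memS'.1 hx with k | k <;> obtain ⟨a, ha, b, hb, e⟩ := h.memY.1 k
  exacts [⟨a, ha, b, hb, .inl e⟩, ⟨a, ha, b, hb, .inr (by rw [← e, mul_assoc, h.tt, mul_one])⟩]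
theorem SY : 𝐒 ≤ N(𝐘) := sup_le le_normalizer (zpowers_le.2 h.tY)
theorem Sz : 𝐒 ≤ C[z] := sup_le (sup_le h.Qz fun _ k => let ⟨_, k, e⟩ := mem_pr.1 k
  e ▸ mem_cent1.2 (h.cm h.zQ k).symm) (zpowers_le.2 (mem_cent1.2 h.tz))
theorem zc (hx : x ∈ 𝐒) : x * z = z * x := mem_cent1.1 (h.Sz hx)
theorem zq (ha : a ∈ 𝐐) : a * z = z * a := h.zc (QS ha)
theorem mz (hb : b ∈ 𝐐) (a : G) : a * z * (b * z)′ = a * b′ := by
  rw [pr_mul, h.zp, mul_assoc, h.zc (prS hb), ← mul_assoc z, h.zz, one_mul]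
theorem r1 : r ^ 2 ^ (j + 2) = 1 := by
  rw [pow_succ, pow_succ, pow_mul, pow_mul, sq, sq, h.rz, h.zz]
theorem pgQ : PG 2 𝐐 := by
  have k : ∀ x : G, ∀ n, x ^ 2 ^ n = 1 → PG 2 (zpowers x) := fun x n e =>
    piG_zpowers.2 ((PiN.prime_pow Nat.prime_two n).dvd (orderOf_dvd_of_pow_eq_one e))
  exact (k r _ h.r1).sup (k s 2 (by rw [show 2 ^ 2 = 2 * 2 from rfl, pow_mul, sq, sq, h.ss, h.zz])) h.sN
theorem pgY : PG 2 𝐘 := h.pgQ.sup (h.pgQ.J t) (norms_of_cents h.QQ)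
theorem pgS : PG 2 𝐒 := h.pgY.sup (pg_zpowers h.tt) (zpowers_le.2 h.tY)
theorem sqt (ha : a ∈ 𝐐) (hb : b ∈ 𝐐) : a * b′ * t * (a * b′ * t) = a * b * (b * a)′ := by
  rw [mul_assoc _ t, ← mul_assoc t, h.tm (a * b′), h.pm ha hb, mul_assoc _ t, h.tt, mul_one, h.mm hb hb]
theorem cjt (a : G) : a * t * a⁻¹ = a * (a⁻¹)′ * t := by rw [mul_assoc, h.tm, mul_assoc]

end Sp
end H26.PS
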