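/-
Sylow 2-subgroups of type PSp4(q), II: elements of the 2-group.
-/
import Cfsg.Agent.H26.PS0

set_option autoImplicit false
set_option linter.unusedSectionVars false

namespace H26.PS
open Cfsg Subgroup H18 H17.GS
open H19 hiding eq_bot_mono

universe u
variable {G : Type u} [Group G] [Finite G] {j : ℕ} {z r s t a b d e f g p q x y : G}

theorem Qpr (t r s : G) : Qg r′ s′ = cj t 𝐐 := by rw [Qg, Qg, cj_sup, cj_zpowers, cj_zpowers]; rfl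

namespace Sp
variable (h : Sp j z r s t)
include h

theorem cc : cj t (cj t 𝐐) = 𝐐 := by rw [cj_cj, h.tt, cj_one]
theorem Ypr : Yg r′ s′ t = 𝐘 := by rw [Yg, Qpr, h.cc, Yg, sup_comm]
theorem Spr : Sg r′ s′ t = 𝐒 := by rw [Sg, h.Ypr, Sg]
theorem sym : Sp j z r′ s′ t :=
  ⟨by rw [← pr_pow, ← pr_mul, h.rz, h.zp], by rw [← pr_mul, h.ss, h.zp], by rw [← pr_cj, h.sr, pr_inv], h.tt, h.tz,
    by rw [h.pp, h.rr], by rw [h.pp, h.cm sQ rQ], by rw [h.pp, h.s2]⟩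
theorem prz (hx : x ∈ C[z]) : pr (t * z) x = x′ := by
  rw [pr, pr, ← conj_conj', ← mem_cent1.1 hx, mul_inv_cancel_right]
theorem Ytz : Yg r s (t * z) = 𝐘 := by rw [Yg, cj_mul, cj_of_mem h.zQ, Yg]
theorem Stz : Sg r s (t * z) = 𝐒 := by
  rw [Sg, h.Ytz]
  refine le_antisymm (sup_le YS (zpowers_le.2 (mul_mem tS h.zS))) (sup_le le_sup_left (zpowers_le.2 ?_))
  exact (mul_mem_cancel_right (mem_sup_left h.zY)).1 (mem_sup_right (mem_zpowers _))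
theorem tz2 : t * z * (t * z) = 1 := by rw [mul_assoc, ← mul_assoc z, ← h.tz, mul_assoc, h.zz, mul_one, h.tt]
theorem stz : Sp j z r s (t * z) :=
  ⟨h.rz, h.ss, h.sr, h.tz2, by rw [h.tz, mul_assoc, h.tz], by rw [h.prz (h.Qz rQ), h.rr],
    by rw [h.prz (h.Qz sQ), h.rs], by rw [h.prz (h.Qz sQ), h.s2]⟩
theorem inv4 (k : a * a = z) : a⁻¹ = a * z := by
  rw [inv_eq_iff_mul_eq_one, ← mul_assoc, k, h.zz]
theorem z4 (k : a * a = z) : a * z = z * a := by rw [← k, mul_assoc]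
theorem sq4 (k : a * a = z) : a * z * (a * z) = z := by
  rw [← h.inv4 k, ← mul_inv_rev, k, h.zi]
theorem d2 (ha : a ∈ 𝐐) (hb : b ∈ 𝐐) (k : a * a = z) (k' : b * b = z) : a * b′ * (a * b′) = 1 := by
  rw [h.mm hb ha, k, k', h.zp, h.zz]
theorem dm (ha : a ∈ 𝐐) (hb : b ∈ 𝐐) : a * a′ * (b * b′) = a * b * (a * b)′ := h.mm ha hb a b
theorem dt (ha : a ∈ 𝐐) : a * a′ * t = t * (a * a′) := by rw [h.tm, h.pm ha ha]
theorem cQz (ha : a ∈ 𝐐) : 𝐜 * a * 𝐜⁻¹ = a ∨ 𝐜 * a * 𝐜⁻¹ = a * z := by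
  rcases h.QP ha cP with k | k
  · exact .inl (by rw [← mul_inv_eq_iff_eq_mul.1 k, mul_inv_cancel_right])
  · refine .inr ?_
    have : 𝐜 * a = a * 𝐜⁻¹ := by
      rw [← inv_inv (𝐜 : G), ← k]; nth_rw 2 [k]; group
    rw [this, mul_assoc, ← mul_inv_rev, h.rz, h.zi]
theorem cYz (hy : y ∈ 𝐘) : 𝐜 * y * 𝐜⁻¹ = y ∨ 𝐜 * y * 𝐜⁻¹ = y * z := by
  obtain ⟨a, ha, b, hb, rfl⟩ := h.memY.1 hy
  rw [show 𝐜 * (a * b′) * 𝐜⁻¹ = 𝐜 * a * 𝐜⁻¹ * (b′) by rw [mul_assoc _ 𝐜⁻¹, h.cm (inv_mem cQ) hb]; group]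
  exact (h.cQz ha).imp (fun k => by rw [k]) fun k => by rw [k, mul_assoc, ← h.zc (prS hb), mul_assoc]
theorem cN {K : Subgroup G} (hK : K ≤ 𝐘) (hz : z ∈ K) : 𝐜 ∈ N(K) := mem_norm_of_cj_le fun _ k => by
  obtain ⟨y, hy, rfl⟩ := mem_cj'.1 k
  rcases h.cYz (hK hy) with e | e <;> rw [e]
  exacts [hy, mul_mem hy hz]
theorem YQ : 𝐘 ≤ N(𝐐) := sup_le le_normalizer (norms_of_cents h.QQ)
theorem YQ' : 𝐘 ≤ N(cj t 𝐐) := sup_le (norms_of_cents (cents_symm h.QQ)) le_normalizer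
theorem YP (hy : y ∈ 𝐘) (hp : p ∈ 𝐏) : y * p * y⁻¹ = p ∨ y * p * y⁻¹ = p⁻¹ := by
  obtain ⟨a, ha, b, hb, rfl⟩ := h.memY.1 hy
  rw [← conj_conj', ← h.cm (PQ hp) hb, mul_inv_cancel_right]; exact h.QP ha hp
theorem top (ha : a ∈ 𝐐) : a ^ 2 ^ (j + 1) = 1 ∨ a ^ 2 ^ (j + 1) = z := by
  have k : ∀ n : ℤ, z ^ n = 1 ∨ z ^ n = z := fun n => (mem_zp h.zz).1 (zpow_mem (mem_zpowers z) n)
  by_cases ha' : a ∈ 𝐏
  · obtain ⟨n, rfl⟩ := ha'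
    rw [← zpow_natCast, ← zpow_mul, mul_comm, zpow_mul, zpow_natCast, pow_succ, pow_mul, sq, h.rz]; exact k n
  · rw [pow_succ', pow_mul, sq, (h.out ha ha').1, ← zpow_natCast]; exact k _

end Sp

namespace Sy
variable (h : Sy j z r s t)
include h

theorem uqP (hp : p ∈ 𝐏) (k : p * p = 1) : p = 1 ∨ p = z := by
  have := Fact.mk Nat.prime_two
  have o : orderOf r = 2 ^ (j + 2) := orderOf_eq_prime_pow (by rw [pow_succ, pow_mul, sq, h.rz]; exact h.z1) h.r1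
  obtain ⟨n, rfl⟩ := hp
  simp only [← zpow_add, ← two_mul, ← orderOf_dvd_iff_zpow_eq_one, o] at k
  push_cast at k
  obtain ⟨m, rfl⟩ := (mul_dvd_mul_iff_left two_ne_zero).1 (pow_succ' (2 : ℤ) (j + 1) ▸ k)
  have : r ^ (2 ^ (j + 1) : ℤ) = z := by rw [← h.rz, ← pow_add, ← two_mul, ← pow_succ', ← zpow_natCast]; simp
  simp only [zpow_mul, this]
  exact (mem_zp h.zz).1 (zpow_mem (mem_zpowers z) m)
theorem uq (ha : a ∈ 𝐐) (k : a * a = 1) : a = 1 ∨ a = z := by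
  by_cases ha' : a ∈ 𝐏
  exacts [h.uqP ha' k, absurd ((h.out ha ha').1.symm.trans k) h.z1]
theorem n4 (k : a * a = z) : ¬ (a = 1 ∨ a = z) := by
  rintro (rfl | rfl)
  exacts [h.z1 (k.symm.trans (mul_one 1)), h.z1 (k.symm.trans h.zz)]
theorem mz1 (x : G) : x * z ≠ x := fun e => h.z1 (by simpa using e)
theorem ni (k : a * a = z) : a⁻¹ ≠ a := h.inv4 k ▸ h.mz1 a
theorem sP' : s ∉ 𝐏 := fun k => h.ni h.rz (by rw [← h.sP cP, Pc k cP, mul_inv_cancel_right])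
theorem cc4 (hab : a * b ∈ 𝐐) (k : a * a = z) (k' : b * b = z) (e : a * b = b * a) : b = a ∨ b = a * z := by
  have : a * b * (a * b) = 1 := by rw [mul_assoc, ← mul_assoc b, ← e, mul_assoc, k', ← mul_assoc, k, h.zz]
  rcases h.uq hab this with e | e
  exacts [.inr (h.inv4 k ▸ eq_inv_of_mul_eq_one_right e), .inl (mul_left_cancel (e.trans k.symm))]
theorem q5 (ha : a ∈ 𝐐) (hb : b ∈ 𝐐) (k : a * a = z) (k' : b * b = z) (e : a * b = b * a) : b = a ∨ b = a * z :=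
  h.cc4 (mul_mem ha hb) k k' e
theorem o4 (hp : p ∈ 𝐏) (k : p * p = z) : p = 𝐜 ∨ p = 𝐜 * z := h.q5 cQ (PQ hp) h.rz k (Pc cP hp)
theorem cmP (ha : a ∈ 𝐐) (e : a * 𝐜 = 𝐜 * a) : a ∈ 𝐏 := by_contra fun k =>
  h.ni h.rz (by rw [← (h.out ha k).2 _ cP, e, mul_inv_cancel_right])
theorem eqp (ha : a ∈ 𝐐) (hb : b ∈ 𝐐) (e : a = b′) : a = 1 ∧ b = 1 ∨ a = z ∧ b = z :=
  (h.int b hb (e ▸ ha)).imp (fun k => ⟨by rw [e, k, pr_one], k⟩) fun k => ⟨by rw [e, k, h.zp], k⟩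
theorem m1 (ha : a ∈ 𝐐) (hb : b ∈ 𝐐) (e : a * b′ = 1) : a = 1 ∧ b = 1 ∨ a = z ∧ b = z :=
  (h.eqp ha (inv_mem hb) (by rw [pr_inv]; exact eq_inv_of_mul_eq_one_left e)).imp
    (.imp_right inv_eq_one.1) (.imp_right fun k => by rw [← inv_inv b, k, h.zi])
theorem meq (ha : a ∈ 𝐐) (hb : b ∈ 𝐐) (hd : d ∈ 𝐐) (he : e ∈ 𝐐) (k : a * b′ = d * e′) :
    a = d ∧ b = e ∨ a = d * z ∧ b = e * z := by
  have := h.m1 (mul_mem (inv_mem hd) ha) (mul_mem (inv_mem he) hb) (by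
    rw [← h.mm (inv_mem he) ha, k, ← h.mi hd he, inv_mul_cancel])
  simp only [inv_mul_eq_iff_eq_mul, mul_one] at this; exact this
theorem mzz (ha : a ∈ 𝐐) (hb : b ∈ 𝐐) (e : a * b′ = z) : a = z ∧ b = 1 ∨ a = 1 ∧ b = z := by
  simpa [h.zz] using h.meq ha hb h.zQ (one_mem _) (by rw [e, pr_one, mul_one])
theorem inQ (ha : a ∈ 𝐐) (hb : b ∈ 𝐐) (k : a * b′ ∈ 𝐐) : b = 1 ∨ b = z :=
  h.int b hb ((mul_mem_cancel_left ha).1 k)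
theorem tY' : t ∉ 𝐘 := fun k => h.n4 h.rz (h.int _ cQ (conj_mem_of_norm (h.YQ k) cQ))
theorem yt (hy : y ∈ 𝐘) : y * t ∉ 𝐘 := fun k => h.tY' ((mul_mem_cancel_left hy).1 k)
theorem hyp : Hyp 𝐘 𝐒 := hyp_of_card YS (card_sup_zp h.tt h.tY' h.tY)
theorem sym : Sy j z r′ s′ t := ⟨h.toSp.sym, h.z1, fun a ha k => by
  rw [Qpr] at ha k
  obtain ⟨b, hb, rfl⟩ := mem_pr.1 ha
  rw [h.pp] at k
  obtain ⟨d, hd, e⟩ := mem_pr.1 k
  rcases h.eqp hb hd e.symm with e | e <;> simp [e.1, pr_one, h.zp]⟩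
theorem stz : Sy j z r s (t * z) := ⟨h.toSp.stz, h.z1, fun a ha k => h.int a ha (h.prz (h.Qz ha) ▸ k)⟩
theorem cab (ha : a ∈ 𝐐) (hb : b ∈ 𝐐) (k : a * b * (b * a)′ = z) : False := by
  rcases h.mzz (mul_mem ha hb) (mul_mem hb ha) k with ⟨e, e'⟩ | ⟨e, e'⟩
  exacts [h.z1 (e.symm.trans (mul_eq_one_comm.1 e')), h.z1 (e'.symm.trans (mul_eq_one_comm.1 e))]
/-- the square roots of `z` -/
theorem X (hx : x ∈ 𝐒) (k : x * x = z) : x ∈ 𝐐 ∨ x ∈ cj t 𝐐 := by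
  obtain ⟨a, ha, b, hb, rfl | rfl⟩ := h.memS hx
  · rw [h.mm hb ha] at k
    rcases h.mzz (mul_mem ha ha) (mul_mem hb hb) k with ⟨-, e⟩ | ⟨e, -⟩
    · rcases h.uq hb e with rfl | rfl
      exacts [.inl (by rwa [pr_one, mul_one]), .inl (by rw [h.zp]; exact mul_mem ha hb)]
    · rcases h.uq ha e with rfl | rfl
      exacts [.inr (by rwa [one_mul, pr_mem]), .inr (mul_mem (h.zp ▸ pr_mem.2 ha) (pr_mem.2 hb))]
  · exact (h.cab ha hb (h.sqt ha hb ▸ k)).elim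
theorem XY (hx : x ∈ 𝐒) (k : x * x = z) : x ∈ 𝐘 := (h.X hx k).elim (QY ·) (mem_sup_right ·)
/-- the involutions -/
theorem inY (hx : x ∈ 𝐘) (k : x * x = 1) :
    x = 1 ∨ x = z ∨ ∃ a ∈ 𝐐, ∃ b ∈ 𝐐, a * a = z ∧ b * b = z ∧ x = a * b′ := by
  obtain ⟨a, ha, b, hb, rfl⟩ := h.memY.1 hx
  rw [h.mm hb ha] at k
  rcases h.m1 (mul_mem ha ha) (mul_mem hb hb) k with ⟨e, e'⟩ | ⟨e, e'⟩
  · rcases h.uq ha e with rfl | rfl <;> rcases h.uq hb e' with rfl | rfl <;> simp [pr_one, h.zp, h.zz]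
  · exact .inr (.inr ⟨a, ha, b, hb, e, e', rfl⟩)
theorem inT (hx : x ∈ 𝐒) (hy : x ∉ 𝐘) (k : x * x = 1) : ∃ a ∈ 𝐐, x = a * t * a⁻¹ ∨ x = a * (t * z) * a⁻¹ := by
  obtain ⟨a, ha, b, hb, rfl | rfl⟩ := h.memS hx
  · exact absurd (mY ha hb) hy
  rw [h.sqt ha hb] at k
  refine ⟨a, ha, ?_⟩
  rcases h.m1 (mul_mem ha hb) (mul_mem hb ha) k with ⟨e, -⟩ | ⟨e, -⟩
  · exact .inl (by rw [Sp.cjt h.toSp, eq_inv_of_mul_eq_one_right e])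
  · refine .inr ?_
    rw [← mul_assoc, mul_assoc _ z, ← h.zq (inv_mem ha), ← mul_assoc, Sp.cjt h.toSp, eq_inv_mul_of_mul_eq e, pr_mul,
      h.zp, mul_assoc _ t, h.tz]
    simp only [mul_assoc]
theorem cY (hx : x ∈ 𝐒) (k : x ∈ C(𝐘)) : x = 1 ∨ x = z := by
  have k1 : ∀ a ∈ 𝐐, a ∈ C(𝐐) → a = 1 ∨ a = z := fun a ha k => by
    have p := h.cmP ha (k _ cQ).symm
    exact h.uqP p (eq_inv_iff_mul_eq_one.1 (by rw [← h.sP p, k s sQ, mul_inv_cancel_right]))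
  obtain ⟨a, ha, b, hb, rfl | rfl⟩ := h.memS hx
  · have e1 := k1 a ha (mem_cent.2 fun d hd => mul_right_cancel (b := b′) (by
      rw [mul_assoc, k d (QY hd), mul_assoc, mul_assoc, h.cm hd hb]))
    have e2 := k1 b hb (mem_cent.2 fun d hd => pr_inj (t := t) (mul_left_cancel (a := a) (by
      rw [pr_mul, pr_mul, ← mul_assoc, ← mul_assoc, ← k _ (prY hd), h.cm ha hd, mul_assoc])))
    rcases e1 with rfl | rfl <;> rcases e2 with rfl | rfl <;> simp [pr_one, h.zp, h.zz]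
  · refine (h.n4 h.rz (h.int _ cQ ?_)).elim
    have := conj_mem_of_norm' (h.YQ (mY ha hb)) (cQ (j := j))
    rwa [← mul_inv_cancel_right (𝐜 : G) (a * b′ * t), k _ (QY cQ), show ∀ y : G,
      y⁻¹ * (y * t * 𝐜 * (y * t)⁻¹) * y = 𝐜′ from fun y => by unfold pr; group] at this

/-- `p` moves `x` to the other side -/
def _root_.H26.PS.Op (z x p : G) : Prop :=
  x * (p * x * p⁻¹) = p * x * p⁻¹ * x ∧ p * x * p⁻¹ ≠ x ∧ p * x * p⁻¹ ≠ x * z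
theorem side0 (hx : x ∈ 𝐐) (k : x * x = z) (hp : p ∈ 𝐒) : p ∉ 𝐘 ↔ Op z x p := by
  have k2 : p * x * p⁻¹ * (p * x * p⁻¹) = z := by
    rw [show p * x * p⁻¹ * (p * x * p⁻¹) = p * (x * x) * p⁻¹ by group, k, h.zc hp, mul_inv_cancel_right]
  refine ⟨fun n => ?_, fun ⟨e, e1, e2⟩ n => (h.q5 hx (conj_mem_of_norm (h.YQ n) hx) k k2 e).elim e1 e2⟩
  obtain ⟨b, hb, e⟩ : p * x * p⁻¹ ∈ cj t 𝐐 := by
    have := conj_mem_of_norm (h.YQ' ((h.memS'.1 hp).resolve_left n)) (pr_mem.2 hx)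
    rwa [pr, conj_conj', mul_assoc p, h.tt, mul_one] at this
  change b′ = _ at e
  have n4 := h.n4 k
  have n4' := h.n4 (h.sq4 k)
  rw [Op, ← e]
  exact ⟨h.cm hx hb, fun e => n4 ((h.eqp hx hb e.symm).imp And.left And.left),
    fun e => n4' ((h.eqp (mul_mem hx h.zQ) hb e.symm).imp And.left And.left)⟩
theorem side (hx : x ∈ 𝐒) (k : x * x = z) (hp : p ∈ 𝐒) : p ∉ 𝐘 ↔ Op z x p :=
  (h.X hx k).elim (fun hx => h.side0 hx k hp) fun hx => by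
    have := h.sym.side0 (Qpr t r s ▸ hx) k (h.Spr ▸ hp)
    rwa [h.Ypr] at this
theorem cmX (hx : x ∈ 𝐒) (k : x * x = z) (hp : p ∈ 𝐒) (e : p * x = x * p) : p ∈ 𝐘 := by_contra fun n =>
  ((h.side hx k hp).1 n).2.1 (by rw [e, mul_inv_cancel_right])
theorem same (hg : g ∈ C[z]) (hx : x ∈ 𝐒) (k : x * x = z) (hp : p ∈ 𝐒) (hx' : g * x * g⁻¹ ∈ 𝐒)
    (hp' : g * p * g⁻¹ ∈ 𝐒) : p ∈ 𝐘 ↔ g * p * g⁻¹ ∈ 𝐘 := by
  have gz : g * z * g⁻¹ = z := by rw [mem_cent1.1 hg, mul_inv_cancel_right]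
  rw [← not_iff_not, h.side hx k hp, h.side hx' (by rw [← gz, ← k]; group) hp', Op, Op,
    show g * p * g⁻¹ * (g * x * g⁻¹) * (g * p * g⁻¹)⁻¹ = g * (p * x * p⁻¹) * g⁻¹ by group]
  generalize p * x * p⁻¹ = y
  nth_rw 2 [← gz]
  simp only [conj_mul, ne_eq, mul_left_inj, mul_right_inj]

end Sy
end H26.PS
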