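/-
Sylow 2-subgroups of type PSp4(q), III: fusion in the centralizer of the central involution.
-/
import Cfsg.Agent.H26.PS1
import Cfsg.Agent.H2.U41
import Cfsg.Agent.H3.Transfer

set_option autoImplicit false
set_option linter.unusedSectionVars false

namespace H26.PS
open Cfsg Subgroup H18 H17.GS
open H19 hiding eq_bot_mono

universe u
variable {G : Type u} [Group G] [Finite G] {j : ℕ} {z r s t a b d e f g m p q u x y : G}
  {A B D H K P S Y : Subgroup G}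

theorem sq_mem (hx : PiE {2} x) (h : x ∉ D) : ∃ y ∈ zpowers x, y ∉ D ∧ y * y ∈ D := by
  obtain ⟨k, e⟩ := hx.exists_pow (orderOf_pos x).ne'
  by_contra! n
  have : ∀ i, x ^ 2 ^ i ∉ D := fun i => by
    induction i with
    | zero => simpa
    | succ i ih => rw [pow_succ, pow_mul, sq]; exact n _ (pow_mem (mem_zpowers x) _) ih
  exact this k (by rw [← e, pow_orderOf_eq_one]; exact one_mem _)

theorem two_in (hS : Syl 2 S H) (hK : K ≤ H) (hA : PG 2 A) (hB : PG 2 B) (h1 : A ≤ K) (h2 : B ≤ K) :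
    ∃ n ∈ K, ∃ k ∈ H, cj k A ≤ S ∧ cj (k * n) B ≤ S := by
  obtain ⟨T, hT, l⟩ := hA.exists_syl h1
  obtain ⟨n, hn, l2⟩ := hT.scj_le h2 hB
  obtain ⟨k, hk, l3⟩ := hS.scj_le (hT.le.trans hK) hT.pi
  exact ⟨n, hn, k, hk, (cj_mono k l).trans l3, cj_mul k n B ▸ (cj_mono k l2).trans l3⟩

theorem xfer (hS : Syl 2 S H) (hY : Hyp Y S) (sc : ∀ y ∈ S, ∀ g ∈ H, g * y * g⁻¹ ∈ Y → y ∈ Y) :
    ∃ K, K ⊴ H ∧ Syl 2 Y K ∧ (∀ y ∈ S, y ∈ K → y ∈ Y) ∧ ∀ x ∈ H, ∀ y ∈ H, x ∉ K → y ∉ K → x * y ∈ K := by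
  classical
  let χ : S.subgroupOf H →* ℤˣ := MonoidHom.mk' (fun x => if x.1.1 ∈ Y then 1 else -1) fun x y => by
    have := hY.mul_mem_iff (x := x.1.1) (y := y.1.1) x.2 y.2
    by_cases h : x.1.1 ∈ Y <;> by_cases h' : y.1.1 ∈ Y <;> simp [h, h', this]
  have o : Odd (S.subgroupOf H).index := Nat.not_even_iff_odd.1 (mt even_iff_two_dvd.1 (hS.not_dvd Nat.prime_two))
  have k : ∀ y, y ∈ S → (y ∈ (MonoidHom.transfer χ).ker.map H.subtype ↔ y ∈ Y) := fun y hy => by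
    have := H3.transfer_eq_pow_of χ ⟨y, hS.le hy⟩ (χ ⟨⟨y, hS.le hy⟩, hy⟩) fun k g hg => by
      rw [← map_pow]
      refine if_congr ⟨fun e => sc _ (pow_mem hy k) g⁻¹ (inv_mem g.2) (by simpa using e), fun e => ?_⟩ rfl rfl
      exact sc _ hg g g.2 (by simpa [mul_assoc] using e)
    refine (mem_map_iff_mem (x := ⟨y, hS.le hy⟩) H.subtype_injective).trans ?_
    rw [MonoidHom.mem_ker, this]
    by_cases e : y ∈ Y <;> simp [χ, e, o.neg_one_pow]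
  have n := normalIn_map_subtype (MonoidHom.transfer χ).ker
  refine ⟨_, n, ?_, fun y hy => (k y hy).1, fun x hx y hy h1 h2 => ⟨⟨x, hx⟩ * ⟨y, hy⟩, ?_, rfl⟩⟩
  · have := hS.inf_normal n
    rwa [show S ⊓ _ = Y from le_antisymm (fun y hy => (k y hy.1).1 hy.2) fun y hy =>
      ⟨hY.le hy, (k y (hY.le hy)).2 hy⟩] at this
  · rw [SetLike.mem_coe, MonoidHom.mem_ker, map_mul, (Int.units_eq_one_or _).resolve_left fun e => h1 ⟨_, e, rfl⟩,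
      (Int.units_eq_one_or _).resolve_left fun e => h2 ⟨_, e, rfl⟩]; simp

theorem nsup (h1 : cj x A ≤ A ⊔ B) (h2 : cj x B ≤ A ⊔ B) : x ∈ N(A ⊔ B) :=
  mem_norm_of_cj_le (cj_sup x A B ▸ sup_le h1 h2)
theorem cjz (h : x * y * x⁻¹ ∈ K) : cj x (zpowers y) ≤ K := cj_zpowers x y ▸ zpowers_le.2 h
theorem cfix (h : x ∈ C[y]) : x * y * x⁻¹ = y := by rw [mem_cent1.1 h, mul_inv_cancel_right]
theorem cmul (g x y : G) : g * x * g⁻¹ * (g * y * g⁻¹) = g * (x * y) * g⁻¹ := conj_mul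
theorem ml (x : G) (K : Subgroup G) : x ∈ zpowers x ⊔ K := mem_sup_left (mem_zpowers x)
theorem mr (x : G) (K : Subgroup G) : x ∈ K ⊔ zpowers x := mem_sup_right (mem_zpowers x)

namespace Sy
variable (h : Sy j z r s t)
include h

section
variable (hS : Syl 2 𝐒 H) (hH : H ≤ C[z])
include hS hH

theorem ex (hz : z ∈ P) (hg : g ∈ H) (hP : cj g P ≤ 𝐘) (hA : PG 2 A) (hN : A ≤ H ⊓ N(P)) :
    ∃ k ∈ H, cj k A ≤ 𝐒 ∧ cj k P ≤ 𝐘 := by
  have l : cj g P ⊔ zpowers 𝐜 ≤ 𝐒 := sup_le (hP.trans YS) (zpowers_le.2 (QS cQ))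
  obtain ⟨n, hn, k, hk, l1, l2⟩ := two_in hS inf_le_left hA ((h.pgS.of_le l).J g⁻¹) hN (le_inf
    (cj_le_of_mem (inv_mem hg) (l.trans hS.le)) (by
      rw [cj_le_iff, inv_inv, cj_norm]
      exact sup_le le_normalizer (zpowers_le.2 (h.cN hP (cfix (hH hg) ▸ conj_mem_cj.2 hz)))))
  rw [cj_cj] at l2
  refine ⟨k, hk, l1, fun _ hy => ?_⟩
  obtain ⟨p, hp, rfl⟩ := mem_cj'.1 hy
  have m := conj_mem_cj (g := g).2 (conj_mem_of_norm' hn.2 hp)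
  have := (h.same (hH (mul_mem (mul_mem hk hn.1) (inv_mem hg))) (QS cQ) h.rz (l (mem_sup_left m))
    (l2 (conj_mem_cj.2 (mr _ _))) (l2 (conj_mem_cj.2 (mem_sup_left m)))).1 (hP m)
  convert this using 1; group

theorem ss' (hP : P ≤ 𝐒) (hz : z ∈ P) (hx : x ∈ 𝐒) (x2 : x * x = z) (hn : x ∈ N(P)) (hg : g ∈ H)
    (hY : cj g P ≤ 𝐘) : P ≤ 𝐘 := by
  have l := sup_le hP (zpowers_le.2 hx)
  obtain ⟨k, hk, l1, l2⟩ := h.ex hS hH hz hg hY (h.pgS.of_le l) (le_inf (l.trans hS.le)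
    (sup_le le_normalizer (zpowers_le.2 hn)))
  exact fun p hp => (h.same (hH hk) hx x2 (hP hp) (l1 (conj_mem_cj.2 (mr _ _)))
    (l1 (conj_mem_cj.2 (mem_sup_left hp)))).2 (l2 (conj_mem_cj.2 hp))

theorem ntY (hg : g ∈ H) : g * t * g⁻¹ ∉ 𝐘 := fun hy => by
  have c : ∀ x ∈ 𝐒 ⊓ C[t], x ∈ N(zpowers t ⊔ zpowers z) := fun x hx =>
    nsup (cjz ((cfix hx.2).symm ▸ ml _ _)) (cjz ((cfix (h.Sz hx.1)).symm ▸ mr _ _))
  obtain ⟨k, hk, l1, l2⟩ := h.ex hS hH (mr z (zpowers t)) hg (by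
    rw [cj_sup]; exact sup_le (cjz hy) (cjz ((cfix (hH hg)).symm ▸ h.zY))) (h.pgS.infl C[t])
    (le_inf (inf_le_left.trans hS.le) c)
  have m : ∀ a ∈ 𝐐, k * (a * a′) * k⁻¹ ∈ 𝐒 := fun a ha =>
    l1 (conj_mem_cj.2 ⟨YS (mY ha ha), mem_cent1.2 (h.dt ha)⟩)
  have n : ∀ a ∈ 𝐐, a * a = z → k * (a * a′) * k⁻¹ ∉ 𝐘 := fun a ha a2 hy => h.tY' (h.ss' hS hH
    (P := zpowers t ⊔ zpowers z ⊔ zpowers (a * a′))
    (sup_le (sup_le (zpowers_le.2 tS) (zpowers_le.2 h.zS)) (zpowers_le.2 (YS (mY ha ha))))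
    (mem_sup_left (mr _ _)) (QS ha) a2 (nsup (by
      rw [cj_sup]
      refine sup_le (cjz ?_) (cjz ((cfix (h.Qz ha)).symm ▸ mem_sup_left (mr _ _)))
      rw [Sp.cjt h.toSp, h.inv4 a2, pr_mul, h.zp, ← mul_assoc]
      exact mul_mem (mul_mem (mr _ _) (mem_sup_left (mr _ _))) (mem_sup_left (ml _ _)))
      (cjz (by rw [h.cm ha ha, ← mul_assoc, mul_inv_cancel_right, h.cm ha ha]; exact mr _ _))) hk
    (by rw [cj_sup]; exact sup_le l2 (cjz hy)) (mem_sup_left (ml _ _)))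
  have cs := mul_mem (cQ (j := j)) (sQ (r := r) (s := s))
  refine n _ cs (h.out cs fun e => h.sP' ((mul_mem_cancel_left cP).1 e)).1 ?_
  rw [← h.dm cQ sQ, ← conj_mul]
  exact (h.hyp.mul_mem_iff (m _ cQ) (m _ sQ)).2 (iff_of_false (n _ cQ h.rz) (n _ sQ h.ss))

/-- `Y` is strongly closed -/
theorem f1 (y : G) (hy : y ∈ 𝐒) (g : G) (hg : g ∈ H) (e : g * y * g⁻¹ ∈ 𝐘) : y ∈ 𝐘 := by
  obtain ⟨a, ha, b, hb, rfl | rfl⟩ := h.memS hy
  · exact mY ha hb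
  exfalso
  have hd := mul_mem hb ha
  have hg' := mul_mem hg (hS.le (QS ha))
  replace e : g * a * ((b * a)′ * t) * (g * a)⁻¹ ∈ 𝐘 := by convert e using 1; unfold pr; group
  generalize b * a = d at *
  generalize g * a = g at *
  by_cases k : d ∈ zpowers z
  · rcases (mem_zp h.zz).1 k with rfl | rfl
    · exact h.ntY hS hH hg' (by rwa [pr_one, one_mul] at e)
    · exact h.stz.ntY (h.Stz ▸ hS) hH hg' (by rwa [h.Ytz, h.tz, ← h.zp])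
  obtain ⟨x, hx, n, x2⟩ := sq_mem (h.pgQ.elt hd) k
  have xQ := zpowers_le.2 hd hx
  have xz : x * x = z := ((mem_zp h.zz).1 x2).resolve_left fun e => n ((mem_zp h.zz).2 (h.uq xQ e))
  have dS := mul_mem (prS (t := t) hd) tS
  refine h.yt (prY hd) (h.ss' hS hH (P := zpowers (d′ * t) ⊔ zpowers z)
    (sup_le (zpowers_le.2 dS) (zpowers_le.2 h.zS)) (mr _ _) (QS xQ) xz
    (nsup (cjz ?_) (cjz ((cfix (h.Qz xQ)).symm ▸ mr _ _))) hg'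
    (by rw [cj_sup]; exact sup_le (cjz e) (cjz ((cfix (hH hg')).symm ▸ h.zY))) (ml _ _))
  obtain ⟨m, rfl⟩ := hx
  have e1 : d′ * t * (d′ * t) = d * d′ := by simpa using h.sqt (one_mem _) hd
  have e2 : (d * d′) ^ m = d ^ m * (d ^ m)′ := by rw [Commute.mul_zpow (h.cm hd hd), pr, pr, conj_zpow]
  beta_reduce at *
  have e3 : d ^ m * (d′ * t) * (d ^ m)⁻¹ = d ^ m * (d ^ m)′ * (d′ * t) * z := by
    rw [h.inv4 xz, ← mul_assoc, mul_assoc (d ^ m) _ (d ^ m), mul_assoc d′, h.tm, ← mul_assoc d′, ← pr_mul,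
      ← zpow_one_add, add_comm, zpow_add_one, pr_mul]
    simp only [mul_assoc]
  rw [e3, ← e2, ← e1]
  exact mul_mem (mul_mem (zpow_mem (mul_mem (ml _ _) (ml _ _)) _) (ml _ _)) (mr _ _)

omit hS hH in
theorem ntz0 (hu : u ∈ 𝐒) : u * t * u⁻¹ ≠ t * z := fun e => by
  have k : ∀ a ∈ 𝐐, ∀ b ∈ 𝐐, a * b′ * t * (a * b′)⁻¹ ≠ t * z := fun a ha b hb e => by
    rw [mul_assoc, h.tm, ← mul_assoc, h.tz, mul_left_inj, pr_inv, h.pm ha hb, h.mi hb ha, h.mm hb (inv_mem hb)] at e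
    rcases h.mzz (mul_mem ha (inv_mem hb)) (mul_mem hb (inv_mem ha)) e with ⟨e, e'⟩ | ⟨e', e⟩ <;>
      rw [mul_inv_eq_one.1 e', mul_inv_cancel] at e <;> exact h.z1 e.symm
  obtain ⟨a, ha, b, hb, rfl | rfl⟩ := h.memS hu
  exacts [k a ha b hb e, k a ha b hb (by rw [← e]; group)]

theorem ntz (hg : g ∈ H) : g * t * g⁻¹ ≠ t * z := fun e => by
  obtain ⟨k, i, -, hi⟩ := H2.U4.two_part hS hg
  have gz := cfix (hH hg)
  have e2 : g ^ (2 * k + 1) * t * (g ^ (2 * k + 1))⁻¹ = t * z := by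
    have : g * g ∈ C[t] := mem_cent1.2 (mul_inv_eq_iff_eq_mul.1 (by
      rw [← conj_conj', e, ← conj_mul, e, gz, mul_assoc, h.zz, mul_one]))
    rw [pow_succ', ← conj_conj', pow_mul, sq, cfix (pow_mem this k), e]
  have hu := pow_mem hg (2 * k + 1)
  have p : PiE {2} (g ^ (2 * k + 1)) := by simpa [mul_assoc] using (h.pgS.elt hi).e_conj i⁻¹
  generalize g ^ (2 * k + 1) = u at *
  have l : zpowers t ⊔ zpowers z ≤ 𝐒 := sup_le (zpowers_le.2 tS) (zpowers_le.2 h.zS)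
  obtain ⟨m, hm, l2⟩ := hS.scj_le (sup_le (l.trans hS.le) (zpowers_le.2 hu)) ((h.pgS.of_le l).sup (piG_zpowers.2 p)
    (zpowers_le.2 (nsup (cjz (e2 ▸ mul_mem (ml _ _) (mr _ _))) (cjz ((cfix (hH hu)).symm ▸ mr _ _)))))
  have uS := l2 (conj_mem_cj.2 (mr _ _))
  have e3 : m * u * m⁻¹ * (m * t * m⁻¹) * (m * u * m⁻¹)⁻¹ = m * t * m⁻¹ * z := by
    rw [← cfix (hH hm), cmul m t z, ← e2]; group
  obtain ⟨a, ha, e4⟩ := h.inT (l2 (conj_mem_cj.2 (mem_sup_left (ml _ _)))) (h.ntY hS hH hm) (conj_sq h.tt m)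
  have az := cfix (h.Qz ha)
  refine h.ntz0 (mul_mem (mul_mem (inv_mem (QS ha)) uS) (QS ha)) ((MulAut.conj a).injective ?_)
  simp only [MulAut.conj_apply]
  generalize m * u * m⁻¹ = v at *
  rcases e4 with e4 | e4 <;> rw [e4] at e3
  · rw [← cmul a t z, az, ← e3]; group
  · rw [← cmul a t z, az, ← cmul v _ z, cfix (h.Sz uS), mul_left_inj] at e3
    rw [← cmul a t z, az, ← e3]; group
end

theorem cQ' (hy : y ∈ 𝐘) (k : y ∈ C(cj t 𝐐)) : y ∈ 𝐐 := by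
  obtain ⟨a, ha, b, hb, rfl⟩ := h.memY.1 hy
  have : b′ ∈ C(𝐘) := cent_sup 𝐐 _ ▸ ⟨h.QQ (pr_mem.2 hb), (mul_mem_cancel_left (cents_symm h.QQ ha)).1 k⟩
  rcases h.cY (prS hb) this with e | e <;> rw [e]
  exacts [mul_mem ha (one_mem _), mul_mem ha h.zQ]
theorem rsz : r * s * (r * s) = z := (h.out (mul_mem rQ sQ) fun e => h.sP' ((mul_mem_cancel_left rP).1 e)).1
theorem r2 : r * r ≠ 1 := fun e => h.z1 (by rw [← h.rz, ← pow_add, ← two_mul, pow_mul, sq, e, one_pow])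
theorem nrs : r * s ≠ s * r := fun e => h.r2 (eq_inv_iff_mul_eq_one.1 (by rw [← h.sr, ← e, mul_inv_cancel_right]))

theorem cjQ (hx : x ∈ cj t 𝐐) (x2 : x * x = z) (hm : m ∈ C[z]) (l : cj m 𝐐 ≤ 𝐘 ⊓ C[x]) : cj m 𝐐 = 𝐐 := by
  have k : ∀ a ∈ 𝐐, ∀ b ∈ 𝐐, a * a = z → a * b ≠ b * a → m * a * m⁻¹ ∈ 𝐐 := fun a ha b hb a2 n => by
    have l1 := l (conj_mem_cj.2 ha)
    have l2 := l (conj_mem_cj.2 hb)
    have a3 : m * a * m⁻¹ * (m * a * m⁻¹) = z := by rw [conj_mul, a2, cfix hm]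
    refine (h.X (YS l1.1) a3).resolve_right fun k => n ((MulAut.conj m).injective ?_)
    simp only [MulAut.conj_apply, ← conj_mul]
    rcases h.sym.q5 (Qpr t r s ▸ hx) (Qpr t r s ▸ k) x2 a3 (mem_cent1.1 l1.2).symm with e | e <;> rw [e]
    · exact (mem_cent1.1 l2.2).symm
    · rw [mul_assoc, ← h.zc (YS l2.1), ← mul_assoc, ← mem_cent1.1 l2.2, mul_assoc]
  have k1 := k s sQ r rQ h.ss h.nrs.symm
  have k2 := k _ (mul_mem rQ sQ) s sQ h.rsz fun e => h.nrs (mul_right_cancel (e.trans (mul_assoc _ _ _).symm))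
  refine cj_of_mem_norm (mem_norm_of_cj_le (cj_le_iff.2 (Qle (mem_cj_inv.2 ?_) (mem_cj_inv.2 k1))))
  rwa [← conj_mul, mul_mem_cancel_right k1] at k2

section
variable (hY : Syl 2 𝐘 K) (hK : K ≤ C[z])
include hY hK

theorem nswap (hm : m ∈ K) : cj m 𝐐 ≠ cj t 𝐐 := fun e => by
  obtain ⟨k, hk, l⟩ := (hY.inf h.YQ').scj_le (le_inf (cj_le_of_mem hm hY.le)
    (e ▸ cj_norm m 𝐐 ▸ cj_mono m h.YQ)) (h.pgY.J m)
  rw [cj_cj] at l
  have e1 : cj (k * m) 𝐐 = cj t 𝐐 := by rw [cj_mul, e, cj_of_mem_norm hk.2]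
  have e2 : cj (k * m) (cj t 𝐐) = 𝐐 := eq_of_le_of_card_eq (fun y hy => h.cQ' (l (cj_mono _ le_sup_right hy))
    (e1 ▸ cj_cent (k * m) 𝐐 ▸ cj_mono _ h.QQ hy)) (by simp only [card_cj])
  have hn := mem_norm_of_cj_le l
  obtain ⟨i, v, hv, hi⟩ := H2.U4.two_part (hY.inf le_normalizer) ⟨mul_mem hk.1 hm, hn⟩
  have := cj_pow_swap e1 e2 i
  rw [cj_of_mem_norm (h.YQ (by simpa [mul_assoc] using conj_mem_of_norm' hv.2 hi))] at this
  exact h.n4 h.rz (h.int _ cQ (this ▸ pr_mem.2 cQ))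

theorem f2b (hx : x ∈ 𝐐) (x2 : x * x = z) (hg : g ∈ K) : g * x * g⁻¹ ∉ cj t 𝐐 := fun e => by
  obtain ⟨n, hn, k, hk, l1, l2⟩ := two_in hY (K := K ⊓ C[x]) inf_le_left (h.pgY.infl C[x])
    ((h.pgY.infl C[g * x * g⁻¹]).J g⁻¹) (inf_le_inf_right _ hY.le) (le_inf
      (cj_le_of_mem (inv_mem hg) (inf_le_left.trans hY.le)) (by rw [cj_le_iff, inv_inv, cj_cent1]; exact inf_le_right))
  rw [cj_cj] at l2
  have m := mul_mem (mul_mem hk hn.1) (inv_mem hg)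
  have xY := l1 (conj_mem_cj.2 ⟨QY hx, mem_cent1_self x⟩)
  have x3 : k * x * k⁻¹ * (k * x * k⁻¹) = z := by rw [conj_mul, x2, cfix (hK hk)]
  have a1 : cj (k * t) 𝐐 ≤ 𝐘 ⊓ C[k * x * k⁻¹] := by
    have : cj t 𝐐 ≤ 𝐘 ⊓ C[x] := le_inf le_sup_right (h.QQ.trans (cent_le_cent1 hx))
    rw [cj_mul, ← cj_cent1]; exact le_inf ((cj_mono k this).trans l1) (cj_mono k (this.trans inf_le_right))
  have a2 : cj (k * n * g⁻¹) 𝐐 ≤ 𝐘 ⊓ C[k * x * k⁻¹] := by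
    have := le_inf (QY (t := t)) ((cents_symm h.QQ).trans (cent_le_cent1 e))
    refine le_inf ((cj_mono _ this).trans l2) ((cj_mono _ (this.trans inf_le_right)).trans_eq ?_)
    rw [cj_cent1]; nth_rw 2 [← cfix hn.2]; congr 2; group
  have tz := h.Sz tS
  have b : ∀ τ ∈ C[z], τ ∈ N(𝐘) → τ * (k * x * k⁻¹) * τ⁻¹ ∈ cj t 𝐐 → False := fun τ h1 h2 h3 => by
    have c : ∀ m ∈ C[z], cj m 𝐐 ≤ 𝐘 ⊓ C[k * x * k⁻¹] → cj τ (cj m 𝐐) = 𝐐 := fun m hm l => by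
      rw [cj_cj]
      refine h.cjQ h3 (by rw [conj_mul, x3, cfix h1]) (mul_mem h1 hm) ?_
      rw [cj_mul, ← cj_cent1, ← cj_of_mem_norm h2, ← cj_inf]; exact cj_mono τ l
    have := cj_inj.1 ((c _ (hK m) a2).trans (c _ (mul_mem (hK hk) tz) a1).symm)
    rw [mul_assoc, cj_mul, cj_mul k, cj_inj] at this
    exact h.nswap hY hK (mul_mem hn.1 (inv_mem hg)) this
  rcases h.X (YS xY) x3 with k | k
  exacts [b t tz h.tY (conj_mem_cj.2 k), b 1 (one_mem _) (one_mem _) (by simpa using k)]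

theorem f2c (n : ℕ) : ∀ x ∈ 𝐐, x ^ 2 ^ n ∈ zpowers z → ∀ g ∈ K, g * x * g⁻¹ ∈ 𝐘 → g * x * g⁻¹ ∈ 𝐐 := by
  have k0 : ∀ x ∈ zpowers z, ∀ g ∈ K, g * x * g⁻¹ ∈ 𝐐 := fun x hx g hg => by
    rw [cfix (cent1_le_cent1_of_mem_zpowers hx (hK hg))]; exact zpowers_le.2 h.zQ hx
  induction n with
  | zero => exact fun x _ e g hg _ => k0 x (by simpa using e) g hg
  | succ n ih =>
  intro x hx e g hg hy
  by_cases x2 : x * x ∈ zpowers z
  · rcases (mem_zp h.zz).1 x2 with x2 | x2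
    · exact k0 x ((mem_zp h.zz).2 (h.uq hx x2)) g hg
    · exact (h.X (YS hy) (by rw [conj_mul, x2, cfix (hK hg)])).resolve_right (h.f2b hY hK hx x2 hg)
  have xP : x ∈ 𝐏 := by_contra fun k => x2 ((h.out hx k).1 ▸ mem_zpowers z)
  have := ih _ (mul_mem hx hx) (by rwa [← sq, ← pow_mul, ← pow_succ']) g hg (cmul g x x ▸ mul_mem hy hy)
  obtain ⟨a, ha, b, hb, e⟩ := h.memY.1 hy
  rw [← conj_mul, e, h.mm hb ha] at this
  rcases h.inQ (mul_mem ha ha) (mul_mem hb hb) this with b2 | b2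
  · rcases h.uq hb b2 with k | k <;> rw [e, k]
    exacts [by rwa [pr_one, mul_one], by rw [h.zp]; exact mul_mem ha h.zQ]
  exfalso
  obtain ⟨d, hd, e2⟩ : ∃ d ∈ 𝐐, d * b * d⁻¹ = b * z := by
    by_cases k : b ∈ 𝐏
    · exact ⟨s, sQ, by rw [h.sP k, h.inv4 b2]⟩
    · exact ⟨𝐜, cQ, (h.cQz hb).resolve_left fun e => k (h.cmP hb (mul_inv_eq_iff_eq_mul.1 e).symm)⟩
  have e3 : g⁻¹ * d′ * g * x * (g⁻¹ * d′ * g)⁻¹ = x * z := (MulAut.conj g).injective (by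
    simp only [MulAut.conj_apply]
    rw [← cmul g x z, e, cfix (hK hg), show g * (g⁻¹ * d′ * g * x * (g⁻¹ * d′ * g)⁻¹) * g⁻¹ =
      d′ * (g * x * g⁻¹) * d′⁻¹ by group, e, ← mul_assoc, ← h.cm ha hd, mul_assoc, mul_assoc, ← mul_assoc d′, ← pr_cj,
      e2, pr_mul, h.zp, mul_assoc])
  have hv : g⁻¹ * d′ * g ∈ K := mul_mem (mul_mem (inv_mem hg) (hY.le (prY hd))) hg
  have pv : PiE {2} (g⁻¹ * d′ * g) := by simpa using (h.pgY.elt (prY hd)).e_conj g⁻¹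
  generalize g⁻¹ * d′ * g = v at *
  have zx : z ∈ zpowers x := by
    obtain ⟨y, hy, n, y2⟩ := sq_mem (D := ⊥) (h.pgQ.elt hx) fun e => x2 (by rw [mem_bot.1 e, mul_one]; exact one_mem _)
    exact (h.uq (zpowers_le.2 hx hy) y2).resolve_left n ▸ hy
  obtain ⟨k, hk, l⟩ := (hY.inf (K := N(zpowers x)) fun y hy => mem_norm_of_cj_le (cjz (by
    rcases h.YP hy xP with e | e <;> rw [e]
    exacts [mem_zpowers x, inv_mem (mem_zpowers x)]))).scj_le (zpowers_le.2 ⟨hv, mem_norm_of_cj_le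
      (cjz (e3 ▸ mul_mem (mem_zpowers x) zx))⟩) (piG_zpowers.2 pv)
  have e4 : k * v * k⁻¹ * (k * x * k⁻¹) * (k * v * k⁻¹)⁻¹ = k * x * k⁻¹ * z := by
    rw [← cfix (hK hk.1), cmul k x z, ← e3]; group
  rcases h.YP (l (conj_mem_cj.2 (mem_zpowers v))) (zpowers_le.2 xP (conj_mem_of_norm hk.2 (mem_zpowers x)))
    with e | e <;> rw [e4] at e
  · exact h.mz1 _ e
  · refine x2 ((MulAut.conj k).injective (?_ : k * (x * x) * k⁻¹ = k * z * k⁻¹) ▸ mem_zpowers z)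
    rw [cfix (hK hk.1), ← conj_mul, ← mul_left_inj z, mul_assoc, e, mul_inv_cancel, h.zz]

/-- `Q` is strongly closed -/
theorem f2 : SCl 𝐐 K := SCl.of_syl hY QY fun a ha => h.f2c hY hK (j + 1) a ha ((mem_zp h.zz).2 (h.top ha))
end

end Sy
end H26.PS
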