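/-
Sylow 2-subgroups of type PSp4(q), IV: strongly embedded subgroups, quotients.
-/
import Cfsg.Agent.H26.PS2
import Cfsg.Agent.H17.GS23
import Cfsg.Agent.S1221

set_option autoImplicit false
set_option linter.unusedSectionVars false

namespace H26.PS
open Cfsg Subgroup H18 H17.GS
open H19 hiding eq_bot_mono

universe u
variable {G : Type u} [Group G] [Finite G] {a b d e f g m p q u v x y : G} {A B D E H K L M P S T U W X Y Z : Subgroup G}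

theorem odd_zp (h : Odd (orderOf u)) : OG (zpowers u) := og_iff.2 (by rwa [Nat.card_zpowers])
theorem OG.odd (h : OG X) (hx : x ∈ X) : Odd (orderOf x) := (og_iff.1 h).of_dvd_nat (orderOf_dvd_card' hx)
theorem mem_sq (h : Odd (orderOf u)) (k : u * u ∈ K) : u ∈ K := by
  obtain ⟨n, e⟩ := h
  have : u = (u * u) ^ (n + 1) := by
    rw [← sq, ← pow_mul, show 2 * (n + 1) = orderOf u + 1 by omega, pow_succ, pow_orderOf_eq_one, one_mul]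
  exact this ▸ pow_mem k _
theorem cent_inv (hT : PG 2 T) (h : T ≠ ⊥) : ∃ v ∈ T, v * v = 1 ∧ v ≠ 1 ∧ T ≤ C[v] :=
  let ⟨v, hv, o⟩ := exists_inv_pg (hT.infl C(T)) (hT.center_ne_bot h)
  ⟨v, hv.1, mul_self_of_ord2 o, ne_one_of_ord2 o, le_cent1_iff.2 hv.2⟩
theorem perf_cent (hE : ⁅E, E⁆ = E) (h : ⁅E, W⁆ ≤ Z) (hZ : Z ≤ C(E)) : E ≤ C(W) := by
  have k : ⁅⁅E, W⁆, E⁆ = ⊥ := commg_eq_bot.2 (h.trans hZ)
  rw [← commg_eq_bot, ← hE]
  exact three_subgroup k (by rwa [commg_comm W])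
theorem mem_O_of (hP : Syl 2 P W) (h : W ≤ C(P)) (hu : u ∈ W) (o : Odd (orderOf u)) : u ∈ O(W) :=
  (Burnside_normal_complement hP (inf_le_left.trans h)).le_Oc (zpowers_le.2 hu) (odd_zp o) (mem_zpowers u)

theorem cent_of (hT : Syl 2 T Y) (c : ∀ v ∈ T, v * v = 1 → v ≠ 1 → L ⊓ C[v] ≤ Y) (l : Y ≤ L) (hv : v ∈ Y)
    (v2 : v * v = 1) (v1 : v ≠ 1) : L ⊓ C[v] ≤ Y := fun x hx => by
  obtain ⟨g, hg, k⟩ := exists_conj_mem hT hv v2
  have := c _ k (conj_sq v2 g) (conj_ne_one v1 g) (x := g * x * g⁻¹)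
    ⟨conj_mem_of_norm (le_normalizer (l hg)) hx.1, cj_cent1 g v ▸ conj_mem_cj.2 hx.2⟩
  rwa [mul_mem_cancel_right (inv_mem hg), mul_mem_cancel_left hg] at this

theorem se_of (hT : Syl 2 T L) (h0 : T ≠ ⊥) (h1 : T ≤ Y) (l : Y ≤ L) (ne : Y ≠ L)
    (c : ∀ v ∈ T, v * v = 1 → v ≠ 1 → L ⊓ C[v] ≤ Y) (n : L ⊓ N(T) ≤ Y) : SE Y L := by
  have hT' := hT.of_le h1 l
  refine ⟨l, ne, let ⟨v, hv, o⟩ := exists_inv_pg hT.pi h0; ⟨v, h1 hv, o⟩, fun v hv o g hg e => ?_⟩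
  have v2 := mul_self_of_ord2 o
  have v1 := ne_one_of_ord2 o
  obtain ⟨y, hy, l1⟩ := hT'.sle_cj (zpowers_le.2 hv) (pg_zpowers v2)
  obtain ⟨w, hw, w2, w1, l2⟩ := cent_inv (hT.pi.J y) (by simpa)
  have lT := (cj_le_of_mem hy h1).trans l
  have k := cent_of hT' c l e (conj_sq v2 g) (conj_ne_one v1 g) (x := g * w * g⁻¹)
    ⟨cj_le_of_mem hg lT (conj_mem_cj.2 hw), cj_cent1 g v ▸ conj_mem_cj.2 (mem_cent1_symm.1 (l2 (l1 (mem_zpowers v))))⟩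
  obtain ⟨x, hx, l3⟩ := hT'.scj_le ((le_inf (cj_le_of_mem hg lT) (cj_cent1 g w ▸ cj_mono g l2)).trans
    (cent_of hT' c l k (conj_sq w2 g) (conj_ne_one w1 g))) ((hT.pi.J y).J g)
  rw [cj_cj, cj_cj] at l3
  have := n ⟨mul_mem (mul_mem (l hx) hg) (l hy), mem_norm_of_cj_le l3⟩
  rwa [mul_mem_cancel_right hy, mul_mem_cancel_left hx] at this

theorem seO (h : SE Y L) : O(Y) ≤ O(L) := fun x hx => by
  have := Cfsg.Agent.S1221.result _ h.isSE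
  rw [show (oddCore (Y.subgroupOf L)).map _ = _ from pPrimeCore_map_eq Nat.prime_two _, Oc_subgroupOf h.le] at this
  exact pPrimeCore_map_eq Nat.prime_two L ▸ ⟨⟨x, h.le (Oc_le _ _ hx)⟩, this hx, rfl⟩

/-- the join of the centralizers in `L` of the involutions of `T` -/
def Gm (L T : Subgroup G) : Subgroup G := ⨆ v : {v // v ∈ T ∧ v * v = 1 ∧ v ≠ 1}, L ⊓ C[v.1]
theorem le_Gm (hv : v ∈ T) (v2 : v * v = 1) (v1 : v ≠ 1) : L ⊓ C[v] ≤ Gm L T :=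
  le_iSup (fun v : {v // v ∈ T ∧ v * v = 1 ∧ v ≠ 1} => L ⊓ C[v.1]) ⟨v, hv, v2, v1⟩
theorem Gm_le (h : ∀ v ∈ T, v * v = 1 → v ≠ 1 → L ⊓ C[v] ≤ M) : Gm L T ≤ M :=
  iSup_le fun v => h v v.2.1 v.2.2.1 v.2.2.2
theorem Gm_L : Gm L T ≤ L := Gm_le fun _ _ _ _ => inf_le_left
theorem T_Gm (hT : Syl 2 T L) (h0 : T ≠ ⊥) : T ≤ Gm L T :=
  let ⟨_, hv, v2, v1, l⟩ := cent_inv hT.pi h0; (le_inf hT.le l).trans (le_Gm hv v2 v1)
theorem Gm_norm (h1 : g ∈ N(L)) (h2 : g ∈ N(T)) : g ∈ N(Gm L T) := mem_norm_of_cj_le (cj_le_iff.2 (Gm_le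
  fun v hv v2 v1 => cj_le_iff.1 (by
    rw [cj_inf, cj_cent1, cj_of_mem_norm h1]; exact le_Gm (conj_mem_of_norm h2 hv) (conj_sq v2 g) (conj_ne_one v1 g))))

theorem aut (hL : Sim L) (hT : Syl 2 T L) (o : Odd (orderOf u)) (hu : u ∈ N(L))
    (c : ∀ v ∈ T, v * v = 1 → v ≠ 1 → L ⊓ C[v] ≤ C[u]) : L ≤ C[u] := by
  have h0 : T ≠ ⊥ := fun e => hL.nsol (OG.sol (e ▸ hT).pi'_of_eq_bot)
  have n : L ⊴ L ⊔ zpowers u := left_normal_sup (zpowers_le.2 hu)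
  have hT' : Syl 2 T (L ⊔ zpowers u) := hT.of_idx le_sup_left
    (relIndex_sup_of_norm (zpowers_le.2 hu) ▸ (odd_zp o).relIndex L)
  have l := T_Gm hT h0
  have cu := Gm_le c
  by_cases e : L ≤ N(Gm L T)
  · exact ((hL.cases Gm_L e).resolve_left (ne_bot_mono l h0)).ge.trans cu
  have uG : u ∈ C(Gm L T) := le_cent1_iff.1 cu
  have s := seO (se_of hT' h0 (le_inf hT'.le (l.trans le_normalizer)) inf_le_left
    (fun k => e (le_sup_left.trans (k.ge.trans inf_le_right))) (fun v hv v2 v1 x hx => ⟨hx.1, by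
      obtain ⟨a, ha, b, hb, rfl⟩ := (mem_sup_of_norm (zpowers_le.2 hu)).1 hx.1
      have k := zpowers_le.2 uG hb
      exact mul_mem (le_normalizer (le_Gm hv v2 v1 ⟨ha, (mul_mem_cancel_right (cent_le_cent1 (l hv) k)).1 hx.2⟩))
        (cent_le_norm _ k)⟩) fun x hx => ⟨hx.1, Gm_norm (n.2 hx.1) hx.2⟩)
  obtain ⟨P, hP⟩ := exists_syl 2 ((L ⊔ zpowers u) ⊓ N(Gm L T) ⊓ C(Gm L T))
  have lP : P ≤ T := hT'.le_of_norm (hP.le.trans (inf_le_left.trans inf_le_left)) hP.pi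
    (norms_of_cents (hP.le.trans (inf_le_right.trans (cent_mono l))))
  have := s (Oc_le_Oc (inf_cent_normal inf_le_right) (mem_O_of hP (inf_le_right.trans (cent_mono (lP.trans l)))
    ⟨⟨mr _ _, cent_le_norm _ uG⟩, uG⟩ o))
  refine le_cent1_iff.2 (NormalIn.cents_of_disjoint (Oc_normal _ _) n ?_ this)
  rw [← Oc_eq_inf n, hL.O_eq]

theorem gen (hL : Sim L) (hT : Syl 2 T L) (c : ∀ v ∈ T, v * v = 1 → v ≠ 1 → L ⊓ C[v] ≤ W) :
    L ≤ W ∨ ∀ v ∈ T, v * v = 1 → v ≠ 1 → L ⊓ C[v] ≤ N(T) := by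
  have h0 : T ≠ ⊥ := fun e => hL.nsol (OG.sol (e ▸ hT).pi'_of_eq_bot)
  have l := T_Gm hT h0
  by_cases e : L ≤ N(Gm L T)
  · exact .inl (((hL.cases Gm_L e).resolve_left (ne_bot_mono l h0)).ge.trans (Gm_le c))
  have l2 := le_inf hT.le (l.trans le_normalizer)
  have k : ∀ v ∈ T, v * v = 1 → v ≠ 1 → L ⊓ C[v] ≤ L ⊓ N(Gm L T) := fun v hv v2 v1 =>
    le_inf inf_le_left ((le_Gm hv v2 v1).trans le_normalizer)
  exact .inr fun v hv v2 v1 => (k v hv v2 v1).trans (HubSE.out hL.simple hL.nab (se_of hT h0 l2 inf_le_left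
    (fun k => e (k.ge.trans inf_le_right)) k fun x hx => ⟨hx.1, Gm_norm (le_normalizer hx.1) hx.2⟩)
      (hT.of_le l2 inf_le_left)).1

/-- the image of an element in the quotient by `K` -/
noncomputable def br (K : Subgroup G) (x : G) : Quo K := by classical exact if h : x ∈ N(K) then qmk K ⟨x, h⟩ else 1
theorem br_eq (h : x ∈ N(K)) : br K x = qmk K ⟨x, h⟩ := dif_pos h
theorem br_mul (hx : x ∈ N(K)) (hy : y ∈ N(K)) : br K (x * y) = br K x * br K y := by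
  rw [br_eq hx, br_eq hy, br_eq (mul_mem hx hy), ← map_mul]; rfl
theorem br_inv (hx : x ∈ N(K)) : br K x⁻¹ = (br K x)⁻¹ := by rw [br_eq hx, br_eq (inv_mem hx), ← map_inv]; rfl
theorem br_pow (hx : x ∈ N(K)) (n : ℕ) : br K (x ^ n) = br K x ^ n := by
  rw [br_eq hx, br_eq (pow_mem hx n), ← map_pow]; rfl
theorem br_cj (hx : x ∈ N(K)) (hy : y ∈ N(K)) : br K (x * y * x⁻¹) = br K x * br K y * (br K x)⁻¹ := by
  rw [br_mul (mul_mem hx hy) (inv_mem hx), br_mul hx hy, br_inv hx]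
theorem br_one' (hx : x ∈ N(K)) : br K x = 1 ↔ x ∈ K := by rw [br_eq hx, qmk_eq_one]
theorem br_one : br K 1 = 1 := (br_one' (one_mem _)).2 (one_mem _)
theorem br_iff (hx : x ∈ N(K)) (hy : y ∈ N(K)) : br K x = br K y ↔ x * y⁻¹ ∈ K := by
  rw [← mul_inv_eq_one, ← br_inv hy, ← br_mul hx (inv_mem hy), br_one' (mul_mem hx (inv_mem hy))]
theorem br_mem (hH : H ≤ N(K)) (hx : x ∈ H) : br K x ∈ quo K H := br_eq (hH hx) ▸ mem_im_of hx
theorem br_ex {y : Quo K} (h : y ∈ quo K H) : ∃ x ∈ H, br K x = y :=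
  let ⟨x, hx, e⟩ := mem_im.1 h; ⟨x, hx, (br_eq x.2).trans e⟩
theorem br_mem' (hH : H ≤ N(K)) (hx : x ∈ N(K)) : br K x ∈ quo K H ↔ x ∈ K ⊔ H := by
  rw [br_eq hx, qmk_mem_quo hH]
theorem br_zp (hx : x ∈ N(K)) : quo K (zpowers x) = zpowers (br K x) := br_eq hx ▸ quo_zpowers hx
theorem br_cjs (hx : x ∈ N(K)) (H : Subgroup G) : quo K (cj x H) = cj (br K x) (quo K H) := br_eq hx ▸ quo_cj hx H
theorem br_odd (hx : x ∈ N(K)) (o : Odd (orderOf x)) : Odd (orderOf (br K x)) :=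
  o.of_dvd_nat (br_eq hx ▸ (orderOf_map_dvd _ _).trans (orderOf_mk x hx).dvd)
theorem br_cm (hx : x ∈ N(K)) (hy : y ∈ N(K)) (h : x ∈ C[y]) : br K x ∈ C[br K y] :=
  mem_cent1.2 (by rw [← br_mul hx hy, ← br_mul hy hx, mem_cent1.1 h])
theorem br_norm (hx : x ∈ N(K)) (h : x ∈ N(H)) : br K x ∈ N(quo K H) :=
  mem_norm_iff_cj.2 (by rw [← br_cjs hx, cj_of_mem_norm h])

/-- coprime action: lifting an element centralizing `A` modulo `K` -/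
theorem lift_c (hK : OG K) (hA : PG 2 A) (hn : A ≤ N(K)) (hx : x ∈ N(K)) (h : ∀ a ∈ A, br K x ∈ C[br K a]) :
    ∃ n ∈ K, n * x ∈ C(A) :=
  exists_mul_mem_cent hn (hK.cop hA) (sol_pg hA) fun a ha => by
    rw [← br_iff (mul_mem (mul_mem (hn ha) hx) (inv_mem (hn ha))) hx, br_cj (hn ha) hx, ← mem_cent1.1 (h a ha),
      mul_inv_cancel_right]
theorem lift_c1 (hK : OG K) (hv : v * v = 1) (hn : v ∈ N(K)) (hx : x ∈ N(K)) (h : br K x ∈ C[br K v]) :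
    ∃ n ∈ K, n * x ∈ C[v] :=
  cent_zpowers v ▸ lift_c hK (pg_zpowers hv) (zpowers_le.2 hn) hx fun a ha => by
    rcases (mem_zp hv).1 ha with rfl | rfl
    exacts [mem_cent1.2 (by simp [br_one]), h]
theorem lift_cj (hK : OG K) (hv : v * v = 1) (hu : u * u = 1) (hn : v ∈ N(K)) (hn' : u ∈ N(K)) (h : br K u = br K v) :
    ∃ n ∈ K, n * u * n⁻¹ = v := by
  have k := (br_iff hn' hn).1 h
  obtain ⟨n, hk, l⟩ := exists_cj_le_of_le_sup (B := zpowers u) (zpowers_le.2 hn) (zpowers_le.2 (by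
    simpa using mul_mem (mem_sup_left k) (mr v K))) (hK.cop (pg_zpowers hu)) (sol_pg (pg_zpowers hu))
  refine ⟨n, hk, ((mem_zp hv).1 (l (conj_mem_cj.2 (mem_zpowers u)))).elim (fun e => ?_) id⟩
  obtain rfl : u = 1 := by simpa using e
  rw [e, hK.eq_one (by simpa using k) hv]

end H26.PS
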