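/-
Four-dimensional matrix groups: the assembly of `H11/D4z`, without the traces of `L₂(7)`.
-/
import Cfsg.Agent.H11.D4z
import Cfsg.Agent.H26.D4c

set_option autoImplicit false
set_option linter.unusedSectionVars false
set_option linter.style.haveILetI false

namespace H26.D4
open H11.D4
open Matrix Cfsg Cfsg.Geo H27.Asch
open scoped MatrixGroups

universe u
variable {F : Type u} [Field F] [Fintype F] {H P : Subgroup (G4 F)}

/-- the chunks of the proof -/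
structure Ch' : Prop where
  ab : AB.{u}
  dd : DD.{u}
  qq : QQ.{u}
  xl : XL'.{u}
  ea : EA.{u}
  k1 : K1.{u}
  k2 : K2.{u}
  el : EL.{u}
  eu : EU.{u}
  nm : NM.{u}
  cc : CC.{u}

theorem Ch'.four (C : Ch'.{u}) (h : Hy P) (hT : TG P) (p : ℕ) [Fact p.Prime] [CharP F p] :
    P = specialLinear (Fin 4) F ∨ Real P ∨ FU P ∨ (IA7 (Qt P) ∧ T7 p P) ∨ ((2 : F) ≠ 0 ∧ IU42 (Qt P) ∧ T3 p P) ∨
      ((3 : F) = 0 ∧ IL34 (Qt P) ∧ TrU 3 P) ∨
      ((2 : F) ≠ 0 ∧ (7 : F) ≠ 0 ∧ NoTv P ∧ NoRf P ∧ IL27 (Qt P)) := by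
  by_cases hn : NoTv P ∧ ((2 : F) ≠ 0 → NoRf P)
  swap
  · have := C.ab F P h hT hn; tauto
  let σ := algebraMap F (AlgebraicClosure F)
  haveI := h.simp
  have e : ∀ n : ℕ, (n : AlgebraicClosure F) = 0 ↔ (n : F) = 0 := fun n => by rw [← map_natCast σ, map_eq_zero]
  have e2 : (2 : AlgebraicClosure F) ≠ 0 → (2 : F) ≠ 0 := fun a b => a (by exact_mod_cast (e 2).2 (by exact_mod_cast b))
  have g := up_gd σ h hn.1
  have n : (2 : AlgebraicClosure F) ≠ 0 → (up σ h).Nr := fun a => (up_cx σ h (e2 a) hn.1 (hn.2 (e2 a))).nr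
  have l2 : IL2 (Qt P) → Real P ∨ ((2 : F) ≠ 0 ∧ (7 : F) ≠ 0 ∧ NoTv P ∧ NoRf P ∧ IL27 (Qt P)) := fun a =>
    (C.xl _ _ p _ h.nab g n a).imp (real_of_up σ h) fun ⟨a, b, c⟩ =>
      ⟨e2 b, fun d => c (by exact_mod_cast (e 7).2 (by exact_mod_cast d)), hn.1, hn.2 (e2 b), a⟩
  have a7 : IA7 (Qt P) → IA7 (Qt P) ∧ T7 p P := fun a => ⟨a, t7_of_up σ h (C.ea _ _ p _ h.nab g n a)⟩
  by_cases t : (2 : F) = 0
  · rcases C.dd F P h t hn.1 with a | a | a
    · tauto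
    · have := a7 a; tauto
    · have := l2 a; tauto
  have c := up_cx σ h t hn.1 (hn.2 t)
  rcases C.cc _ _ p _ h.nab c (C.qq _ _ p _ h.nab c) with a | a | a | a | a | a
  · have := l2 a; tauto
  · have := a7 a; tauto
  · have b := C.eu _ _ p _ h.nab c a
    exact .inr (.inr (.inr (.inr (.inl ⟨t, a, fun e => trL_of_up σ h (b.1 e), fun e => trU_of_up σ h (b.2 e)⟩))))
  · have b := C.el _ _ p _ h.nab c a
    exact .inr (.inr (.inr (.inr (.inr (.inl ⟨by exact_mod_cast (e 3).1 (by exact_mod_cast b.1), a,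
      trU_of_up σ h b.2⟩)))))
  · exact absurd a (C.k1 _ _ p _ h.nab c)
  · exact absurd a.2 (C.k2 _ _ p _ h.nab c a.1)

theorem Ch'.s5782 (C : Ch'.{u}) (hH : IsMaximalIn (specialLinear (Fin 4) F) H) (hS : InLinearResidualClass H) :
    ∃ (P : Subgroup (G4 F)) (p : ℕ), IsResidualCore H P ∧ p.Prime ∧ Fintype.card F = p ∧
    ((IA7 (Qt P) ∧ (p = 2 ∨ p % 7 = 1 ∨ p % 7 = 2 ∨ p % 7 = 4)) ∨ (IU42 (Qt P) ∧ p % 6 = 1)) := by
  obtain ⟨P, hc, h1, h3, h2⟩ := hS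
  obtain ⟨p, hch⟩ := CharP.exists F
  have hp := CharP.char_is_prime F p
  haveI := Fact.mk hp
  refine ⟨P, p, hc, hp, ?_⟩
  have hy := res_hy hc (hc.le.trans hH.1.le)
  have hT := res_tg hc
  have nr : ¬ Real P := fun h => (form_real hy.top h).elim h1 h3
  have un : ¬ TrU p P := fun h => by
    refine (form_trace hy.top (σ := frobenius F p) (fun a => ?_) fun x hx => (h x hx).symm).elim nr h2
    rw [frobenius_def, frobenius_def, ← pow_mul, ← sq]
    exact hT.pow p 2 (fun x hx => by rw [sq, pow_mul, h x hx, h _ (inv_mem hx), inv_inv]) a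
  have c1 : TrL p P → Fintype.card F = p := fun h => by
    obtain ⟨m, h1, h2, h3⟩ := H21.D3.card_cases p one_ne_zero (hT.pow p 1 (by simpa [TrL] using h))
    rw [h3, show m = 1 by omega, pow_one]
  rcases C.four hy hT p with h | h | h | ⟨h, h'⟩ | ⟨t2, h, h'⟩ | ⟨t3, h, h'⟩ | ⟨a, b, c, d, e⟩
  · exact absurd (h ▸ hc.le) hH.1.not_ge
  · exact absurd h nr
  · obtain ⟨σ, a, -, b⟩ := h.1
    exact ((form_trace hy.top a b).elim nr h2).elim
  · have c := mt h'.2 un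
    exact ⟨c1 (h'.1 (by omega)), .inl ⟨h, by omega⟩⟩
  · have b := H21.D3.mod_ne_zero (p := p) Nat.prime_two (by exact_mod_cast t2) 1
    have c := mt h'.2 un
    rw [pow_one] at b
    exact ⟨c1 (h'.1 (by omega)), .inr ⟨h, by omega⟩⟩
  · obtain rfl := (char_eq (F := F) (p := p) Nat.prime_three).1 t3
    exact absurd h' un
  · exact absurd hH (C.nm F H P hy a b c d e hc).1

theorem Ch'.s5785 (C : Ch'.{u}) {q : ℕ} (hF : Fintype.card F = q ^ 2)
    (hH : IsMaximalIn (GU 4 F q ⊓ specialLinear (Fin 4) F) H) (hS : InUnitaryResidualClass H) :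
    ∃ P : Subgroup (G4 F), IsResidualCore H P ∧ q.Prime ∧
    ((IA7 (Qt P) ∧ (q % 7 = 3 ∨ q % 7 = 5 ∨ q % 7 = 6)) ∨ (IL34 (Qt P) ∧ q = 3) ∨ (IU42 (Qt P) ∧ q % 6 = 5)) := by
  obtain ⟨P, hc, h1, h3⟩ := hS
  obtain ⟨p, hch⟩ := CharP.exists F
  have hp := CharP.char_is_prime F p
  haveI := Fact.mk hp
  have hP := hc.le.trans hH.1.le
  have hy := res_hy hc (hP.trans inf_le_right)
  have hT := res_tg hc
  obtain ⟨n, -, hn⟩ := FiniteField.card F p
  obtain ⟨d, -, hd⟩ := half_pow hF hp hn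
  have tq : ∀ x ∈ P, T x⁻¹ = T x ^ p ^ d := fun x hx => by
    rw [T, T, ← (suΦ hF 4).mem_iso_iff.1 (suΦ_iso hF ▸ (hP hx).1), Frm.trace_adj, H11.frob_apply, hd]
  have nr' : ¬ Real P := fun h => (form_real hy.top h).elim h1 h3
  have nr : ¬ TrL p P := fun h => nr' fun x hx => (tq x hx).trans (by
    clear tq hd
    induction d with
    | zero => simp
    | succ d ih => rw [pow_succ, pow_mul, ih, h x hx])
  have c2 : TrU p P → q = p := fun h => by
    obtain ⟨m, h1, h2, h3⟩ := H21.D3.card_cases p two_ne_zero (hT.pow p 2 fun x hx => by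
      rw [sq, pow_mul, h x hx, h _ (inv_mem hx), inv_inv])
    rw [hF, hd, ← pow_mul] at h3
    have := Nat.pow_right_injective hp.two_le h3
    rw [hd, show d = 1 by omega, pow_one]
  refine ⟨P, hc, ?_⟩
  rcases C.four hy hT p with h | h | h | ⟨h, h'⟩ | ⟨t2, h, h'⟩ | ⟨t3, h, h'⟩ | ⟨a, b, c, d, e⟩
  · exact absurd ((h ▸ hP.trans inf_le_left).trans (suΦ_iso hF ▸ Frm.iso_le_sim _)) (not_SL_le_sim (by simp) _)
  · exact absurd h nr'
  · exact absurd ((h.2 q hF (hP.trans inf_le_left)).trans hc.le) hH.1.not_ge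
  · have c := mt h'.1 nr
    obtain rfl := c2 (h'.2 (by omega))
    exact ⟨hp, .inl ⟨h, by omega⟩⟩
  · have b := H21.D3.mod_ne_zero (p := p) Nat.prime_two (by exact_mod_cast t2) 1
    have c := mt h'.1 nr
    rw [pow_one] at b
    obtain rfl := c2 (h'.2 (by omega))
    exact ⟨hp, .inr (.inr ⟨h, by omega⟩)⟩
  · obtain rfl := (char_eq (F := F) (p := p) Nat.prime_three).1 t3
    obtain rfl := c2 h'
    exact ⟨hp, .inr (.inl ⟨h, rfl⟩)⟩
  · exact absurd hH ((C.nm F H P hy a b c d e hc).2 q hF)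

end H26.D4
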