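import Cfsg.Agent.H21.MS3
import Cfsg.Agent.H28.WNorm
import Cfsg.Agent.H2.GWCtx

/-! S5899, chunk `E3b`: the `L₃(2)` end configuration with `Y` central in `Q`. -/

set_option autoImplicit false
set_option linter.unusedVariables false
set_option linter.unusedSectionVars false

namespace H26.MS
open Cfsg Subgroup H18 H17.GS H28.S H2.GW
open H19 hiding eq_bot_mono
open H28.NG hiding Hyp Uniq Ch
open H27.MS
open H29.PU (bm)
open scoped MatrixGroups

universe u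
variable {G : Type u} [Group G] [Finite G] {N Q T S Y U R M C : Subgroup G} {z y a : G}

theorem iso_card {X : Type} [Group X] (l : Q ≤ N) (h : Iso N Q X) : #N = Nat.card X * #Q := by
  obtain ⟨π, sj, k⟩ := h
  have e : π.ker = Q.subgroupOf N := Subgroup.ext k
  rw [← card_subgroupOf' l, ← e, ← Subgroup.card_top (G := X), ← MonoidHom.range_eq_top.2 sj, ← index_ker,
    index_mul_card]

theorem c32 : Nat.card SL(3, ZMod 2) = 168 := by
  have h := H11.card_units_mul_card_sl (ι := Fin 3) (F := ZMod 2)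
  rw [Matrix.card_GL_field, Fin.prod_univ_three] at h
  simp only [ZMod.card, Fin.val_zero, Fin.val_one, Fin.val_two] at h
  exact (one_mul _).symm.trans h

theorem l7_card (h : Fr N Q T) (l : L7 N Q) : #N = 168 * #Q ∧ #T = 8 * #Q := by
  have c := iso_card h.nq.le l
  rw [c32] at c
  refine ⟨c, ?_⟩
  obtain ⟨k, e⟩ := (h.syl.pi.relIndex Q).exists_pow (relIndex_ne_zero' _ _)
  have a := card_mul_relIndex (H21.MS.fr_le h)
  have b := h.syl.card_mul
  have o := h.syl.not_dvd Nat.prime_two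
  have p := card_pos Q
  have d : 2 ^ k * T.relIndex N = 168 := Nat.eq_of_mul_eq_mul_left p (by rw [← mul_assoc, ← e, a, b, c, mul_comm])
  have : k ≤ 7 := by
    by_contra g
    have := Nat.pow_le_pow_right two_pos (not_le.1 g)
    have := relIndex_pos T N
    nlinarith
  rw [← a, e, mul_comm]
  interval_cases k <;> omega

theorem cm_le_cent (hU : Abelem 2 U) (n : a ∈ N(U)) (s : a * a ∈ C(U)) : cm U a ≤ U ⊓ C[a] := by
  have := (ea_bot hU).br_le_cm n (norm_bot.ge (mem_top a)) (Cm_bot (W := U) ▸ s)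
  rwa [sup_bot_eq, Cm_bot, cent_zpowers] at this

theorem en_nz (h : En S Y Q z y) : ¬ C[z] ≤ N(Y) := by
  have := h.nz; rwa [h.eZ, cent_zpowers] at this

theorem en_SM (h : En S Y Q z y) : S ≤ N(Y) := (H29.PU.nrm_bm le_normalizer).trans h.NB

theorem e3A (tr : TR.{u}) (nt : NT.{u}) (h : En S Y Q z y) (l : L7 C[z] Q) (c : Q ≤ C(Y)) (eU : U = Kc Y C[z]) :
    ∃ R, Q ≤ R ∧ R ≤ S ∧ N(Y) ≤ N(R) ∧ #R = 4 * #Q ∧ #U = 16 ∧ U ≤ Zs Q ∧
      ∀ a ∈ R, a ∉ Q → U ⊓ C[a] = Y ∧ cm U a = Y := by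
  have fr := h.lc.toFr
  have QS := H21.MS.fr_le fr
  have SC := fr.syl.le
  have SM := en_SM h
  have nz := en_nz h
  have cY : #Y = 4 := h.eV ▸ h.k4.card
  have zY : z ∈ Y := h.eV ▸ left_mem_V4 z y
  have UZ : U ≤ Zs Q := eU ▸ Kc_le_of (abelem_le_Ohm1 h.ab (le_inf h.yq (cents_symm c)))
    (fr.nq.norm.trans (norm_le_norm_Ohm1_center 2 Q))
  have YU : Y ≤ U := eU ▸ le_Kc
  have nU : C[z] ≤ N(U) := eU ▸ Kc_norm
  have ab : Abelem 2 U := abelem_mono (abelem_Ohm1_center 2 Q) UZ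
  have UQ : U ≤ Q := UZ.trans ((Ohm1_le _ _).trans inf_le_left)
  have QU : Q ≤ C(U) := cents_symm (UZ.trans ((Ohm1_le _ _).trans inf_le_right))
  have nc : ¬ C[z] ≤ C(U) := fun k => nz (k.trans ((cent_mono YU).trans (cent_le_norm Y)))
  have sec : Sec C[z] Q ⊥ U := ⟨ea_bot ab, nU, le_top.trans norm_bot.ge, Cm_bot (W := U) ▸ QU, Cm_bot (W := U) ▸ nc⟩
  have tc := (tr h.hz h.lc fun k => nc (k.trans (cent_mono UZ))).resolve_left fun k =>
    nz ((H21.MS.norm_bm fr k).trans h.NB)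
  obtain ⟨A, mA, cA, -, nA⟩ := tc.four
  obtain ⟨cC, cS⟩ := l7_card fr l
  have q0 := card_pos Q
  have AS : A ≤ S := mA.le
  have AQ : A ≤ N(Q) := (AS.trans SC).trans fr.nq.norm
  have PR : C[z] ⊓ N(Y) ≤ N(A ⊔ Q) := by
    have i := card_mul_relIndex (inf_le_left : C[z] ⊓ N(bm 2 S) ≤ _)
    rw [tc.idx, mul_comm 7] at i
    rcases eq_of_prime_index (inf_le_inf_left C[z] h.NB) inf_le_left
      (by rw [Nat.eq_of_mul_eq_mul_left (card_pos _) i]; norm_num) with e | e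
    · rw [e, ← nA]; exact inf_le_right
    · exact absurd (inf_eq_left.1 e) nz
  have RS : A ⊔ Q ≤ S := sup_le AS QS
  have sq : ∀ a ∈ A ⊔ Q, a * a ∈ Q := fun a ha => by
    obtain ⟨b, hb, q, hq, rfl⟩ := (mem_sup_of_norm' AQ).1 ha
    have := mA.ea.2 b hb
    convert mul_mem (conj_mem_of_norm (AQ hb) hq) hq using 1
    rw [inv_eq_of_mul_eq_one_right ((sq b).symm.trans this)]; group
  have eF : U ⊓ C(A) = U ⊓ C(A ⊔ Q) := by rw [cent_sup, ← inf_assoc, inf_right_comm, inf_eq_left.2 (cents_symm QU)]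
  have c1 : #U ≤ #(U ⊓ C(A ⊔ Q)) * 4 := by
    have a1 := H28.MaxAb.relIndex_le mA (UQ.trans QS) ab
    have a2 : C(U).relIndex A ≤ Q.relIndex A := relIndex_le_of_le_left QU (relIndex_ne_zero' _ _)
    have a3 := card_mul_relIndex (le_sup_left : Q ≤ Q ⊔ A)
    rw [relIndex_sup_of_norm AQ, sup_comm, cA, mul_comm 4] at a3
    rw [← eF, ← card_inf_mul_relIndex C(A) U, inf_comm, ← Nat.eq_of_mul_eq_mul_left q0 a3]
    exact Nat.mul_le_mul_left _ (a1.trans a2)
  set R := A ⊔ Q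
  set F := U ⊓ C(R)
  have hR : H17.GS.Hyp R S := ⟨RS, by have := card_mul_relIndex RS; rw [cA, cS] at this; nlinarith⟩
  have c2 : #F ≤ 4 := by
    obtain ⟨t, tS, tR⟩ := hyp_ex hR
    have Fab : Abelem 2 F := abelem_mono ab inf_le_left
    have tF : t ∈ N(F) := norms_inf (SC.trans nU) (norms_cent ((le_inf SC SM).trans PR)) tS
    have b1 := (ab_cm Fab.1 tF).1
    have b2 := card_le (cm_le_cent Fab tF (cents_symm inf_le_right (hyp_mul hR tS tS tR tR)))
    have b3 : F ⊓ C[t] ≤ zpowers z := fun f ⟨⟨f1, f2⟩, f3⟩ => h.eZ ▸ H19.mem_Ohm1 ⟨QS (UQ f1), le_cent1_iff.1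
      (hyp_le hR tS tR (le_cent1_iff.2 f2) (mem_cent1_symm.1 f3))⟩ (ab.2 f f1)
    have b4 := card_le b3
    rw [Nat.card_zpowers, h.k4.t2] at b4
    nlinarith
  have eq : ∀ a ∈ R, a ∉ Q → U ⊓ C[a] = F := fun a ha n => by
    have b1 := nt h.hz h.lc sec (SC (RS ha)) n
    have b2 : F ≤ U ⊓ C[a] := inf_le_inf_left _ (cent_le_cent1 ha)
    obtain ⟨k, e⟩ := card_dvd b2
    have := card_pos (U ⊓ C[a])
    have : k = 1 := by
      rcases k with _ | _ | k
      · omega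
      · rfl
      · nlinarith
    exact (eq_of_le_of_card_eq b2 (by rw [e, this, mul_one])).symm
  obtain ⟨a, ⟨aR, aY⟩, aQ⟩ : ∃ a ∈ R ⊓ C(Y), a ∉ Q := SetLike.not_le_iff_exists.1 fun k => by
    have b1 := card_le_two (X := R) (T := C(Y)) fun a ha b hb a1 b1 => by
      rw [h.eV, cent_V4] at a1 b1 ⊢
      have s1 := h.k4.swap_of_not (h.eV ▸ SM (RS ha)) (SC (RS ha)) fun k => a1 ⟨SC (RS ha), k⟩
      have s2 := h.k4.swap_of_not (h.eV ▸ SM (RS hb)) (SC (RS hb)) fun k => b1 ⟨SC (RS hb), k⟩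
      refine ⟨SC (RS (mul_mem ha hb)), mem_cent1_conj.2 ?_⟩
      calc _ = a * (b * y * b⁻¹) * a⁻¹ := by group
        _ = a * z * a⁻¹ * (a * y * a⁻¹) := by rw [s2]; group
        _ = y := by rw [s1, mem_cent1_conj.1 (SC (RS ha)), h.k4.tts]
    have := card_le k
    omega
  have eY : Y = F := eq_of_le_of_card_ge (eq a aR aQ ▸ le_inf YU (le_cent1_iff.2 aY)) (cY ▸ c2)
  have cU : #U = 16 := by
    have b1 := nt h.hz h.lc sec (SC (RS aR)) aQ
    obtain ⟨k, e⟩ := (ab_pg ab).exists_card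
    rw [eq a aR aQ, ← eY, cY, e] at b1
    rw [← eY, cY, e] at c1
    have : k ≤ 4 := (Nat.pow_le_pow_iff_right one_lt_two).1 c1
    rw [e]
    interval_cases k <;> omega
  have RY : R ≤ C(Y) := cents_symm (eY ▸ inf_le_right)
  have sy : Syl 2 R C(Y) := by
    have b := (h.syl.of_le SM le_top).inf_normal (cent_normal_norm Y)
    rcases eq_of_prime_index (le_inf RS RY) inf_le_left (hR.idx ▸ Nat.prime_two) with e | e
    · exact e ▸ b
    · exact absurd ((inf_eq_left.1 e).trans (cent_le_cent1 (h.eV ▸ right_mem_V4 z y))) h.ny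
  have eR : R = Oc {2} C(Y) := le_antisymm
    (le_Oc ⟨RY, (le_inf (cent_le_cent1 zY) (cent_le_norm Y)).trans PR⟩ sy.pi) (Oc_le_hall sy)
  refine ⟨R, le_sup_right, RS, eR ▸ norms_Oc _ (norm_le_norm_cent Y), cA, cU, UZ, fun a ha n => ?_⟩
  have e := (eq a ha n).trans eY.symm
  have aU := nU (SC (RS ha))
  have b1 := (ab_cm ab.1 aU).1
  rw [e, cU, cY] at b1
  exact ⟨e, eq_of_le_of_card_eq (e ▸ cm_le_cent ab aU (QU (sq a ha))) (by omega)⟩

theorem e3B (hd : HD.{u}) (h : En S Y Q z y) (l : L7 C[z] Q) (eU : U = Kc Y C[z]) (QR : Q ≤ R) (RS : R ≤ S)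
    (nR : N(Y) ≤ N(R)) (cR : #R = 4 * #Q) (cU : #U = 16) (UZ : U ≤ Zs Q)
    (k : ∀ a ∈ R, a ∉ Q → U ⊓ C[a] = Y ∧ cm U a = Y) : False := by
  have fr := h.lc.toFr
  have SC := fr.syl.le
  have SM := en_SM h
  have cY : #Y = 4 := h.eV ▸ h.k4.card
  have zY : z ∈ Y := h.eV ▸ left_mem_V4 z y
  have YU : Y ≤ U := eU ▸ le_Kc
  have nU : C[z] ≤ N(U) := eU ▸ Kc_norm
  have nQ := fr.nq.norm
  have ab : Abelem 2 U := abelem_mono (abelem_Ohm1_center 2 Q) UZ
  have UQ : U ≤ Q := UZ.trans ((Ohm1_le _ _).trans inf_le_left)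
  have QU : Q ≤ C(U) := cents_symm (UZ.trans ((Ohm1_le _ _).trans inf_le_right))
  obtain ⟨s, sM, sz, sy⟩ := h.sw
  obtain ⟨t, tS, ty⟩ := SetLike.not_le_iff_exists.1 h.ny
  have tz := mem_cent1_conj.1 (SC tS)
  have tt := h.k4.swap_of_not (h.eV ▸ SM tS) (SC tS) ty
  have br : ∀ V ≤ R, ¬ V ≤ Q → ⁅U, V⁆ = Y := fun V a b => by
    obtain ⟨x, x1, x2⟩ := SetLike.not_le_iff_exists.1 b
    refine le_antisymm (commutator_le.2 fun u hu v hv => ?_)
      ((k x (a x1) x2).2 ▸ commutator_mono le_rfl (zpowers_le' x1))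
    by_cases c : v ∈ Q
    · rw [commutatorElement_eq_one_iff_mul_comm.2 (QU c u hu)]; exact one_mem _
    · exact (k v (a hv) c).2 ▸ mem_cm hu
  obtain ⟨m, mM, mQ⟩ : ∃ m ∈ N(Y), ¬ cj m U ≤ Q := by
    by_contra! H
    have iv : ∀ l : List G, (∀ x ∈ l, x ∈ C[z] ∨ x ∈ N(Y)) →
        ∀ x ∈ (l.map fun x => x⁻¹).reverse, x ∈ C[z] ∨ x ∈ N(Y) := fun l a x b => by
      obtain ⟨w, c, rfl⟩ := List.mem_map.1 (List.mem_reverse.1 b)
      exact (a w c).imp inv_mem inv_mem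
    have P : ∀ n, ∀ l : List G, l.length = n → (∀ x ∈ l, x ∈ C[z] ∨ x ∈ N(Y)) → cj l.prod U ≤ Q := by
      intro n
      induction n with
      | zero => intro l a _; rw [List.length_eq_zero_iff.1 a, List.prod_nil, cj_one]; exact UQ
      | succ n ih =>
        have K : ∀ l : List G, l.length = n + 1 → (∀ x ∈ l, x ∈ C[z] ∨ x ∈ N(Y)) → cj l.prod U ≤ R := by
          rintro (_ | ⟨x, l⟩) a b
          · cases a
          · have := ih l (Nat.succ_injective a) fun w c => b w (List.mem_cons_of_mem _ c)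
            rw [List.prod_cons, cj_mul]
            exact (b x List.mem_cons_self).elim (fun c => (cj_le_of_mem_norm (nQ c) this).trans QR)
              fun c => cj_le_of_mem_norm (nR c) (this.trans QR)
        intro l a b
        by_contra n1
        have e1 := br _ (K l a b) n1
        have K2 := K _ (by rw [List.length_reverse, List.length_map, a]) (iv l b)
        rw [← List.prod_inv_reverse] at K2
        have e2 := br _ K2 fun c => ne_bot_of_mem zY h.k4.t1 (by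
          rw [← e1, commg_eq_bot, ← cj_cent, le_cj_iff]; exact c.trans QU)
        refine n1 (H _ (mem_norm_iff_cj.2 ?_))
        rw [← e2, cj_comm, cj_cj l.prod, mul_inv_cancel, cj_one, commg_comm, e1, e2]
    let D : Subgroup G :=
      { carrier := {g | ∃ l : List G, (∀ x ∈ l, x ∈ C[z] ∨ x ∈ N(Y)) ∧ l.prod = g}
        one_mem' := ⟨[], by simp, rfl⟩
        mul_mem' := by
          rintro _ _ ⟨a, b, rfl⟩ ⟨c, d, rfl⟩
          exact ⟨a ++ c, fun x e => (List.mem_append.1 e).elim (b x) (d x), List.prod_append⟩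
        inv_mem' := by
          rintro _ ⟨a, b, rfl⟩
          exact ⟨_, iv a b, (List.prod_inv_reverse a).symm⟩ }
    have top : C[z] ⊔ N(Y) = ⊤ := (h.lc.mx _ le_sup_left).resolve_left fun e =>
      h.k4.ne ((mem_cent1_conj.1 (e.le (mem_sup_right sM))).symm.trans sz)
    have dt : ⊤ ≤ D := top ▸ sup_le (fun g a => ⟨[g], by simp [a], by simp⟩) fun g a => ⟨[g], by simp [a], by simp⟩
    have kq : Kc U ⊤ ≤ Q := Kc_le_of_cj fun g a => let ⟨l, b, c⟩ := dt a; c ▸ P _ l rfl b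
    rcases h.lc.hy.simple.eq_bot_or_eq_top_of_normal _ (Kc_normal (le_top : U ≤ ⊤)).normal with e | e
    · exact ne_bot_of_mem (le_Kc (YU zY)) h.k4.t1 e
    · exact en_nz h (le_top.trans (e ▸ kq.trans (QR.trans (RS.trans SM))))
  have sU : ∀ g, g * z * g⁻¹ = y → cj g U = cj s U := fun g e => by
    have : s⁻¹ * g ∈ C[z] := mem_cent1_conj.2 (by
      calc _ = s⁻¹ * (g * z * g⁻¹) * s := by group
        _ = z := by rw [e, ← sz]; group)
    rw [← mul_inv_cancel_left s g, cj_mul, cj_of_mem_norm (nU this)]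
  have n0 : ¬ cj s U ≤ Q := by
    rcases h.k4.conj_cases (h.eV ▸ mM) with e | e | e
    · exact absurd ((cj_of_mem_norm (nU (mem_cent1_conj.2 e))).le.trans UQ) mQ
    · exact sU m e ▸ mQ
    · rw [← sU (t * m) (by
        calc _ = t * (m * z * m⁻¹) * t⁻¹ := by group
          _ = t * z * t⁻¹ * (t * y * t⁻¹) := by rw [e]; group
          _ = y := by rw [tz, tt, h.k4.tts]), cj_mul, cj_le_iff, cj_of_mem_norm (nQ (SC (inv_mem tS)))]
      exact mQ
  have ss : s * s ∈ C[z] := mem_cent1_conj.2 (by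
    calc _ = s * (s * z * s⁻¹) * s⁻¹ := by group
      _ = z := by rw [sz, sy])
  have sR := cj_of_mem_norm (nR sM)
  have sY := cj_of_mem_norm sM
  have U1R : cj s U ≤ R := sR ▸ cj_mono s (UQ.trans QR)
  have U1C := U1R.trans (RS.trans SC)
  have YU1 : Y ≤ cj s U := sY ▸ cj_mono s YU
  obtain ⟨a, aU, aQ⟩ : ∃ a ∈ U, a ∉ cj s Q := SetLike.not_le_iff_exists.1 fun c =>
    n0 ((cj_mono s c).trans (by rw [cj_cj, cj_of_mem_norm (nQ ss)]))
  have i1 : Q ⊓ cj s U = Y := by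
    refine le_antisymm ?_ (le_inf h.yq YU1)
    have := congrArg (cj s) (k _ (conj_mem_of_norm' (nR sM) (QR (UQ aU))) fun c => aQ (mem_cj.2 c)).1
    rw [cj_inf, cj_cent1, sY, show s * (s⁻¹ * a * s) * s⁻¹ = a by group] at this
    rw [← this, inf_comm]
    exact inf_le_inf_left _ (QU.trans (cent_le_cent1 aU))
  have eR : Q ⊔ cj s U = R := eq_of_le_of_card_eq (sup_le QR U1R) (by
    have := card_sup_mul_inf (U1C.trans nQ)
    rw [i1, cY, card_cj, cU] at this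
    omega)
  have eR' : U ⊔ cj s Q = R := by
    have := congrArg (cj s) eR
    rwa [cj_sup, cj_cj s s U, cj_of_mem_norm (nU ss), sR, sup_comm] at this
  have Q1C : cj s Q ≤ C[z] := (eR' ▸ le_sup_right : _ ≤ R).trans (RS.trans SC)
  have cm1 : cj s U ≤ Cm U Q := by
    have e : Q = U ⊔ cj s Q ⊓ Q := by rw [← sup_inf_modl (Q1C.trans nU) UQ, eR', inf_eq_right.2 QR]
    rw [e]
    exact Cm_sup le_normalizer (inf_le_left.trans (Q1C.trans nU)) (le_Cm (U1C.trans nU) (commg_le_right (U1C.trans nU)))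
      (Cm_of_cent (U1C.trans nU) (cents_symm (inf_le_left.trans (by rw [← cj_cent]; exact cj_mono s QU))))
  have cm2 : C[z] ≤ Cm U Q := inf_eq_left.1 ((fr.smp _ ⟨inf_le_left, norms_inf le_normalizer (norms_Cm nU nQ)⟩).resolve_left
    fun c => n0 ((le_inf U1C cm1).trans c))
  have ab1 := abelem_J ab s
  obtain rfl : U = Q := by
    by_contra ne
    obtain ⟨Q₀, a3, ⟨a1, a2⟩, a4⟩ := H1.exists_maximal_ge (P := fun B => B ⊴ C[z] ∧ B < Q)
      ⟨⟨UQ.trans fr.nq.le, nU⟩, UQ.lt_of_ne ne⟩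
    obtain ⟨b, b1, b2⟩ := SetLike.not_le_iff_exists.1 n0
    exact (hd fr l a1 a2 (fun X x1 x2 x3 => or_iff_not_imp_right.2 fun x4 => a4 X ⟨x1, x3.lt_of_ne x4⟩ x2)
      (U1C b1) b2 (((sq b).symm.trans (ab1.2 b b1)).symm ▸ one_mem _)).1.nc (Cm_mono a3 a1.norm cm2)
  have tn : t ∈ N(cj s U) := mem_norm_of_cj_le fun w hw => by
    obtain ⟨v, hv, rfl⟩ := mem_cj'.1 hw
    by_cases c : v ∈ U
    · exact YU1 (conj_mem_of_norm (SM tS) (i1 ▸ ⟨c, hv⟩))
    obtain ⟨p, hp, q, hq, e⟩ := (mem_sup_of_norm (U1C.trans nU)).1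
      (eR ▸ conj_mem_of_norm (nR (SM tS)) (U1R hv) : t * v * t⁻¹ ∈ U ⊔ cj s U)
    have qU : q ∉ U := fun d => c (by
      have := conj_mem_of_norm' (nU (SC tS)) (e ▸ mul_mem hp d : t * v * t⁻¹ ∈ U)
      rwa [show t⁻¹ * (t * v * t⁻¹) * t = v by group] at this)
    have e2 : p * q * (p * q) = 1 := by
      rw [← e, show t * v * t⁻¹ * (t * v * t⁻¹) = t * (v * v) * t⁻¹ by group, ← sq, ab1.2 v hv]; group
    refine e ▸ mul_mem (YU1 ((k q (U1R hq) qU).1 ▸ ⟨hp, mem_cent1.2 ?_⟩)) hq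
    rw [eq_inv_of_mul_eq_one_left e2, mul_inv_rev, inv_eq_of_mul_eq_one_right ((sq p).symm.trans (ab.2 p hp)),
      inv_eq_of_mul_eq_one_right ((sq q).symm.trans (ab1.2 q hq))]
  rw [← cj_norm, h.lc.nrm U h.lc.q0 fr.nq, cj_cent1, sz] at tn
  exact ty tn

theorem e3b (tr : TR.{u}) (nt : NT.{u}) (hd : HD.{u}) : E3b.{u} := fun h l c =>
  let ⟨_, a, b, d, e, f, g, k⟩ := e3A tr nt h l c rfl
  e3B hd h l rfl a b d e f g k

end H26.MS
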