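import Cfsg.Agent.H27.MS0

/-! S5899, chunk `KL2`: the groups `L₂(q)` without a chain of insoluble subgroups. -/

set_option autoImplicit false
set_option linter.unusedVariables false

namespace H26.MS
open Cfsg Subgroup H27 H27.MS Cfsg.Agent.S0810
open scoped MatrixGroups

theorem ch_of_inj {A G : Type*} [Group A] [Group G] (φ : A →* G) (hφ : Function.Injective φ)
    (h : φ.range ≠ ⊤) (n : NM A) : Ch G := by
  obtain ⟨H, a, b⟩ := n
  refine ⟨H.map φ, φ.range, lt_of_le_of_ne (map_le_range _ _) fun e => a (map_injective hφ ?_), h,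
    fun k => b (solv_congr (H.equivMapOfInjective φ hφ) k)⟩
  rw [e, MonoidHom.range_eq_map]

variable {F : Type*} [Field F] [Fintype F]

theorem ch_up {K₁ K₂ : Subgroup (PG F)} (h : K₁ < K₂) (h2 : K₂ ≤ PS F) (h3 : ¬ PS F ≤ K₂)
    (h4 : ¬ Group.IsSolvable K₁) : Ch PSL(2, F) := by
  obtain ⟨A, rfl⟩ := exists_up (h.le.trans h2)
  obtain ⟨B, rfl⟩ := exists_up h2
  refine ⟨A, B, lt_of_le_of_ne ((map_le_map_iff_of_injective
    Matrix.ProjectiveSpecialLinearGroup.toPGL_injective).1 h.le) fun e => h.ne (e ▸ rfl), ?_,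
    fun k => h4 (solv_congr (upEquiv A).symm k)⟩
  rintro rfl
  exact h3 up_top.ge

/-- the orders of the minimal simple groups `L₂(q)` -/
def M (q : ℕ) : Prop := (∃ r : ℕ, r.Prime ∧ q = 2 ^ r) ∨ (∃ r : ℕ, r.Prime ∧ r ≠ 2 ∧ q = 3 ^ r) ∨
  (q.Prime ∧ 5 < q ∧ (q % 5 = 2 ∨ q % 5 = 3)) ∨ q = 5

theorem sub_M (c : ¬ Ch PSL(2, F)) {m r : ℕ} (hm : 4 ≤ m) (hr : 2 ≤ r) (e : Fintype.card F = m ^ r) : M m := by
  obtain ⟨F₀, h0⟩ := exists_subfield_card (Nat.card_eq_fintype_card.trans e)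
  letI := Fintype.ofFinite F₀
  refine (Cfsg.Agent.S0810.result (F := F₀) (Nat.card_eq_fintype_card.symm.trans h0)).1
    ⟨Matrix.ProjectiveSpecialLinearGroup.rank_two_simple (h0 ▸ hm), fun h => psl_not_comm h.1.1, fun H a => ?_⟩
  by_contra b
  let φ := (pslOf F₀).subtype.comp (pslOfEquiv F₀).toMonoidHom
  have i : Function.Injective φ := (pslOf F₀).subtype_injective.comp (pslOfEquiv F₀).injective
  have g : φ.range = pslOf F₀ := by
    rw [MonoidHom.range_comp, MonoidHom.range_eq_top.2 (pslOfEquiv F₀).surjective, ← MonoidHom.range_eq_map,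
      range_subtype]
  refine c (ch_up (K₁ := H.map φ) (K₂ := pslOf F₀) (lt_of_le_of_ne (g ▸ map_le_range _ _)
    fun e => a (map_injective i ?_)) (pslOf_le_PS _) ?_ fun k => b (solv_congr (H.equivMapOfInjective φ i) k))
  · rw [e, ← MonoidHom.range_eq_map, g]
  · refine ne_PS_of_le_pglOf (F₀ := F₀) (c := 1) (by omega) (subfield_ne_top_of_card hr
      (by rw [h0, Nat.card_eq_fintype_card, e])) ?_
    rw [cj_one]; exact pslOf_le_pglOf _

theorem ch_sq {m : ℕ} (hm : 4 ≤ m) (ho : Odd m) (e : Fintype.card F = m ^ 2) : Ch PSL(2, F) := by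
  have e' := Nat.card_eq_fintype_card.trans e
  obtain ⟨F₀, h0⟩ := exists_subfield_card e'
  refine ch_up (K₁ := pslOf F₀) (K₂ := pglOf F₀) (lt_of_le_of_ne (pslOf_le_pglOf _) fun k => ?_)
    ((pglOf_le_PS_iff (h0 ▸ e') (e' ▸ ho.pow)).2 even_two)
    (ne_PS_of_le_pglOf (F₀ := F₀) (c := 1) (by omega) (subfield_ne_top_of_card le_rfl (h0 ▸ e')) (by rw [cj_one]))
    fun k => psl_not_solv (F := F₀) (by omega) (solv_congr (pslOfEquiv F₀) k)
  have a := card_pslOf F₀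
  rw [← card_pglOf, k, h0, Nat.gcd_eq_left (by obtain ⟨j, rfl⟩ := ho; omega)] at a
  have : 0 < Nat.card (pglOf F₀) := Nat.card_pos
  omega

theorem pow_M {p s : ℕ} (hp : p.Prime) (hs : 0 < s) (h : M (p ^ s)) :
    (p = 2 ∧ s.Prime) ∨ (p = 3 ∧ s.Prime ∧ s ≠ 2) ∨ (s = 1 ∧ (p = 5 ∨ p % 5 = 2 ∨ p % 5 = 3)) := by
  have key : ∀ {b r : ℕ}, b.Prime → p ^ s = b ^ r → p = b ∧ s = r := fun {b r} hb e => by
    obtain rfl := (Nat.prime_dvd_prime_iff_eq hp hb).1 (hp.dvd_of_dvd_pow (e ▸ dvd_pow_self p hs.ne'))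
    exact ⟨rfl, Nat.pow_right_injective hp.two_le e⟩
  rcases h with ⟨r, a, e⟩ | ⟨r, a, b, e⟩ | ⟨a, -, b⟩ | e
  · obtain ⟨rfl, rfl⟩ := key Nat.prime_two e; exact .inl ⟨rfl, a⟩
  · obtain ⟨rfl, rfl⟩ := key Nat.prime_three e; exact .inr (.inl ⟨rfl, a, b⟩)
  · obtain rfl := a.eq_one_of_pow
    rw [pow_one] at b
    exact .inr (.inr ⟨rfl, .inr b⟩)
  · obtain ⟨rfl, rfl⟩ := key (r := 1) Nat.prime_five e; exact .inr (.inr ⟨rfl, .inl rfl⟩)

theorem kl2 : KL2 := by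
  intro F _ _ h4 ⟨H, a, b⟩ c
  have nM : ¬ M (Fintype.card F) := fun h => b (((Cfsg.Agent.S0810.result rfl).2 h).2.2 H a)
  obtain ⟨p, hp⟩ := CharP.exists F
  haveI : Fact p.Prime := ⟨CharP.char_is_prime F p⟩
  have hpp : p.Prime := Fact.out
  obtain ⟨k, hk0, hk⟩ := H11.exists_card_eq_pow F p
  have hp2 := hpp.two_le
  by_cases k1 : k = 1
  · subst k1
    rw [pow_one] at hk
    rw [hk] at nM h4
    refine .inr (.inr (.inl ⟨F, _, _, p, hpp, ?_, hk, ⟨.refl _⟩⟩))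
    have e4 : p ≠ 4 := by rintro rfl; norm_num at hpp
    have e5 : p ≠ 5 := fun e => nM (.inr (.inr (.inr e)))
    have e0 : ¬ 5 ∣ p := fun e => e5 ((Nat.prime_dvd_prime_iff_eq Nat.prime_five hpp).1 e).symm
    by_contra h
    exact nM (.inr (.inr (.inl ⟨hpp, by omega, by omega⟩)))
  obtain ⟨r, hr, s, rfl⟩ := Nat.exists_prime_and_dvd k1
  have s0 : 0 < s := Nat.pos_of_mul_pos_left hk0
  have e : Fintype.card F = (p ^ s) ^ r := by rw [hk, ← pow_mul, mul_comm]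
  have od : 4 ≤ p ^ s → p ≠ 2 → Odd r := fun h h2 => hr.odd_of_ne_two (by
    rintro rfl
    exact c (ch_sq h (hpp.odd_of_ne_two h2).pow e))
  by_cases h : 4 ≤ p ^ s
  · rcases pow_M hpp s0 (sub_M c h hr.two_le e) with ⟨rfl, d⟩ | ⟨rfl, d, d'⟩ | ⟨rfl, d⟩
    · exact .inl ⟨F, _, _, r, s, hr, d, hk, ⟨.refl _⟩⟩
    · exact .inr (.inl ⟨F, _, _, r, s, hr, d, od h (by norm_num), d.odd_of_ne_two d', hk, ⟨.refl _⟩⟩)
    · exact .inr (.inr (.inr (.inl ⟨F, _, _, p, r, hpp, hr, od h (by rw [pow_one] at h; omega), d,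
        by rw [hk, mul_one], ⟨.refl _⟩⟩)))
  · obtain rfl : s = 1 := by
      by_contra g
      exact h (le_trans (Nat.pow_le_pow_left hp2 2) (Nat.pow_le_pow_right hpp.pos (by omega)))
    rw [pow_one] at h e
    obtain rfl | rfl : p = 2 ∨ p = 3 := by omega
    · exact absurd (.inl ⟨r, hr, e⟩) nM
    · by_cases r2 : r = 2
      · subst r2
        exact .inr (.inr (.inr (.inr (.inl ⟨F, _, _, e, ⟨.refl _⟩⟩))))
      · exact absurd (.inr (.inl ⟨r, hr, r2, e⟩)) nM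

end H26.MS
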