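import Cfsg.Agent.H26.D4c

/-! The chunk NM, part 2: tables for L2(7). -/

set_option autoImplicit false
set_option linter.unusedSectionVars false
set_option linter.unusedSimpArgs false
set_option linter.style.haveILetI false

namespace H26.D4
open Matrix Cfsg.Geo H27.Asch H11.D4 H11.D4.PR Module
open scoped commutatorElement MatrixGroups

variable {k : Type*} [Field k] {G : Type*} [Group G]

local notation "𝐬" => sc (Fin 4)

open H27 H4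
open H21.D3 (u2 w2 ps_aut ψ2_one ψ2_u2 sub_top)
open H20.P5 (uw_gen)

/-- data in `L₂(7)` -/
structure L7 (G : Type*) [Group G] where
  (z w h a b a' b' t : G)
  z7 : z ^ 7 = 1
  z1 : z ≠ 1
  hz : h * z = z ^ 2 * h
  h3 : h ^ 3 = 1
  w2 : w * w = 1
  w1 : w ≠ 1
  gen : Subgroup.closure {z, w} = ⊤
  zw : ∃ s, s * h = z * w * s
  wa : ∃ s, s * w = a * s
  wa' : ∃ s, s * w = a' * s
  ha : h * a = b * h
  hb : h * b = a * b * h
  ab : a * b = b * a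
  ha' : h * a' = b' * h
  hb' : h * b' = a' * b' * h
  ab' : a' * b' = b' * a'
  aw : a' * w = w * b'
  bw : b' * w = w * a'
  hw : h * w = w * (h * h)
  cos : ∀ g ∈ [z, w], ∀ r : Fin 7, ∃ (r' : Fin 7) (i j m e : ℕ), g * ![1, a, b, a * b, t, h * t, h * h * t] r =
    ![1, a, b, a * b, t, h * t, h * h * t] r' * (a' ^ i * b' ^ j * h ^ m * w ^ e)
  cos' : ∀ g ∈ [a, b], ∀ s ∈ [t, h * t, h * h * t], ∃ i j m e : ℕ, g * s = s * (a' ^ i * b' ^ j * h ^ m * w ^ e)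
  cen : ∀ g, g * a = a * g → g * b = b * g → g ^ 3 = 1 → g = 1
  aut : ∀ β : MulAut G, ∃ s, (∀ g, β g = s * g * s⁻¹) ∨ β z = s * z⁻¹ * s⁻¹

local instance f7 : Fact (Nat.Prime 7) := ⟨Nat.prime_seven⟩

abbrev S7 := SL(2, ZMod 7)

/-- the projection -/
def ψ : S7 →* PS (ZMod 7) := MonoidHom.rangeRestrict _

/-- equality up to scalars -/
def Ev (X Y : S7) : Prop := ∃ c : ZMod 7, c ≠ 0 ∧ ∀ i j, Y.1 i j = c * X.1 i j

instance decEv (X Y : S7) : Decidable (Ev X Y) :=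
  @Fintype.decidableExistsFintype _ _ (fun c => @instDecidableAnd _ _ _
    (@Nat.decidableForallFin 2 (fun i => ∀ j, Y.1 i j = c * X.1 i j) fun _ => inferInstance)) _

theorem ψ_eq {X Y : S7} : ψ X = ψ Y ↔ Ev X Y := Subtype.ext_iff.trans (pg_mk_eq_mk_iff _ _)

theorem ψ_one {X : S7} : ψ X = 1 ↔ Ev X 1 := by rw [← ψ_eq, map_one]

/-- explicit matrices -/
def mm (a b c d : ZMod 7) (h : a * d - b * c = 1 := by decide) : S7 := ⟨!![a, b; c, d], by rwa [det_fin_two_of]⟩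

def cT : Fin 7 → S7 := ![1, mm 3 1 4 4, mm 3 2 2 4, mm 3 1 4 4 * mm 3 2 2 4, mm 0 1 6 1, mm 3 0 0 5 * mm 0 1 6 1,
  mm 3 0 0 5 * mm 3 0 0 5 * mm 0 1 6 1]

def cN (i j m e : ℕ) : S7 := mm 3 3 6 4 ^ i * mm 3 6 3 4 ^ j * mm 3 0 0 5 ^ m * mm 0 1 6 0 ^ e

def tz : Fin 7 → Fin 7 × ℕ × ℕ × ℕ × ℕ :=
  ![(1, 1, 0, 0, 1), (2, 1, 0, 2, 0), (5, 1, 1, 0, 1), (4, 1, 0, 0, 1), (6, 1, 0, 1, 0), (3, 0, 0, 2, 1), (0, 0, 1, 0, 0)]

def tw : Fin 7 → Fin 7 × ℕ × ℕ × ℕ × ℕ :=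
  ![(0, 0, 0, 0, 1), (3, 0, 0, 0, 1), (2, 0, 0, 0, 1), (1, 0, 0, 0, 1), (6, 0, 1, 0, 0), (5, 0, 1, 0, 0), (4, 0, 1, 0, 0)]

theorem tz_ok : ∀ r, Ev (mm 1 1 0 1 * cT r) (cT (tz r).1 * cN (tz r).2.1 (tz r).2.2.1 (tz r).2.2.2.1 (tz r).2.2.2.2) := by
  decide +kernel

theorem tw_ok : ∀ r, Ev (mm 0 1 6 0 * cT r) (cT (tw r).1 * cN (tw r).2.1 (tw r).2.2.1 (tw r).2.2.2.1 (tw r).2.2.2.2) := by
  decide +kernel

theorem cen_ok : ∀ a b c d : ZMod 7, ∀ h : a * d - b * c = 1, Ev (mm a b c d h * mm 3 1 4 4) (mm 3 1 4 4 * mm a b c d h) →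
    Ev (mm a b c d h * mm 3 2 2 4) (mm 3 2 2 4 * mm a b c d h) → Ev (mm a b c d h ^ 3) 1 → Ev (mm a b c d h) 1 := by
  decide +kernel

theorem ψ_surj (g : PS (ZMod 7)) : ∃ a b c d h, g = ψ (mm a b c d h) := by
  obtain ⟨X, rfl⟩ := MonoidHom.rangeRestrict_surjective _ g
  exact ⟨X.1 0 0, X.1 0 1, X.1 1 0, X.1 1 1, (det_fin_two _).symm.trans X.2,
    congrArg ψ (Subtype.ext (eta_fin_two X.1))⟩

theorem ψ_z : ψ (mm 1 1 0 1) = u2 (ZMod 7) (.ofAdd 1) :=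
  Subtype.ext (congrArg pgm (gl_ext rfl rfl rfl rfl))

theorem ψ_w : ψ (mm 0 1 6 0) = w2 (ZMod 7) :=
  Subtype.ext (congrArg pgm (gl_ext rfl rfl rfl rfl))

theorem ψ_T (r : Fin 7) : ![1, ψ (mm 3 1 4 4), ψ (mm 3 2 2 4), ψ (mm 3 1 4 4) * ψ (mm 3 2 2 4), ψ (mm 0 1 6 1),
    ψ (mm 3 0 0 5) * ψ (mm 0 1 6 1), ψ (mm 3 0 0 5) * ψ (mm 3 0 0 5) * ψ (mm 0 1 6 1)] r = ψ (cT r) := by
  fin_cases r <;> simp [cT]

/-- the data in `L₂(7)` -/
def l7 : L7 (PS (ZMod 7)) where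
  z := ψ (mm 1 1 0 1)
  w := ψ (mm 0 1 6 0)
  h := ψ (mm 3 0 0 5)
  a := ψ (mm 3 1 4 4)
  b := ψ (mm 3 2 2 4)
  a' := ψ (mm 3 3 6 4)
  b' := ψ (mm 3 6 3 4)
  t := ψ (mm 0 1 6 1)
  z7 := by simp only [← map_pow, ψ_one]; decide +kernel
  z1 := by simp only [Ne, ψ_one]; decide +kernel
  hz := by simp only [← map_pow, ← map_mul, ψ_eq]; decide +kernel
  h3 := by simp only [← map_pow, ψ_one]; decide +kernel
  w2 := by simp only [← map_mul, ψ_one]; decide +kernel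
  w1 := by simp only [Ne, ψ_one]; decide +kernel
  gen := by rw [ψ_z, ψ_w]; exact uw_gen (by rw [ZMod.card]; exact Nat.prime_seven)
  zw := ⟨ψ (mm 1 3 5 2), by simp only [← map_mul, ψ_eq]; decide +kernel⟩
  wa := ⟨ψ (mm 0 1 6 4), by simp only [← map_mul, ψ_eq]; decide +kernel⟩
  wa' := ⟨ψ (mm 0 2 3 5), by simp only [← map_mul, ψ_eq]; decide +kernel⟩
  ha := by simp only [← map_mul, ψ_eq]; decide +kernel
  hb := by simp only [← map_mul, ψ_eq]; decide +kernel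
  ab := by simp only [← map_mul, ψ_eq]; decide +kernel
  ha' := by simp only [← map_mul, ψ_eq]; decide +kernel
  hb' := by simp only [← map_mul, ψ_eq]; decide +kernel
  ab' := by simp only [← map_mul, ψ_eq]; decide +kernel
  aw := by simp only [← map_mul, ψ_eq]; decide +kernel
  bw := by simp only [← map_mul, ψ_eq]; decide +kernel
  hw := by simp only [← map_mul, ψ_eq]; decide +kernel
  cos := by
    simp only [ψ_T]
    simp only [List.mem_cons, List.not_mem_nil, or_false, forall_eq_or_imp, forall_eq, ← map_mul, ← map_pow, ψ_eq]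
    exact ⟨fun r => ⟨_, _, _, _, _, tz_ok r⟩, fun r => ⟨_, _, _, _, _, tw_ok r⟩⟩
  cos' := by
    simp only [List.mem_cons, List.not_mem_nil, or_false, forall_eq_or_imp, forall_eq, ← map_mul, ← map_pow, ψ_eq]
    exact ⟨⟨⟨1, 0, 0, 0, by decide +kernel⟩, ⟨0, 0, 2, 1, by decide +kernel⟩, ⟨1, 0, 2, 1, by decide +kernel⟩⟩,
      ⟨1, 0, 2, 1, by decide +kernel⟩, ⟨1, 0, 0, 0, by decide +kernel⟩, ⟨0, 0, 2, 1, by decide +kernel⟩⟩
  cen g := by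
    obtain ⟨a, b, c, d, h, rfl⟩ := ψ_surj g
    simp only [← map_mul, ← map_pow, ψ_eq, ψ_one]
    exact cen_ok a b c d h
  aut β := by
    obtain ⟨s, t, σ, ht, e⟩ := ps_aut β (θ := -1) (by
      simpa using (FiniteField.isSquare_neg_one_iff (F := ZMod 7)).not.2 (by rw [ZMod.card]; decide))
    rw [Subsingleton.elim (σ : ZMod 7 →+* ZMod 7) (RingHom.id _)] at e
    refine ⟨s, ?_⟩
    rcases ht with rfl | rfl
    · exact .inl fun g => Subtype.ext (by rw [e, ψ2_one]; rfl)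
    · exact .inr (Subtype.ext (by rw [ψ_z, e, ψ2_u2, ← map_inv (u2 (ZMod 7)), ← ofAdd_neg]; simp))

end H26.D4
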