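/-
S5815, piece `ID`, I: the top level of S0500 again, with an explicit conclusion in the McLaughlin case.
-/
import Cfsg.Agent.H28.R3a

set_option autoImplicit false
set_option linter.unusedSectionVars false

open Cfsg Subgroup H17.GS H28.GH MatrixGroups
open H19 hiding eq_bot_mono RR
namespace H26.ID
universe u

/-- `G` has been identified -/
def J (G : Type u) [Group G] : Prop :=
  PRankLE 2 2 G ∨ AbS G ∨ StE G ∨ Lt G ∨ Lu G ∨ H28.GH.Sp G ∨ H16.GH.F16 G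

section
open H21.GN hiding y4 y5 y6 y2 id_lt id_lu id_sp id_alt
variable {G : Type u} [Group G] [Finite G]

theorem j_r2 (h : PRankLE 2 2 G) : J G := .inl h
theorem j_ab (_ : ¬ IsMulCommutative G) (h : AbS G) : J G := .inr (.inl h)
theorem j_st (_ : ¬ IsMulCommutative G) (h : StE G) : J G := .inr (.inr (.inl h))
theorem id_lt (h : Lt G) : J G := .inr (.inr (.inr (.inl h)))
theorem id_lu (h : Lu G) : J G := .inr (.inr (.inr (.inr (.inl h))))
theorem id_sp (h : H28.GH.Sp G) : J G := .inr (.inr (.inr (.inr (.inr (.inl h)))))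
theorem j_sp (h : H28.GH.Sp G) : J G := id_sp h
theorem j_lt (_ : Hy G) (h : Lt G) : J G := id_lt h
theorem j_m12 (h : Spor.IsoM12 G) : J G := j_sp (.inr (.inr (.inl h)))
theorem j_j2 (h : Spor.IsoJ2 G) : J G := j_sp (.inr (.inr (.inr (.inr (.inr (.inl h))))))
theorem j_j3 (h : Spor.IsoJ3 G) : J G := j_sp (.inr (.inr (.inr (.inr (.inr (.inr (.inl h)))))))
theorem j_mcl (h : Spor.IsoMcL G) : J G := j_sp (.inr (.inr (.inr (.inr (.inr (.inr (.inr (.inl h))))))))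
theorem j_ly (h : Spor.IsoLy G) : J G := j_sp (.inr (.inr (.inr (.inr (.inr (.inr (.inr (.inr h))))))))
theorem id_alt (n : ℕ) (h : Nonempty (G ≃* alternatingGroup (Fin n))) (a : 8 ≤ n) (b : n ≤ 11) : J G :=
  id_sp (.inr (.inl ⟨n, a, b, h⟩))

theorem y4 (hy : Hy G) (h : Y4 G) : J G := by
  have := hy.simple
  obtain ⟨j, z, r, s, t, h, hS⟩ := h
  have k : ∀ E : Subgroup G, E.Normal → IsMulCommutative E → E = ⊥ := fun E n c =>
    (n.eq_bot_or_eq_top).resolve_right fun e => h.nrs (mul_comm_of_comm c (e ▸ mem_top r) (e ▸ mem_top s))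
  have hP : commutator G = ⊤ := top_le_iff.1 fun x _ => hy.der x
  have hO : oddCore G = ⊥ := H2.GW.Od_top.symm.trans (O_top hy)
  have hZ := k (center G) inferInstance inferInstance
  have k' : ∀ E : Subgroup G, E.Normal → IsElementaryAbelian 2 E → Nat.card E = 1 := fun E n c => by rw [k E n c.1, card_bot]
  by_cases c : j = 0 ∧ Sol C[z]
  swap
  · obtain ⟨F, _, _, o, e⟩ := h.big hS hP hO hZ (by tauto)
    exact id_lt (.inl ⟨F, _, _, o, .inl e⟩)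
  obtain ⟨rfl, c⟩ := c
  obtain ⟨φ, E, rfl, -⟩ := h.em hS
  by_cases o : pCore 2 G = ⊥
  · obtain e | e | e := H2.U4.Hy.main ⟨E, H25.pResidual_of_perfect hP, H2.GW.Od_top.trans hO,
      (H18.Oc_top_p Nat.prime_two).trans o, c⟩
    exacts [id_alt 8 e le_rfl (by decide), id_alt 9 e (by decide) (by decide),
      id_lt (.inl ⟨ZMod 3, inferInstance, inferInstance, by decide, .inl e⟩)]
  · rcases H9.PX.x6 G φ E hP hO hZ o with ⟨E, -, n, c, e, -⟩ | ⟨E, -, n, c, e, -⟩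
    exacts [absurd (e.symm.trans (k' E n c)) (by decide), absurd (e.symm.trans (k' E n c)) (by decide)]

open H21.L4 H23.LQ in
theorem y6 (hy : Hy G) (h : Y6 G) : J G := by
  have := hy.simple
  obtain ⟨j, z, r, s, t, u, ω, h, hU⟩ := h
  have k : Cn G → (IsMcL G → J G) → J G := by
    rintro (⟨F, _, _, o, e⟩ | e | e | e | e | e | e) m
    exacts [id_lt (.inl ⟨F, _, _, o, .inr e⟩), id_lt (.inr e), id_alt 10 e (by decide) (by decide), id_alt 11 e (by decide) le_rfl,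
      id_sp (.inr (.inr (.inr (.inl (Agent.S1663.result e))))), id_sp (.inr (.inr (.inr (.inr (.inl (Agent.S1664.result e)))))),
      m e.1]
  have b : 0 < j → IsMcL G → J G := fun j0 e => by
    have := (pow_dvd_pow 2 (show 8 ≤ 2 * j + 6 by omega)).trans (h.cardS ▸ card_subgroup_dvd_card _)
    rw [e.2] at this; omega
  rcases h.ty with rfl | B <;> rcases Nat.eq_zero_or_pos j with rfl | j0
  · obtain ⟨φ, hi, rfl, rfl, rfl, rfl, rfl⟩ := H28.DW.dict h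
    obtain ⟨θ, hθ⟩ := H28.DW.ex_D
    obtain ⟨ψ, f, -⟩ := H17.T.exists_F0 (H17.T.Sy.comp ⟨hi, H28.DW.rng φ ▸ hU⟩ hθ) fun _ => hy.der _
    obtain ⟨χ, c, f, -⟩ := f.exists_Fu
    rcases H17.T.sm H17.T.k7 H23.TW.uq H17.T.ia H17.T.i3 H9.TV.il H23.TW.ig H23.TW.ir H9.TV.ie χ c f with
      e | e | ⟨F, _, _, q, e1, e2, e⟩ | ⟨F, _, _, q, e1, e2, e⟩
    exacts [id_alt 10 e (by decide) (by decide), id_alt 11 e (by decide) le_rfl,
      id_lt (.inl ⟨F, _, _, Nat.odd_iff.2 (by omega), .inr e⟩), id_lt (.inr ⟨F, _, _, q, e1, Nat.odd_iff.2 (by omega), e⟩)]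
  · exact k (H28.DW.za lk ln sa il ie H28.DY.alt h j0 hU) (b j0)
  · obtain rfl : ω = z := by simpa using B
    refine k (gb0 sa il ie H28.DY.alt (q5 il) ln H9.LQ.one H9.LQ.r4 H9.LQ.ba H9.LQ.bb H9.LQ.bp H9.LQ.cu bc h hU) fun _ => ?_
    obtain ⟨μ, m⟩ := h.mb hU
    have U := H9.LQ.one μ m.toSy
    have f : H16.GH.F16 G := ⟨_, h.cardE, fun _ => h.E2, fun x hx y hy x1 y1 => (U x (h.E2 hx) x1).symm.trans (U y (h.E2 hy) y1)⟩
    exact .inr (.inr (.inr (.inr (.inr (.inr f)))))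
  · exact k (gb1 sa il ie H28.DY.alt (q5 il) ln h B j0 hU) (b j0)

open H18.L5 in
theorem y5 (hy : Hy G) (h : Y5 G) : J G := by
  have := hy.simple
  obtain ⟨R, _, _, β, τ, hR, h⟩ := h
  obtain ⟨M⟩ := H5.L5.mr R (.inl hR)
  obtain ⟨β, L, h⟩ := fu G R M β τ h
  have p1 := H5.L5.p1.{u}
  have q := H5.L5.sy p1 G R M β τ L h (H5.L5.cw p1 G R M β τ L h)
  obtain ⟨L, q⟩ := H29.L5.g5 p1 G _ L q (H29.L5.fn H5.L5.p0 p1 G _ L q)
  have fg := q.toX5.fg
  have := q.sim.simple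
  obtain ⟨T, hT⟩ := q.qw
  have : (∃ (F : Type) (_ : Field F) (_ : Fintype F), Odd (Fintype.card F) ∧ Nonempty (quo Z(L) L ≃* PSL(3, F))) ∨
      (∃ (F : Type) (_ : Field F) (_ : Fintype F) (q : ℕ), Fintype.card F = q ^ 2 ∧ Odd q ∧
        Nonempty (quo Z(L) L ≃* PSU 3 F q)) ∨ IsM11 (quo Z(L) L) := by
    rcases hT with hT | hT
    exacts [(H2.GW.abg_qd T hT).imp (fun ⟨F, _, _, h, e⟩ => ⟨F, _, _, Nat.odd_iff.2 (by omega), e⟩)
      (Or.imp_left fun ⟨F, _, _, q, h, h', e⟩ => ⟨F, _, _, q, h, Nat.odd_iff.2 (by omega), e⟩),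
      (H2.GW.abg_wr T hT).imp (fun ⟨F, _, _, h, e⟩ => ⟨F, _, _, Nat.odd_iff.2 (by omega), e⟩)
      (Or.imp_left fun ⟨F, _, _, q, h, h', e⟩ => ⟨F, _, _, q, h, Nat.odd_iff.2 (by omega), e⟩)]
  rcases this with ⟨K, _, _, k, ⟨e⟩⟩ | ⟨K, _, _, r, k1, k2, ⟨e⟩⟩ | k
  · have t := ty_of q.oz e
    exact id_lu (.inl ⟨K, _, _, k, .inr (H29.L5.fl H5.L5.ml K k G _ L q
      (H29.L5.ks p1 G _ L q (H5.L5.ml K k G L _ _ q.perf t fg).1) t)⟩)
  · have t := ty_of q.oz e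
    have ko := H29.L5.ks p1 G _ L q (H5.L5.mu K r k1 k2 G L _ _ q.perf t fg).1
    exact id_lu (.inr (.inr ⟨K, _, _, r, k1, k2, H29.L5.fp H5.L5.mu K r k1 k2 G _ L q ko t fun e => by
      subst e; exact u4 p1 H5.L5.mu K k1 G _ L q ko t⟩))
  · have t := ty_of q.oz (.refl _)
    exact (H29.L5.nm p1 H5.L5.mm _ k G _ L q (H29.L5.ks p1 G _ L q (H5.L5.mm _ k G L _ _ q.perf t fg).1) t).elim

open H2.GW H29.GS H18.GA in
theorem y2 (hy : Hy G) (h : Y2 G) : J G := by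
  have := hy.simple
  obtain ⟨k, φ, h⟩ := h
  by_cases h2 : ∃ s t : G, orderOf s = 2 ∧ orderOf t = 2 ∧ ¬ IsConj s t
  · exact id_sp (.inr (.inr (.inl (two_cls h h2).2)))
  have o : On φ := ⟨h, fun x y hx hy => by_contra fun n => h2 ⟨x, y, hx, hy, n⟩⟩
  have h0 : oddCore (centralizer {φ (z k)}) = ⊥ := by
    rw [← Od_top, Od_top_sub, big G φ h o.one (tyb_all big h).2, bot_subgroupOf]
  obtain ⟨E, _, _, E', _, _, L, L', e₁, e₂, δ, ho, ho', n, n', s, -⟩ :=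
    st (o.pr_of (π := .id _) Function.surjective_id (by simp) (Od_top.trans h0))
  have i := (centralizer {φ (z k)}).subtype_injective
  have sg : ∀ X : Subgroup (centralizer {φ (z k)}), (X.map (Subgroup.subtype _)).subgroupOf _ = X :=
    fun X => comap_map_eq_self_of_injective i X
  have top : ∀ N : Subgroup G, N.Normal → N.index = δ → Nonempty (G ≃* N) := fun N hN e => by
    rcases hN.eq_bot_or_eq_top with rfl | rfl
    · exact (odd_ne_top o.z2 (X := ⊤) (by rw [card_top, ← index_bot, e]; exact s.od) rfl).elim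
    · exact ⟨topEquiv.symm⟩
  have := s.idx
  rw [cz_top (o.pr_of (π := .id _) Function.surjective_id (by simp) (Od_top.trans h0)), relIndex_top_right] at this
  obtain ⟨-, -, -, r | ⟨-, r, -⟩ | ⟨-, -, -, N, a, b, ⟨r⟩⟩ | ⟨-, -, N, a, b, ⟨c, ⟨r⟩⟩ | ⟨c, ⟨r⟩⟩⟩⟩ :=
    Agent.S3212.result (L.map (Subgroup.subtype _)) (L'.map (Subgroup.subtype _)) ((equivMapOfInjective L _ i).symm.trans e₁)
      ((equivMapOfInjective L' _ i).symm.trans e₂) (by
        rintro _ ⟨x, hx, rfl⟩ _ ⟨y, hy, rfl⟩; exact congrArg Subtype.val (s.pr.comm x hx y hy)) _ o.z2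
      (by
        rw [← map_inf _ _ _ i, show L ⊓ L' = zpowers _ from le_antisymm (fun x hx => by
          rcases s.pr.inf x hx.1 hx.2 with rfl | rfl
          exacts [one_mem _, mem_zpowers _]) (zpowers_le.2 (mem_inf.2 ⟨s.pr.h₁.mem, s.pr.h₂.mem⟩)),
          MonoidHom.map_zpowers]; rfl)
      (sup_le (map_subtype_le _) (map_subtype_le _)) h0 δ s.od
      (.inl ⟨by rw [← Subgroup.map_sup, sg]; infer_instance, by rw [← Subgroup.map_sup, relIndex, sg, this]⟩)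
  · rw [(Normal.eq_bot_or_eq_top (H := oddCore G) inferInstance).resolve_right
       (odd_ne_top o.z2 H1.odd_card_oddCore), sup_bot_eq] at r
    obtain ⟨g, e⟩ := T.of_isConj o.c1.symm
    exact (z₁_ne_z (h.inj ((show _ = _ from e).symm.trans (mem_cent1_conj.1 (r.ge (mem_top g)))))).elim
  · exact (r (by rwa [sg])).elim
  · exact id_lu (.inl ⟨E, _, _, ho, .inl ⟨(top N a b).some.trans r⟩⟩)
  · exact id_lu (.inr (.inl ⟨E', _, _, _, ho, c, ⟨(top N a b).some.trans r⟩⟩))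
  · exact id_lu (.inr (.inl ⟨E, _, _, _, ho', c, ⟨(top N a b).some.trans r⟩⟩))

end

section
open H17.T (R2)
open H26.PS (Qg PQ rP cP rQ cQ sQ Pc Qle)
open scoped H26.PS
open H2.Ov (zp_par zp_nsq zp_gen zp_two zp_mem zp_inv zp_cen zp_total zp_comm pe2 inv2 sq_mul2)
open H23 (ZC sec_le)
variable {G : Type u} [Group G] [Finite G] {i j n m : ℕ} {z r s r' s' a b c d e f g k p q t u v w x y ω : G}
  {A B E H K K' L O P S T Q : Subgroup G}

theorem n8 (h : B2 S T H K K' j z r s r' s' x) (zu : IsConj z (𝐮))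
    (hn : ∀ E ≤ S, S ≤ N(E) → (∀ a ∈ E, a * a = 1) → #E ≠ 8) : J G := by
  haveI := h.hy.simple
  obtain ⟨R, rfl⟩ := h.syl.exists_sylow_top
  have zY : ∀ y ∈ 𝐘𝐘, y * y = 1 → y ≠ 1 → IsConj z y := fun y hy yy y1 => by
    by_cases m : y ∈ 𝐙
    exacts [(h.q.mz.1 m).resolve_left y1 ▸ IsConj.refl _, zu.trans (h.cls hy yy m).symm]
  have US := h.UY.trans h.YS
  have ss := h.sq4 sQ sQ h.q.ss h.q'.ss
  refine (Cfsg.Agent.S3102.result (fun N _ o => ?_) (fun w o => ?_) R (fun o => ?_) (fun E n o c => ?_) ((𝐔).subgroupOf R)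
    ?_ ((normal_subgroupOf_iff_le_normalizer US).2 h.nU) (fun a ha b hb a1 b1 =>
      (zY _ (h.UY ha) (h.chU.sq _ ha) (fun e => a1 (Subtype.ext e))).symm.trans (zY _ (h.UY hb) (h.chU.sq _ hb) fun e => b1 (Subtype.ext e)))).elim
    (fun ⟨F, _, _, o, P, e⟩ => ?_) fun o => o.elim (fun ⟨P, e⟩ => ?_) fun e => ?_
  rotate_right 3
  · rcases Cfsg.Agent.S1742.result (Nat.odd_iff.2 (by omega)) R P e with e | e | e
    exacts [id_lu (.inl (let ⟨F, _, _, o, e⟩ := e; ⟨F, _, _, o, .inl e⟩)), id_lu (.inr (.inl e)), j_m12 e]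
  · exact (Cfsg.Agent.S1776.result R P e).elim j_j2 j_j3
  · exact j_ly (Cfsg.Agent.S3100.result h.hy.nab R e)
  · rcases IsSimpleGroup.eq_bot_or_eq_top_of_normal N ‹_› with rfl | rfl
    · haveI : Fact (Nat.Prime 2) := ⟨Nat.prime_two⟩
      exact h.hy.nab (isCyclic_of_prime_card (index_bot.symm.trans o)).isMulCommutative
    · simp at o
  · have hO : pPrimeCore 2 G = ⊥ := (IsSimpleGroup.eq_bot_or_eq_top_of_normal _ inferInstance).resolve_right
      fun e => H1.not_dvd_card_pPrimeCore (p := 2) (G := G) (o.1.symm.dvd.trans (orderOf_dvd_card' (e.ge (mem_top w))))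
    have := H7.zstar_mem_center hO o
    rcases IsSimpleGroup.eq_bot_or_eq_top_of_normal (center G) inferInstance with e | e
    · exact absurd (mem_bot.1 (e ▸ this) ▸ o.1) (by simp)
    · exact h.hy.nab ⟨⟨fun a b => mem_center_iff.1 (e ▸ mem_top b) a⟩⟩
  · have c : s * s' * (𝐮) = 𝐮 * (s * s') := by
      rw [← mul_inv_eq_iff_eq_mul, ← conj_conj', ← conj_mul (b := s'), h.cja sQ cQ, h.q'.sP cP, ← conj_mul, h.q.sP cP,
        h.swap.cja sQ (inv_mem cQ), ← mul_inv_rev, ← h.cm cQ cQ, inv2 h.uu]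
    have m : s * s' ∈ 𝐘𝐘 := mul_mem_sup sQ sQ
    have ch := h.chU.step (x := s * s') (fun o => h.q.sP' (h.q.nc' sQ cP h.q.cc1 (by
      have := mem_cent1.1 (sup_le (zpowers_le.2 (mem_cent1.2 (h.q.zq cQ).symm)) (zpowers_le.2 (mem_cent1.2
        (by rw [mul_assoc, ← h.cm cQ cQ]))) o)
      rwa [mul_assoc, ← h.cm cQ sQ, ← mul_assoc, ← mul_assoc, mul_left_inj] at this))) ss fun a ha => by
        rw [mem_cent1.1 (sup_le (zpowers_le.2 (mem_cent1.2 (h.zs (h.YS m)).symm)) (zpowers_le.2 (mem_cent1.2 c.symm)) ha)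
          |>.symm, mul_inv_cancel_right, mul_inv_cancel]
        exact one_mem _
    have l := sup_le US (zpowers_le.2 (h.YS m))
    have := o ((𝐔 ⊔ zpowers (s * s')).subgroupOf R) ⟨⟨fun a b => Subtype.ext (Subtype.ext (ecm ch.sq a.2 b.2))⟩⟩
      fun a ha => Subtype.ext (by rw [sq]; exact ch.sq _ ha)
    rw [card_subgroupOf' l, ch.cd] at this
    omega
  · refine hn (E.map (R : Subgroup G).subtype) (map_subtype_le E) (fun a ha => le_normalizer_map _ ⟨⟨a, ha⟩, ?_, rfl⟩) ?_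
      (by rw [card_map_of_injective (subtype_injective _), c])
    · exact normalizer_eq_top E ▸ mem_top _
    · rintro _ ⟨a, ha, rfl⟩
      rw [← map_mul, ← sq, o.2 a ha, map_one]
  · haveI : Nontrivial ((𝐔).subgroupOf R) := Finite.one_lt_card_iff_nontrivial.1 (by
      rw [card_subgroupOf' US, h.chU.cd]; norm_num)
    exact ⟨by rw [card_subgroupOf' US, h.chU.cd]; rfl, (Monoid.exponent_eq_prime_iff Nat.prime_two).2 fun a a1 =>
      ord2_of (Subtype.ext (Subtype.ext (h.chU.sq _ a.2))) a1⟩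

theorem ca2 (hG : Hy G) (h0 : A2 S K j z r s x) : J G := by
  suffices Y4 G ∨ Y6 G ∨ J G from this.elim (y4 hG) fun k => k.elim (y6 hG) id
  have h := h0.b2 hG
  generalize x * r * x⁻¹ = r', x * s * x⁻¹ = s', S ⊓ N(K) = T at h
  by_cases zu : IsConj z (𝐮)
  swap
  · refine (h.nz fun v hv k => by_contra fun n => zu (k.trans (h.cls hv (icj_sq k h.q.zz) fun o => ?_))).imp_right .inl
    exact (h.q.mz.1 o).elim (icj_ne k h.q.z1) n
  by_cases hn : ∀ E ≤ S, S ≤ N(E) → (∀ a ∈ E, a * a = 1) → #E ≠ 8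
  · exact .inr (.inr (n8 h zu hn))
  push Not at hn
  obtain ⟨E, l, nE, hE, c⟩ := hn
  obtain ⟨rfl, dg, xx⟩ := h.nE l nE hE c
  have key : ∀ t ∈ S, t ∉ T → t * t ∈ 𝐙 → ∀ d ∈ T, d ∉ 𝐘𝐘 → ∃ K K' H r' s' u, NF S T H K K' z r s r' s' t u ∧
      IsConj z (r * r') := fun t ht tT tt d hd dY => by
    have e : Qg (t * r * t⁻¹) (t * s * t⁻¹) = 𝐐' := by rw [← cj_Qg, h.uQ ht tT]
    obtain ⟨u, h'⟩ := (h.base ht tT).nf (by rwa [e]) tt hd (by rwa [e])
    exact ⟨_, _, _, _, _, u, h', zu.trans (h.cls (e ▸ h'.vY) h'.vv h'.vZ).symm⟩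
  by_cases ni : ∀ w ∈ S, w * w = 1 → w ∈ T
  · obtain ⟨t, ht, tT, tt⟩ := h.sqz xx
    by_cases m : T ≤ 𝐘𝐘
    · exact ((h.base ht tT).t0 (by rwa [← cj_Qg, h.uQ ht tT]) ((h.q.mz.1 tt).resolve_left (mt (ni t ht) tT)) ni).elim
    · obtain ⟨d, hd, dY⟩ := SetLike.not_le_iff_exists.1 m
      obtain ⟨_, _, _, _, _, _, h', k⟩ := key t ht tT tt d hd dY
      exact (h'.ni k ni).elim
  push Not at ni
  obtain ⟨t, ht, tt, tT⟩ := ni
  by_cases m : T ≤ 𝐘𝐘
  · exact .inl (h.y4 h.syl m ht tT tt)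
  · obtain ⟨d, hd, dY⟩ := SetLike.not_le_iff_exists.1 m
    obtain ⟨_, _, _, _, _, _, h', k⟩ := key t ht tT (tt ▸ one_mem _) d hd dY
    exact .inr (.inl (h'.y6' k tt))

open H0.GI in
theorem iz (hG : Hy G) (h : Cp t K) (ht : t ∈ K) (k : Sz8 (Xb t K)) : J G := by
  obtain ⟨F, _, _, c, ⟨e⟩⟩ := k
  have c' : Fintype.card F = 2 ^ (2 * 1 + 1) := c
  let _ := H23.Sz.titsOfCard c'
  have := H23.Sz.big_of_card_eq le_rfl c'
  let _ := (H23.Sz.lieModel c').ofEquiv e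
  have tO := Cp.CO (mem_cent1_self t)
  obtain ⟨S, hS, k1, k2⟩ := core (F := F) (Nat.card_eq_fintype_card.trans c) (hG.r4.quo _) h.comp (mem_im_of (x := ⟨t, tO⟩) ht)
    Cp.Ht h.tb1 (by rw [← map_mul]; exact (congrArg _ (Subtype.ext h.tt)).trans (map_one _)) h.z2
  obtain ⟨P, hP, rfl⟩ := hS.exists_slift (Oc_normal _ _)
  obtain ⟨φ, hi, e, e'⟩ := qlift (O_og C[t]) hP.pi (hP.le.trans Cp.CO)
  have tP := mem_syl hP le_rfl (mem_cent1_self t) h.tt
  have m : ∀ a : P, φ a ∈ quo O(C[t]) P := fun a => e ▸ mem_map_of_mem φ (mem_top a)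
  have sq : ∀ a : P, (a : G) * a = 1 → φ a * φ a = 1 := fun a k => by rw [← map_mul, show a * a = 1 from Subtype.ext k, map_one]
  have c1 : ∀ a ∈ P, ∀ b ∈ P, a * a = 1 → b * b = 1 → a * b = b * a := fun a ha b hb aa bb => congrArg Subtype.val (hi (by
    rw [map_mul, map_mul]; exact k1 _ (m ⟨a, ha⟩) _ (m ⟨b, hb⟩) (sq _ aa) (sq _ bb)) : (⟨a, ha⟩ * ⟨b, hb⟩ : P) = ⟨b, hb⟩ * ⟨a, ha⟩)
  have hP' : Syl 2 P ⊤ := hP.syl_of_norm_le le_top fun n hn => by
    have a1 := conj_mem_of_norm hn.2 tP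
    have a2 := conj_mem_of_norm (norm_le_norm_cent _ hn.2) (le_cent1_iff.1 hP.le)
    rcases k2 _ (m ⟨_, a1⟩) (mem_cent.2 fun b hb => by
      obtain ⟨b, -, rfl⟩ := e.ge hb
      rw [← map_mul, ← map_mul]; exact congrArg φ (Subtype.ext (mem_cent.1 a2 b b.2))) (sq _ (by simp [conj_mul, h.tt])) with k | k
    · exact absurd (congrArg Subtype.val (hi (k.trans φ.map_one.symm))) (H17.GS.conj_ne_one h.t1 n)
    · exact mem_cent1.2 (mul_inv_eq_iff_eq_mul.1 (congrArg Subtype.val (hi (k.trans (e' ⟨t, tP⟩).symm))))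
  obtain ⟨S, rfl⟩ := hP'.exists_sylow_top
  have := hG.simple
  let A : Subgroup G := ⟨⟨⟨{a | a ∈ S.1 ∧ a * a = 1}, fun {a b} ha hb => ⟨mul_mem ha.1 hb.1,
    H2.Ov.sq_mul2 ha.2 hb.2 (c1 a ha.1 b hb.1 ha.2 hb.2)⟩⟩, one_mem _, one_mul _⟩,
    fun {a} ha => ⟨inv_mem ha.1, by rw [← mul_inv_rev, ha.2, inv_one]⟩⟩
  rcases Agent.S1169.result S A (ne_bot_of_mem (x := t) ⟨tP, h.tt⟩ h.t1)
    ⟨⟨fun a b => Subtype.ext (c1 _ a.2.1 _ b.2.1 a.2.2 b.2.2)⟩⟩ ⟨fun _ k => k.1, fun a ha g k => ⟨k, by simp [conj_mul, ha.2]⟩⟩ with k | k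
  exacts [j_ab hG.nab ⟨S, k⟩, j_st hG.nab k]

end

end H26.ID
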