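import Cfsg.Agent.H27.MS3
import Cfsg.Agent.H12.MS0

/-! S5899, part 3, chunk `AM`: the critical pair in the amalgam `(N, C[p])`. -/

set_option autoImplicit false
set_option linter.unusedVariables false
set_option linter.unusedSectionVars false

namespace H26.MS
open Cfsg Subgroup H18 H17.GS H28.S H2.GW
open H19 hiding eq_bot_mono
open H28.NG hiding Hyp Uniq Ch
open H27.MS H12.MS

universe u
variable {G : Type u} [Group G]

/-- `U_p = ⟨V ^ C(p)⟩` -/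
abbrev Up (V : Subgroup G) (p : G) : Subgroup G := Kc V C[p]
/-- `D_p = O₂(C(p))` -/
abbrev Dp (p : G) : Subgroup G := Oc {2} C[p]

/-- a critical pair `U = Up V p`, `A = cj g U`, of the amalgam `(N, C[p])` with `b = 2 n + 3` -/
structure Am [Finite G] (N Q V : Subgroup G) (p g : G) (n : ℕ) : Prop where
  ab : Abelem 2 (Up V p)
  UD : Up V p ≤ Dp p
  cD : ⁅Up V p, Dp p⁆ ≤ zpowers p
  ds : Ds N C[p] n g
  ev : ∀ h, Ds N C[p] (n + 1) h → H19.cj h V ≤ Q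
  od : ∀ h, Ds N C[p] n h → H19.cj h V ≤ Dp p
  AQ : H19.cj g (Up V p) ≤ Q
  UQ : Up V p ≤ H19.cj g Q
  AN : H19.cj g (Up V p) ≤ N(Up V p)
  UN : Up V p ≤ N(H19.cj g (Up V p))
  nD : ¬ H19.cj g (Up V p) ≤ Dp p
  idx : #(H19.cj g (Up V p) ⊓ Dp p) ≤ #(Up V p ⊓ H19.cj g (Dp p))
  cm : ⁅Up V p ⊓ H19.cj g (Dp p), H19.cj g (Up V p)⁆ ≤ zpowers (g * p * g⁻¹)

def AM : Prop := ∀ {G : Type u} [Group G] [Finite G] {N Q T V : Subgroup G} {p : G}, Bd N Q T V → p ∈ V → p ≠ 1 →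
  ¬ C[p] ≤ N → ∃ g n, Am N Q V p g n

variable [Finite G] {N Q T V M : Subgroup G} {p g h : G} {n k : ℕ}

theorem bdJ (b : Bd N Q T V) (g : G) : Bd (H19.cj g N) (H19.cj g Q) (H19.cj g T) (H19.cj g V) :=
  ⟨b.toLc.J g, H19.cj_bot g ▸ b.sec.J g, by rw [card_cj, b.c8]⟩

theorem ds_succ (d : Ds N M n g) : Ds N M (n + 1) g := by simpa using d.mul (Ds.one (one_mem M))
theorem ds_mono (l : k ≤ n) (d : Ds N M k g) : Ds N M n g := by
  induction l with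
  | refl => exact d
  | step _ ih => exact ds_succ ih

theorem cj_Up (l : ∀ c ∈ C[p], H19.cj (g * c) V ≤ M) : H19.cj g (Up V p) ≤ M :=
  H19.cj_le_iff.2 (Kc_le_of_cj fun c hc => H19.cj_le_iff.1 (H19.cj_mul g c V ▸ l c hc))

namespace Am
variable (a : Am N Q V p g n)
include a
/-- neighbours of neighbours -/
theorem UQ' (d : Ds N C[p] n h) : H19.cj h (Up V p) ≤ Q := cj_Up fun c hc => a.ev _ (d.mul (Ds.one hc))
theorem UD' (l : k < n) (d : Ds N C[p] k h) : H19.cj h (Up V p) ≤ Dp p :=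
  cj_Up fun c hc => a.od _ (ds_mono l (d.mul (Ds.one hc)))
/-- `b ≥ 5`: `U_q ≤ D_p` for all `q ∈ V#` -/
theorem UD1 (l : n ≠ 0) (d : h ∈ N) : H19.cj h (Up V p) ≤ Dp p := a.UD' (Nat.pos_of_ne_zero l) (Ds.zero d)
theorem gC : g ∉ C[p] := fun k => a.nD ((H19.cj_of_mem_norm (Kc_norm k)).trans_le a.UD)
theorem quad : ⁅Up V p, H19.cj g (Up V p)⁆ ≤ Up V p ⊓ H19.cj g (Up V p) := commg_le_inf a.AN a.UN
end Am

theorem am (bk : BK.{u}) (g2 : G2.{u}) (ic : IC.{u}) : AM.{u} := fun {G} _ _ {N Q T V p} b pV p1 nC => by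
  classical
  obtain ⟨-, aV, VQ, cV, nV, -, -, -, pt⟩ := bk b
  obtain ⟨P, R, t⟩ := pt p pV p1
  obtain ⟨DR, VD, UQ, aU⟩ := g2 b pV p1
  rw [← t.eP, ← t.eR] at DR
  have RP : R ≤ P := t.eR ▸ (Oc_normal _ _).le
  have DN : Dp p ≤ N := DR.trans (RP.trans (t.eP.trans_le inf_le_left))
  have nD : C[p] ≤ N(Dp p) := (Oc_normal _ _).norm
  have QC : Q ≤ C[p] := t.QR.trans (RP.trans (t.eP.trans_le inf_le_right))
  have UD : Up V p ≤ Dp p := Kc_le_of VD nD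
  have cD : ⁅Up V p, Dp p⁆ ≤ zpowers p := by
    refine commg_le_iff.2 fun u hu d hd => ?_
    have : Up V p ≤ Cm (zpowers p) (Dp p) := Kc_le_of
      (le_Cm ((VD.trans (Oc_normal _ _).le).trans (cent_zpowers p ▸ cent_le_norm _)) ((commutator_mono le_rfl DR).trans t.cm))
      (norms_Cm (cent_zpowers p ▸ cent_le_norm _) nD)
    exact (this hu).2 d hd
  have ex : ∃ n g, Ds N C[p] n g ∧ ¬ H19.cj g V ≤ Dp p := by
    by_contra! k
    let L : Subgroup G := ⟨⟨⟨{g | ∃ n, Ds N C[p] n g}, fun ⟨_, a⟩ ⟨_, b⟩ => ⟨_, a.mul b⟩⟩, 0, one_mem N⟩,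
      fun ⟨_, a⟩ => ⟨_, a.inv⟩⟩
    have l1 : C[p] ≤ L := fun _ a => ⟨1, Ds.one a⟩
    have l2 : N ≤ L := fun _ a => ⟨0, a⟩
    have l3 : Kc V L ≤ Dp p := Kc_le_of_cj fun g (a : g ∈ L) => a.elim fun n a => k n g a
    have e := b.nrm _ (ne_bot_of_mem (le_Kc pV) p1) ⟨l3.trans DN, l2.trans Kc_norm⟩
    exact nC (l1.trans (Kc_norm.trans e.le))
  obtain ⟨g, g1, g0⟩ := Nat.find_spec ex
  have mn {k g} (p : k < Nat.find ex) (q : Ds N _ k g) : H19.cj g V ≤ _ := by_contra fun r => Nat.find_min ex p ⟨g, q, r⟩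
  generalize Nat.find ex = n at *
  obtain _ | n := n
  · exact (g0 ((H19.cj_of_mem_norm (nV.ge g1)).trans_le VD)).elim
  have od {h} (d : Ds N C[p] n h) : H19.cj h V ≤ Dp p := mn n.lt_succ_self d
  have hN {h} (d : Ds N C[p] (n + 1) h) : H19.cj h V ≤ N := by
    obtain ⟨d, q, c, hc, x, hx, e⟩ := d.inv
    rw [← inv_inv h, e, mul_inv_rev, mul_inv_rev, H19.cj_mul, H19.cj_mul]
    exact cj_le_of_mem (inv_mem hx) ((cj_le_of_mem_norm (nD (inv_mem hc)) (od q.inv)).trans DN)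
  have ev {h} (d : Ds N C[p] (n + 1) h) : H19.cj h V ≤ Q := by_contra fun k => k <| ic b (bdJ b h) fun e => k <| by
    have n1 : H19.cj h V ≤ N(V) := (hN d).trans nV.ge
    have n2 : V ≤ N(H19.cj h V) := by
      rw [← H19.cj_norm, nV]; exact H19.le_cj_iff.2 (hN d.inv)
    rw [← cV]
    exact cents_symm (commg_eq_bot.1 (le_bot_iff.1 ((commg_le_inf n1 n2).trans e.le)))
  have AQ {h} (d : Ds N C[p] n h) : H19.cj h (Up V p) ≤ Q := cj_Up fun c hc => ev (d.mul (Ds.one hc))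
  have AN {h} (d : Ds N C[p] n h) : H19.cj h (Up V p) ≤ N(Up V p) := (AQ d).trans (QC.trans Kc_norm)
  have mk {h} (d : Ds N C[p] n h) (k : ¬ H19.cj h (Up V p) ≤ Dp p)
      (i : #(H19.cj h (Up V p) ⊓ Dp p) ≤ #(Up V p ⊓ H19.cj h (Dp p))) : Am N Q V p h n :=
    ⟨aU, UD, cD, d, fun _ => ev, fun _ => od, AQ d, H19.le_cj_iff.2 (AQ d.inv), AN d,
      by rw [← H19.cj_norm]; exact H19.le_cj_iff.2 (AN d.inv), k, i, by
        rw [← cj_zpowers]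
        refine (commutator_mono inf_le_right le_rfl).trans ?_
        rw [← H19.cj_comm, commg_comm]
        exact H19.cj_mono h cD⟩
  obtain ⟨d, q, c, hc, x, hx, rfl⟩ := g1
  have k : ¬ H19.cj d (Up V p) ≤ Dp p := fun k => g0 <| by
    rw [H19.cj_mul, H19.cj_mul, H19.cj_of_mem_norm (nV.ge hx)]
    exact (H19.cj_mono d (cj_le_Kc hc)).trans k
  have e1 : #(H19.cj d⁻¹ (Up V p) ⊓ Dp p) = #(Up V p ⊓ H19.cj d (Dp p)) := by
    rw [← card_cj d, H19.cj_inf, H19.cj_cj_inv]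
  have e2 : #(Up V p ⊓ H19.cj d⁻¹ (Dp p)) = #(H19.cj d (Up V p) ⊓ Dp p) := by
    rw [← card_cj d, H19.cj_inf, H19.cj_cj_inv]
  rcases le_total #(H19.cj d (Up V p) ⊓ Dp p) #(Up V p ⊓ H19.cj d (Dp p)) with i | i
  · exact ⟨d, n, mk q k i⟩
  · refine ⟨d⁻¹, n, mk q.inv (fun j => k ?_) (e1 ▸ e2 ▸ i)⟩
    rw [← e1, inf_eq_left.2 j, card_cj, ← card_cj d] at i
    exact inf_eq_left.1 (eq_of_le_of_card_ge inf_le_left i)

end H26.MS
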