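import Cfsg.Agent.H1.MS2

/-! S5899, part 3, chunk `LB`. -/

set_option autoImplicit false
set_option linter.unusedVariables false

namespace H26.MS
open Cfsg Subgroup H1.MS Matrix
open scoped MatrixGroups

universe u


def lx1 : SL(3, ZMod 2) := ⟨!![1, 0, 0; 0, 0, 1; 0, 1, 0], by decide⟩
def lx2 : SL(3, ZMod 2) := ⟨!![1, 0, 0; 0, 1, 0; 0, 1, 1], by decide⟩
def lx3 : SL(3, ZMod 2) := ⟨!![0, 1, 0; 1, 0, 0; 0, 0, 1], by decide⟩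
def lx4 : SL(3, ZMod 2) := ⟨!![1, 0, 0; 1, 1, 0; 0, 0, 1], by decide⟩

theorem lb1 : pt lx1 = e1 ∧ pt lx2 = e1 ∧ pt 1 = e1 ∧ ln lx1 ≠ e3 ∧ ln lx2 ≠ e3 := by decide +kernel
theorem lb2 : ∀ y y' : V3, ¬ y ⬝ᵥ pt 1 + ln 1 ⬝ᵥ y' = 0 → y ⬝ᵥ pt lx1 + ln lx1 ⬝ᵥ y' = 0 →
    y ⬝ᵥ pt lx2 + ln lx2 ⬝ᵥ y' = 0 → y' 1 = 1 ∧ y' 2 = 0 := by decide +kernel
theorem lb3 (k x : SL(3, ZMod 2)) (h : pt x = e1) : pt (k * x) = pt k := by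
  rw [pt, Matrix.SpecialLinearGroup.coe_mul, ← Matrix.mulVec_mulVec]; exact congrArg _ h
theorem lb4 : ∀ (k : SL(3, ZMod 2)) (a c : ZMod 2), c + ln (k * 1) ⬝ᵥ ![a, 1, 0] = 0 →
    c + ln (k * lx1) ⬝ᵥ ![a, 1, 0] = 0 → c + ln (k * lx2) ⬝ᵥ ![a, 1, 0] = 0 →
    ∃ x ∈ [1, lx3, lx4], ln x = e3 ∧ pt (x⁻¹ * k) = e1 := by decide +kernel

theorem lb (nm7 : NM7.{u}) (lam : LAM.{u}) : LB.{u} := by
  intro G _ _ N Q T T₀ P P' a h f l t0 c0 tP PN cP tP' PN' cP' ne aQ a0 h1 hN h2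
  obtain ⟨π, md, mP, mP'⟩ := nm7 f l tP PN cP
  obtain ⟨y, y', e⟩ := lam f md t0 c0 a aQ
  have k1 (x : SL(3, ZMod 2)) (p : pt x = e1) (q : ln x ≠ e3) : y ⬝ᵥ pt x + ln x ⬝ᵥ y' = 0 := by
    obtain ⟨g, rfl⟩ := md.sj x
    exact (e g).1 (h1 g ((mP g).2 p) fun j => q ((md.mT g).1 j).2)
  have k2 (x : SL(3, ZMod 2)) (p : pt x = e1) :
      y ⬝ᵥ pt (π ⟨h, hN⟩) + ln (π ⟨h, hN⟩ * x) ⬝ᵥ y' = 0 := by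
    obtain ⟨g, rfl⟩ := md.sj x
    have := (e (⟨h, hN⟩ * g)).1 (h2 g ((mP g).2 p))
    rwa [map_mul, lb3 (π ⟨h, hN⟩) (π g) p] at this
  obtain ⟨p1, p2, p3, q1, q2⟩ := lb1
  obtain ⟨r1, r2⟩ := lb2 y y' (fun j => a0 (by simpa using (e 1).2 (map_one π ▸ j))) (k1 _ p1 q1) (k1 _ p2 q2)
  have ey : y' = ![y' 0, 1, 0] := by
    funext i; fin_cases i
    · rfl
    · exact r1
    · exact r2
  rw [ey] at k2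
  obtain ⟨x, -, s1, s2⟩ := lb4 _ _ _ (k2 _ p3) (k2 _ p1) (k2 _ p2)
  obtain ⟨g, rfl⟩ := md.sj x
  exact ⟨g, (mP' P' tP' PN' cP' ne g).2 s1, (mP (g⁻¹ * ⟨h, hN⟩)).2 (by rw [map_mul, map_inv]; exact s2)⟩

end H26.MS
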