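import Cfsg.Agent.H6.PS0

/-! S0725, chunk [SQ]. -/

set_option autoImplicit false

namespace H26.PQ
open MulAction Finset H6.PS
universe u

theorem sq : SQ.{u} := fun G Ω _ _ _ _ X => by
  classical
  induction h : Nat.card X using Nat.strong_induction_on generalizing X with | _ n ih => ?_
  by_cases c : X ≤ (toPermHom G Ω).ker
  · rw [Subgroup.relIndex_eq_one.2 c]; exact Nat.one_le_two_pow
  obtain ⟨g, hg, x, hx⟩ : ∃ g ∈ X, ∃ x : Ω, g • x ≠ x := by
    by_contra! k
    exact c fun g hg => Equiv.ext (k g hg)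
  have k := ih _ (h ▸ lt_of_le_of_ne (Subgroup.card_le_of_le inf_le_right) fun e =>
    hx ((Subgroup.eq_of_le_of_card_ge inf_le_right e.ge).ge hg).1) (stabilizer G x ⊓ X) rfl
  let O := univ.filter fun y => y ≠ x ∧ ∃ g ∈ X, g • x = y
  have j : (stabilizer G x).relIndex X = #O + 1 := by
    rw [show (stabilizer G x).relIndex X = (stabilizer X x).index from rfl, index_stabilizer,
      ← card_insert_of_notMem (a := x) (by simp [O]), ← Set.ncard_coe_finset]
    congr 1
    ext y
    simp only [O, coe_insert, coe_filter, mem_univ, true_and, Set.mem_insert_iff, Set.mem_ofPred_eq]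
    refine ⟨fun ⟨g, e⟩ => (em (y = x)).imp_right fun m => ⟨m, g, g.2, e⟩, ?_⟩
    rintro (rfl | ⟨-, g, m, e⟩)
    exacts [mem_orbit_self _, ⟨⟨g, m⟩, e⟩]
  have e : E Ω (stabilizer G x ⊓ X) + (#O + #O) ≤ E Ω X := by
    have a : #(O.image fun y => (x, y)) = #O := card_image_of_injective _ (Prod.mk_right_injective x)
    have b : #(O.image fun y => (y, x)) = #O := card_image_of_injective _ (Prod.mk_left_injective x)
    nth_rw 1 [← a]
    rw [← b, E, E, ← card_union_of_disjoint, ← card_union_of_disjoint]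
    · refine card_le_card fun p m => mem_filter.2 ⟨mem_univ _, ?_⟩
      simp only [O, mem_union, mem_filter, mem_image, mem_univ, true_and] at m
      rcases m with ⟨m, g, m', e⟩ | ⟨y, ⟨m, e⟩, rfl⟩ | ⟨y, ⟨m, g, m', e⟩, rfl⟩
      exacts [⟨m, g, m'.2, e⟩, ⟨m.symm, e⟩, ⟨m, g⁻¹, inv_mem m', inv_smul_eq_iff.2 e.symm⟩]
    · simp only [O, disjoint_left, mem_union, mem_filter, mem_image, mem_univ, true_and]
      rintro p ⟨m, g, m', e⟩ (⟨y, -, rfl⟩ | ⟨y, -, rfl⟩)
      · exact m (m'.1.symm.trans e)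
      · exact m (smul_left_cancel g (e.trans m'.1.symm))
    · simp only [O, disjoint_left, mem_filter, mem_image, mem_univ, true_and]
      rintro p ⟨y, m, rfl⟩ ⟨z, -, e⟩
      exact m.1 (congrArg Prod.snd e).symm
  have r := Subgroup.relIndex_inf_mul_relIndex (toPermHom G Ω).ker (stabilizer G x) X
  rw [inf_of_le_left (show (toPermHom G Ω).ker ≤ stabilizer G x from fun g m => DFunLike.congr_fun m x), j] at r
  rw [← r, mul_pow]
  refine le_trans (Nat.mul_le_mul k ?_) ((pow_add _ _ _).ge.trans (Nat.pow_le_pow_right two_pos e))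
  rw [pow_add, ← pow_two]
  exact Nat.pow_le_pow_left Nat.lt_two_pow_self 2

end H26.PQ
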