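/-
Sylow 2-subgroups of type PSp4(q): two self-contained chunks.
-/
import Cfsg.Agent.H26.PS0
import Cfsg.Agent.H2.U41
import Cfsg.Prelude.Def_CaseTheorems
import Cfsg.Prelude.Def_Classical

set_option autoImplicit false

namespace H26.PS
open Cfsg
universe u

/-- X0. Sketch: embed `SL2 × SL2` into `Sp4` block diagonally, `t` swaps the two blocks, `⟨r, s⟩` is a Sylow
2-subgroup of the first factor (S0261), pass to the quotient by `±1`; the order of `Sg r s t` is
`|Q| ^ 2` (central product, times 2), which is the 2-part of `|PSp4(q)|` (S0245); finally conjugate. -/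
def X0 : Prop := ∀ (F : Type u) [Field F] [Fintype F], Odd (Fintype.card F) → ∀ P : Sylow 2 (PSp 2 F),
  ∃ (j : ℕ) (z r s t : PSp 2 F), Sy j z r s t ∧ Sg r s t = (P : Subgroup (PSp 2 F))

/-- X6. Sketch (names of `H2/U40`): `z ∈ Z(O₂(G))`, so the normal closure `E` of `z` is elementary abelian, normal in
`S`, not `⟨z⟩`. Normal elementary abelian subgroups of `T`: three four-groups, `U0`, `E1` and its two images under
`ρ`, `A0`. `G / C(E)` is perfect and nontrivial: no four-group; for order 8 it is `GL3(2)`, so `|S : C_S(E)| = 8`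
(not `U0`), `C(E) = E` (Burnside, `O(G) = 1`), Gaschütz (S0051, `S` splits over `E1`). For `E = A0`: `C(E) = E`, the
class `Z` of `z` is a union of `S`-orbits on `A0` (sizes 1, 2, 2, 2 in `U0`, 4, 4 outside). The product of all elements
of `Z` is central, hence 1: leaves sizes 5, 9 (`z`, four in `U0`, four outside), 11, 15. 11: an element of order 11
centralizes `E`. 9: `C(z) / E` is a 2-group (`Em.sc`), `|G / E| = 36`. 15: for `g` with `z ^ g = v ∈ U0`, `v ≠ z`, and
`x ∈ Q0 \ A0` centralizing `v` one has `⁅U0 ^ g, x⁆ ≤ ⟨v⟩` (2-elements of `C(z)` act so on `U0`), which determines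
`U0 ^ g ∋ z`; the three `v` with `b ∈ U0 ^ g` have product `z`, so `z ∈ U0 ^ h` for `z ^ h = b`, and `b ∈ U0`.
5: `G / E` embeds in `S5`, so is `A5`; Gaschütz again. -/
def X6 : Prop := ∀ (G : Type u) [Group G] [Finite G] (φ : H2.U4.T →* G), H2.U4.Em φ ⊤ → commutator G = ⊤ →
  oddCore G = ⊥ → Subgroup.center G = ⊥ → pCore 2 G ≠ ⊥ →
    (∃ E K : Subgroup G, E.Normal ∧ IsElementaryAbelian 2 E ∧ Nat.card E = 16 ∧
        Nonempty (K ≃* alternatingGroup (Fin 5)) ∧ Subgroup.IsComplement' E K ∧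
        ¬ (K ≤ Subgroup.centralizer (E : Set G)) ∧
        ∃ e₁ ∈ E, ∃ e₂ ∈ E, e₁ ≠ 1 ∧ e₂ ≠ 1 ∧ ∀ k ∈ K, k * e₁ * k⁻¹ ≠ e₂) ∨
    (∃ E K : Subgroup G, E.Normal ∧ IsElementaryAbelian 2 E ∧ Nat.card E = 8 ∧
        Nonempty (K ≃* GL (Fin 3) (ZMod 2)) ∧ Subgroup.IsComplement' E K ∧
        K ⊓ Subgroup.centralizer (E : Set G) = ⊥)

end H26.PS
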