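import Cfsg.Agent.H26.U6
import Cfsg.Agent.H26.Q22

/-! Recognition of the Fischer quandle of type `M(22)`. -/

set_option maxRecDepth 100000
set_option maxHeartbeats 4000000
set_option Elab.async false

namespace H26

open H9 H9.FQ F22

theorem tl_aut {X : Type*} [FQ X] (xs : List X) (i : ℕ) : tl xs i ∈ Aut X := by
  rcases tl_cases xs i with h | ⟨x, -, h⟩ <;> rw [h]
  exacts [one_mem _, t_mem_Aut x]

theorem eq_one_of_comm {X : Type*} [FQ X] {xs : List X} (hg : cls xs = Set.univ) (hX : NoIso X)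
    {w : Equiv.Perm X} (hw : w ∈ Aut X) (h : ∀ i < xs.length, Commute (tl xs i) w) : w = 1 :=
  eq_one_of_fix hg hw fun x hx => by
    obtain ⟨i, hi, rfl⟩ := List.getElem_of_mem hx
    obtain ⟨z, hz⟩ := hX xs[i]
    have := h i hi
    rw [tl_getD hi xs[i], List.getD_eq_getElem _ _ hi] at this
    exact fix_of_commute hw hz this

namespace R22

def Cs : List (List ℕ) := [[0,2,1,1,1,1,1,1,1,1], [2,0,2,1,1,1,1,1,1,1], [1,2,0,2,1,1,1,1,1,1], [1,1,2,0,2,1,1,2,1,1], [1,1,1,2,0,2,1,1,1,1], [1,1,1,1,2,0,2,1,1,2], [1,1,1,1,1,2,0,1,1,1], [1,1,1,2,1,1,1,0,2,1], [1,1,1,1,1,1,1,2,0,2], [1,1,1,1,1,2,1,1,2,0]]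
def Cox : List (List ℕ) := [[0,0], [1,1], [2,2], [3,3], [4,4], [5,5], [6,6], [7,7], [8,8], [9,9], [1,0,1,0,1,0], [2,0,2,0], [2,1,2,1,2,1], [3,0,3,0], [3,1,3,1], [3,2,3,2,3,2], [4,0,4,0], [4,1,4,1], [4,2,4,2], [4,3,4,3,4,3], [5,0,5,0], [5,1,5,1], [5,2,5,2], [5,3,5,3], [5,4,5,4,5,4], [6,0,6,0], [6,1,6,1], [6,2,6,2], [6,3,6,3], [6,4,6,4], [6,5,6,5,6,5], [7,0,7,0], [7,1,7,1], [7,2,7,2], [7,3,7,3,7,3], [7,4,7,4], [7,5,7,5], [7,6,7,6], [8,0,8,0], [8,1,8,1], [8,2,8,2], [8,3,8,3], [8,4,8,4], [8,5,8,5], [8,6,8,6], [8,7,8,7,8,7], [9,0,9,0], [9,1,9,1], [9,2,9,2], [9,3,9,3], [9,4,9,4], [9,5,9,5,9,5], [9,6,9,6], [9,7,9,7], [9,8,9,8,9,8]]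
def ydef : List ℕ := [7,4,3,2,1,0,7,4,3,2,1,0,7,4,3,2,1,0,7,4,3,2,1,0,7,4,3,2,1,0,9]
noncomputable def P : List Sp := [(0, 0, []), (969, 1, []), (166, 2, []), (381, 3, []), (596, 4, []), (371, 5, []), (474, 6, []), (38, 7, []), (327, 8, []), (426, 9, [])]

theorem core (Y : Type*) [FQ Y] (ys : List Y) (hk : ys.length = 10) (hg : cls ys = Set.univ)
    (h1 : CoxL ys ys Cs) (h2 : FixAll ys [ydef]) :
    ∃ c, View M22 (full 3510) Set.univ c ∧ Asg c P ys := by
  have hX : NoIso Y := h1.noIso hg hk (by decide +kernel)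
  have hι := tl_inv ys
  have hQ : AllOne (tl ys) Q22.Q := allOne_sub ((h1.allOne hk.ge (by decide +kernel)).append
    (h2.allOne hg)) (I := List.range 56) (by decide +kernel)
  obtain ⟨z1, z2⟩ := Q22.toQz hι hQ
  have e : ∀ g < 10, subG (tl ys) Q22.sigz g = tl ys g := subG_self _ (by decide +kernel)
  have key : ∀ W : List ℕ, allLt 10 W = true → (∀ g < 9, commW (invL []) [g] W ∈ Q22.Cen) →
      ev (tl ys) W = 1 := fun W hW h => by
    have h3 : ∀ g < 9, Commute (tl ys g) (ev (tl ys) W) := fun g hg => by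
      have := commute_of_commW z1 (Q22.cen z1 z2 _ (h g hg))
      rwa [ev_congr fun g hg => e g (allLt_spec hW g hg), show ev _ [g] = _ from one_mul _,
        e g (by omega)] at this
    refine eq_one_of_comm hg hX (ev_tl_aut _ _) fun i hi => ?_
    rcases Nat.lt_succ_iff_lt_or_eq.1 (hk ▸ hi) with h | rfl
    · exact h3 i h
    have h4 : ev (tl ys) (rep 5 [7,4,3,2,1,0]) = ev (tl ys) [9] :=
      ev_eq_of_append hι (hQ _ (by decide +kernel))
    rw [show tl ys 9 = ev (tl ys) [9] from (one_mul _).symm, ← h4]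
    exact commute_of_mem_gen (S := List.range 9) (fun g hg => h3 g (List.mem_range.1 hg)) _
      (ev_mem_gen _ (by decide +kernel))
  have hR : AllOne (tl ys) Y332.R2 := allOne_sub (hQ.append (AllOne.cons
    (key (rep 10 [8,7,3,5,4,3,1,2,3]) (by decide +kernel) (by decide +kernel)) (AllOne.cons
    (key (rep 9 [7,6,5,4,3,2,1]) (by decide +kernel) (by decide +kernel))
    ((allOne_sub z2 (S := [rep 9 [7,5,4,3,2,1,0]]) (I := [71]) (by decide +kernel)).congr_lt e
      (by decide +kernel))))) (I := List.range 55 ++ [56, 58, 55, 57]) (by decide +kernel)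
  match ys, hk with
  | [a, b, c, d, e, f, g, h, i, y], _ =>
    obtain ⟨z, hz⟩ := hX a
    exact cm1.core F22A.ok rfl rfl rfl π_eq hX (tl_aut _) hι hR (x0 := a) (b := 0) rfl
      (by decide +kernel) (par := [0,0,1,2,3,4,5,3,7,5]) (rk := [0,1,2,3,4,5,6,4,5,6]) (by decide +kernel) hg (I := List.range 10)
      (by decide) (by decide +kernel) rfl hz.ne

theorem step {X : Type*} [FQ X] (HV : ∀ x : X, ∃ β, View M22 O1 (Dc x) β) (a : X) :
    ∃ xs : List X, xs.length = 10 ∧ CoxL xs xs Cs ∧ FixAll xs [ydef] := by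
  obtain ⟨β1, v2⟩ := HV a
  obtain ⟨g, m4, e3⟩ := v2.new (p := 474) (by decide +kernel)
  obtain ⟨β5, v6⟩ := HV g
  obtain ⟨β7, v8, -, o10⟩ := v6.norm sub1 (show Asg β5 [] [] from trivial) (Dc.symm m4) (show Pat a [] [] from trivial) [[11], [3], [5], [7], [8], [9]] [2,0,5,0,4,0,3,2,5,1,4,0,2,5,3,0,1,2,4,5,0,4,1] [474] (by decide +kernel)
  rcases o10 with (e11 : β7 474 = a) | ⟨⟨⟩⟩
  obtain ⟨b, m13, e12⟩ := v8.new (p := 371) (by decide +kernel)
  obtain ⟨(r14 : Adj a b), -⟩ := v8.pat sub1 (show Asg β7 [(474, 6, [])] [a] from ⟨e11, trivial⟩) e12 (C := [2]) (by decide +kernel)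
  obtain ⟨d, m16, e15⟩ := v8.new (p := 381) (by decide +kernel)
  obtain ⟨(r17 : d ∈ Dc a), (r18 : d ∈ Dc b), -⟩ := v8.pat sub1 (show Asg β7 [(474, 6, []), (371, 5, [])] [a, b] from ⟨e11, e12, trivial⟩) e15 (C := [3,3]) (by decide +kernel)
  obtain ⟨e, m20, e19⟩ := v8.new (p := 166) (by decide +kernel)
  obtain ⟨(r21 : e ∈ Dc a), (r22 : e ∈ Dc b), (r23 : Adj d e), -⟩ := v8.pat sub1 (show Asg β7 [(474, 6, []), (371, 5, []), (381, 3, [])] [a, b, d] from ⟨e11, e12, e15, trivial⟩) e19 (C := [3,3,2]) (by decide +kernel)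
  obtain ⟨h, m25, e24⟩ := v8.new (p := 38) (by decide +kernel)
  obtain ⟨(r26 : h ∈ Dc a), (r27 : h ∈ Dc b), (r28 : Adj d h), (r29 : h ∈ Dc e), -⟩ := v8.pat sub1 (show Asg β7 [(474, 6, []), (371, 5, []), (381, 3, []), (166, 2, [])] [a, b, d, e] from ⟨e11, e12, e15, e19, trivial⟩) e24 (C := [3,3,2,3]) (by decide +kernel)
  obtain ⟨i, m31, e30⟩ := v8.new (p := 327) (by decide +kernel)
  obtain ⟨(r32 : i ∈ Dc a), (r33 : i ∈ Dc b), (r34 : i ∈ Dc d), (r35 : i ∈ Dc e), (r36 : Adj h i), -⟩ := v8.pat sub1 (show Asg β7 [(474, 6, []), (371, 5, []), (381, 3, []), (166, 2, []), (38, 7, [])] [a, b, d, e, h] from ⟨e11, e12, e15, e19, e24, trivial⟩) e30 (C := [3,3,3,3,2]) (by decide +kernel)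
  obtain ⟨y, m38, e37⟩ := v8.new (p := 489) (by decide +kernel)
  obtain ⟨(r39 : y ∈ Dc a), (r40 : y ∈ Dc b), (r41 : y ∈ Dc d), (r42 : y ∈ Dc e), (r43 : y ∈ Dc h), (r44 : Adj i y), -⟩ := v8.pat sub1 (show Asg β7 [(474, 6, []), (371, 5, []), (381, 3, []), (166, 2, []), (38, 7, []), (327, 8, [])] [a, b, d, e, h, i] from ⟨e11, e12, e15, e19, e24, e30, trivial⟩) e37 (C := [3,3,3,3,3,2]) (by decide +kernel)
  obtain ⟨w, m46, e45⟩ := v8.new (p := 4) (by decide +kernel)
  obtain ⟨(r47 : w ∈ Dc a), (r48 : w ∈ Dc b), (r49 : Adj d w), (r50 : w ∈ Dc e), (r51 : Adj h w), (r52 : w ∈ Dc i), (r53 : Adj y w), -⟩ := v8.pat sub1 (show Asg β7 [(474, 6, []), (371, 5, []), (381, 3, []), (166, 2, []), (38, 7, []), (327, 8, []), (489, 2, [3,4,5,6,7,3,4,5,8,7,3,2,4,3,7,8])] [a, b, d, e, h, i, y] from ⟨e11, e12, e15, e19, e24, e30, e37, trivial⟩) e45 (C := [3,3,2,3,2,3,2]) (by decide +kernel)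
  obtain ⟨f', r54, r55, r56, r57, r58⟩ : ∃ f', f' ∈ Dc a ∧ Cm b f' ∧ Adj g f' ∧ Adj e f' ∧ f' ∈ Dc h := by
    obtain ⟨β59, v60⟩ := HV h
    obtain ⟨β61, v62, -, o64⟩ := v60.norm sub1 (show Asg β59 [] [] from trivial) (Dc.symm r26) (show Pat a [] [] from trivial) [[11], [3], [5], [7], [8], [9]] [1,0,3,4,0,5,1,0,2,0,4,5,3,4,2,0,3,5,1,4,0,5,4,0,2] [166] (by decide +kernel)
    rcases o64 with (e65 : β61 166 = a) | ⟨⟨⟩⟩
    obtain ⟨β66, v67, a68, o69⟩ := v62.norm sub1 (show Asg β61 [(166, 2, [])] [a] from ⟨e65, trivial⟩) (Dc.symm r27) (show Pat b [2] [a] from ⟨r14, trivial⟩) [[11], [5], [7], [8], [9]] [0,2,3,0,4,0,1,0,3,4,0,3,2,0,1,3,4,0,3,4,0] [381] (by decide +kernel)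
    obtain ⟨(e70 : β66 166 = a), -⟩ := a68
    rcases o69 with (e71 : β66 381 = b) | ⟨⟨⟩⟩
    obtain ⟨β72, v73, a74, o75⟩ := v67.norm sub1 (show Asg β66 [(166, 2, []), (381, 3, [])] [a, b] from ⟨e70, e71, trivial⟩) (Dc.symm m25) (show Pat g [3,3] [a, b] from ⟨m4, (Dc.symm m13), trivial⟩) [[5], [8], [9], [2,11]] [2,3,0,1,2,3,1,0,3,0] [371] (by decide +kernel)
    obtain ⟨(e76 : β72 166 = a), (e77 : β72 381 = b), -⟩ := a74
    rcases o75 with (e78 : β72 371 = g) | ⟨⟨⟩⟩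
    obtain ⟨β79, v80, a81, o82⟩ := v73.norm sub1 (show Asg β72 [(166, 2, []), (381, 3, []), (371, 5, [])] [a, b, g] from ⟨e76, e77, e78, trivial⟩) (Dc.symm r29) (show Pat e [3,3,3] [a, b, g] from ⟨r21, r22, m20, trivial⟩) [[8], [2,11,6], [9,6,5,6,9]] [1,2,0,1,2,0] [327] (by decide +kernel)
    obtain ⟨(e83 : β79 166 = a), (e84 : β79 381 = b), (e85 : β79 371 = g), -⟩ := a81
    rcases o82 with (e86 : β79 327 = e) | ⟨⟨⟩⟩
    obtain ⟨u, m88, e87⟩ := v80.new (p := 426) (by decide +kernel)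
    obtain ⟨(r89 : u ∈ Dc a), (r90 : u ∈ Dc b), (r91 : Adj g u), (r92 : Adj e u), -⟩ := v80.pat sub1 (show Asg β79 [(166, 2, []), (381, 3, []), (371, 5, []), (327, 8, [])] [a, b, g, e] from ⟨e83, e84, e85, e86, trivial⟩) e87 (C := [3,3,2,2]) (by decide +kernel)
    exact ⟨u, r89, (Dc.cm r90), r91, r92, m88⟩
  obtain ⟨f, β93, v94, a95, r96, r97⟩ : ∃ f β93, View M22 O1 (Dc a) β93 ∧ Asg β93 [(474, 6, []), (381, 3, []), (596, 4, []), (38, 7, []), (327, 8, []), (426, 9, []), (4, 4, [5,6,9,5,8,9]), (371, 5, [])] [g, d, e, h, i, y, w, f] ∧ f ∈ Dc a ∧ Cm b f := by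
    obtain ⟨β98, v99, a100, o101⟩ := v2.norm sub1 (show Asg β1 [(474, 6, [])] [g] from ⟨e3, trivial⟩) r17 (show Pat d [3] [g] from ⟨m16, trivial⟩) [[3], [7], [8], [9], [10,11,10]] [1,4,0,2,1,4,3,2,4,3,0,4,2,1,0,3] [381] (by decide +kernel)
    obtain ⟨(e102 : β98 474 = g), -⟩ := a100
    rcases o101 with (e103 : β98 381 = d) | ⟨⟨⟩⟩
    obtain ⟨β104, v105, a106, o107⟩ := v99.norm sub1 (show Asg β98 [(474, 6, []), (381, 3, [])] [g, d] from ⟨e102, e103, trivial⟩) r21 (show Pat e [3,2] [g, d] from ⟨m20, r23, trivial⟩) [[8], [9], [10,11,10,11], [7,4,3,4,7]] [3,0,2,1,2,3,2,0,1,2,3,0,2,3] [596] (by decide +kernel)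
    obtain ⟨(e108 : β104 474 = g), (e109 : β104 381 = d), -⟩ := a106
    rcases o107 with (e110 : β104 596 = e) | ⟨⟨⟩⟩
    obtain ⟨β111, v112, a113, o114⟩ := v105.norm sub1 (show Asg β104 [(474, 6, []), (381, 3, []), (596, 4, [])] [g, d, e] from ⟨e108, e109, e110, trivial⟩) r26 (show Pat h [3,2,3] [g, d, e] from ⟨m25, r28, r29, trivial⟩) [[2,11], [5,11,9,11,8,9,5,11,9,8,11,9,5,7,3,2,3,7,8,11,2,9,8,7,4,3,4,7]] [1,0,1,0,1,0,1,0,1,0,1] [38,166] (by decide +kernel)
    obtain ⟨(e115 : β111 474 = g), (e116 : β111 381 = d), (e117 : β111 596 = e), -⟩ := a113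
    rcases o114 with (e118 : β111 38 = h) | (e119 : β111 166 = h) | ⟨⟨⟩⟩
    · obtain ⟨β120, v121, a122, o123⟩ := v112.norm sub1 (show Asg β111 [(474, 6, []), (381, 3, []), (596, 4, []), (38, 7, [])] [g, d, e, h] from ⟨e115, e116, e117, e118, trivial⟩) r32 (show Pat i [3,3,3,2] [g, d, e, h] from ⟨m31, r34, r35, r36, trivial⟩) [[9], [2,11]] [0,1,0,1] [327] (by decide +kernel)
      obtain ⟨(e124 : β120 474 = g), (e125 : β120 381 = d), (e126 : β120 596 = e), (e127 : β120 38 = h), -⟩ := a122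
      rcases o123 with (e128 : β120 327 = i) | ⟨⟨⟩⟩
      obtain ⟨β129, v130, a131, o132⟩ := v121.norm sub1 (show Asg β120 [(474, 6, []), (381, 3, []), (596, 4, []), (38, 7, []), (327, 8, [])] [g, d, e, h, i] from ⟨e124, e125, e126, e127, e128, trivial⟩) r39 (show Pat y [3,3,3,3,2] [g, d, e, h, i] from ⟨m38, r41, r42, r43, r44, trivial⟩) [[5,11,9,11,8,9,5,11,9,8,11,9,5,7,3,2,3,7,11,10,11,10,8,9,10,11,10,11,9,8,7,4,3,4,7,10,11,10,11,9,10,11,10,11,9,8,9]] [0,0] [426,379] (by decide +kernel)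
      obtain ⟨(e133 : β129 474 = g), (e134 : β129 381 = d), (e135 : β129 596 = e), (e136 : β129 38 = h), (e137 : β129 327 = i), -⟩ := a131
      rcases o132 with (e138 : β129 426 = y) | (e139 : β129 379 = y) | ⟨⟨⟩⟩
      · obtain ⟨β140, v141, a142, o143⟩ := v130.norm sub1 (show Asg β129 [(474, 6, []), (381, 3, []), (596, 4, []), (38, 7, []), (327, 8, []), (426, 9, [])] [g, d, e, h, i, y] from ⟨e133, e134, e135, e136, e137, e138, trivial⟩) r47 (show Pat w [3,2,3,2,3,2] [g, d, e, h, i, y] from ⟨m46, r49, r50, r51, r52, r53, trivial⟩) [[5,11,9,11,8,9,5,11,9,8,11,9,5,7,3,2,3,7,11,10,11,10,8,9,10,11,10,11,9,8,7,4,3,4,7,10,11,10,11,9,10,11,10,11,9,8,9,8,7,3,4,2,3,7,8,5,4,3,7,6,5,4,3,2,3,4,5,6,7,3,4,5,8,7,3,2,4,3,7,8,11,2]] [0] [4,22,504,108,267,439,686] (by decide +kernel)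
        obtain ⟨(e144 : β140 474 = g), (e145 : β140 381 = d), (e146 : β140 596 = e), (e147 : β140 38 = h), (e148 : β140 327 = i), (e149 : β140 426 = y), -⟩ := a142
        rcases o143 with (e150 : β140 4 = w) | (e151 : β140 22 = w) | (e152 : β140 504 = w) | (e153 : β140 108 = w) | (e154 : β140 267 = w) | (e155 : β140 439 = w) | (e156 : β140 686 = w) | ⟨⟨⟩⟩
        · have o157 := v141.orbIn sub1 (sub_Pp b) (show Asg β140 [(381, 3, []), (596, 4, []), (38, 7, []), (327, 8, []), (426, 9, []), (4, 4, [5,6,9,5,8,9]), (474, 6, [])] [d, e, h, i, y, w, g] from ⟨e145, e146, e147, e148, e149, e150, e144, trivial⟩) (show AllP (· ∈ Pp b) [d, e, h, i, y, w, g] from ⟨(Dc.cm r18), (Dc.cm r22), (Dc.cm r27), (Dc.cm r33), (Dc.cm r40), (Dc.cm r48), (Dc.cm (Dc.symm m13)), trivial⟩) (show Asg β140 [(474, 6, []), (596, 4, []), (38, 7, [])] [g, e, h] from ⟨e144, e146, e147, trivial⟩) r54 r55 (show Pat f' [2,2,3] [g, e, h] from ⟨r56, r57, r58, trivial⟩)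 [1,6,0,5,2,0,3,4,5,2,1,0,5,4,3,2,4] [371,295] (by decide +kernel)
          rcases o157 with (z158 : Cm b (β140 371)) | (z159 : Cm b (β140 295)) | ⟨⟨⟩⟩
          · obtain ⟨u, m161, e160⟩ := v141.new (p := 371) (by decide +kernel)
            exact ⟨u, _, v141, (show Asg β140 [(474, 6, []), (381, 3, []), (596, 4, []), (38, 7, []), (327, 8, []), (426, 9, []), (4, 4, [5,6,9,5,8,9]), (371, 5, [])] [g, d, e, h, i, y, w, u] from ⟨e144, e145, e146, e147, e148, e149, e150, e160, trivial⟩), m161, (e160 ▸ z158 : Cm b u)⟩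
          · obtain ⟨u, m163, e162⟩ := v141.new (p := 295) (by decide +kernel)
            obtain ⟨w0, m165, e164⟩ := v141.new (p := 166) (by decide +kernel)
            obtain ⟨(r166 : w0 ∈ Dc g), -⟩ := v141.pat sub1 (show Asg β140 [(474, 6, [])] [g] from ⟨e144, trivial⟩) e164 (C := [3]) (by decide +kernel)
            have r167 : Cm b w0 := v141.ev_mem sub1 (show Asg β140 [(381, 3, []), (596, 4, []), (38, 7, []), (327, 8, []), (426, 9, []), (4, 4, [5,6,9,5,8,9]), (474, 6, []), (295, 2, [3,7,8,9,5])] [d, e, h, i, y, w, g, u] from ⟨e145, e146, e147, e148, e149, e150, e144, e162, trivial⟩) e145 e164 [5,2,7,1,5,0,4,7,5,2,0] (Z := Pp b) (sub_Pp _) (show AllP (· ∈ Pp b) [d, e, h, i, y, w, g, u] from ⟨(Dc.cm r18), (Dc.cm r22), (Dc.cm r27), (Dc.cm r33), (Dc.cm r40), (Dc.cm r48), (Dc.cm (Dc.symm m13)), (e162 ▸ z159 : Cm b u), trivial⟩) (Dc.cm r18) (by decide +kernel)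
            exact False.elim ((v141.not_mem_cls sub1 (show Asg β140 [(381, 3, []), (596, 4, []), (38, 7, []), (327, 8, []), (426, 9, []), (4, 4, [5,6,9,5,8,9])] [d, e, h, i, y, w] from ⟨e145, e146, e147, e148, e149, e150, trivial⟩) e164 (nat_lit 0x250420000000004000100002006001000000000000010004000000430000040001300000200004080000608000000000000002024000000000000024101000000000000000040800108000008201004000d00010) (by decide +kernel)) (v8.mem_cls sub1 (show Asg β7 [(381, 3, []), (166, 2, []), (38, 7, []), (327, 8, []), (489, 2, [3,4,5,6,7,3,4,5,8,7,3,2,4,3,7,8]), (4, 4, [5,6,9,5,8,9])] [d, e, h, i, y, w] from ⟨e15, e19, e24, e30, e37, e45, trivial⟩) (show Asg β7 [(474, 6, []), (371, 5, [])] [a, b] from ⟨e11, e12, trivial⟩) r166 (show Pat w0 [3,1] [a, b] from ⟨m165, r167, trivial⟩) [0,2,4,3,0,1] (by decide +kernel)))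
        · exact False.elim ((v8.ne (v8.evw sub1 (show Asg β7 [(381, 3, []), (166, 2, []), (38, 7, []), (327, 8, []), (489, 2, [3,4,5,6,7,3,4,5,8,7,3,2,4,3,7,8]), (4, 4, [5,6,9,5,8,9])] [d, e, h, i, y, w] from ⟨e15, e19, e24, e30, e37, e45, trivial⟩) e30 [4,5] 417 (by decide +kernel)) e24 (by decide +kernel)) (v141.ev_eq sub1 (show Asg β140 [(381, 3, []), (596, 4, []), (38, 7, []), (327, 8, []), (426, 9, []), (22, 7, [8,9])] [d, e, h, i, y, w] from ⟨e145, e146, e147, e148, e149, e151, trivial⟩) e148 e147 [4,5] (by decide +kernel)))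
        · exact False.elim ((v8.ne (v8.evw sub1 (show Asg β7 [(381, 3, []), (166, 2, []), (38, 7, []), (327, 8, []), (489, 2, [3,4,5,6,7,3,4,5,8,7,3,2,4,3,7,8]), (4, 4, [5,6,9,5,8,9])] [d, e, h, i, y, w] from ⟨e15, e19, e24, e30, e37, e45, trivial⟩) e15 [2,5,2] 87 (by decide +kernel)) e15 (by decide +kernel)) (v141.ev_eq sub1 (show Asg β140 [(381, 3, []), (596, 4, []), (38, 7, []), (327, 8, []), (426, 9, []), (504, 2, [3,4,7,3,8,9])] [d, e, h, i, y, w] from ⟨e145, e146, e147, e148, e149, e152, trivial⟩) e145 e145 [2,5,2] (by decide +kernel)))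
        · exact False.elim ((v141.ne (v141.evw sub1 (show Asg β140 [(381, 3, []), (596, 4, []), (38, 7, []), (327, 8, []), (426, 9, []), (108, 2, [3,4,5,6,9,5,4,3,8,7])] [d, e, h, i, y, w] from ⟨e145, e146, e147, e148, e149, e153, trivial⟩) e145 [1,2,3,5,4,2,5] 519 (by decide +kernel)) e145 (by decide +kernel)) (v8.ev_eq sub1 (show Asg β7 [(381, 3, []), (166, 2, []), (38, 7, []), (327, 8, []), (489, 2, [3,4,5,6,7,3,4,5,8,7,3,2,4,3,7,8]), (4, 4, [5,6,9,5,8,9])] [d, e, h, i, y, w] from ⟨e15, e19, e24, e30, e37, e45, trivial⟩) e15 e15 [1,2,3,5,4,2,5] (by decide +kernel)))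
        · exact False.elim ((v141.ne (v141.evw sub1 (show Asg β140 [(381, 3, []), (596, 4, []), (38, 7, []), (327, 8, []), (426, 9, []), (267, 2, [3,4,5,6,7,3,9,5,8,9])] [d, e, h, i, y, w] from ⟨e145, e146, e147, e148, e149, e154, trivial⟩) e145 [1,2,3,5,4,2,5] 96 (by decide +kernel)) e145 (by decide +kernel)) (v8.ev_eq sub1 (show Asg β7 [(381, 3, []), (166, 2, []), (38, 7, []), (327, 8, []), (489, 2, [3,4,5,6,7,3,4,5,8,7,3,2,4,3,7,8]), (4, 4, [5,6,9,5,8,9])] [d, e, h, i, y, w] from ⟨e15, e19, e24, e30, e37, e45, trivial⟩) e15 e15 [1,2,3,5,4,2,5] (by decide +kernel)))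
        · exact False.elim ((v141.ne (v141.evw sub1 (show Asg β140 [(381, 3, []), (596, 4, []), (38, 7, []), (327, 8, []), (426, 9, []), (439, 2, [3,4,5,6,9,5,4,3,8,9])] [d, e, h, i, y, w] from ⟨e145, e146, e147, e148, e149, e155, trivial⟩) e145 [1,2,3,5,4,2,5] 519 (by decide +kernel)) e145 (by decide +kernel)) (v8.ev_eq sub1 (show Asg β7 [(381, 3, []), (166, 2, []), (38, 7, []), (327, 8, []), (489, 2, [3,4,5,6,7,3,4,5,8,7,3,2,4,3,7,8]), (4, 4, [5,6,9,5,8,9])] [d, e, h, i, y, w] from ⟨e15, e19, e24, e30, e37, e45, trivial⟩) e15 e15 [1,2,3,5,4,2,5] (by decide +kernel)))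
        · exact False.elim ((v8.ne (v8.evw sub1 (show Asg β7 [(381, 3, []), (166, 2, []), (38, 7, []), (327, 8, []), (489, 2, [3,4,5,6,7,3,4,5,8,7,3,2,4,3,7,8]), (4, 4, [5,6,9,5,8,9])] [d, e, h, i, y, w] from ⟨e15, e19, e24, e30, e37, e45, trivial⟩) e15 [2,5,2] 87 (by decide +kernel)) e15 (by decide +kernel)) (v141.ev_eq sub1 (show Asg β140 [(381, 3, []), (596, 4, []), (38, 7, []), (327, 8, []), (426, 9, []), (686, 2, [3,4,5,6,7,3,4,5,8,7])] [d, e, h, i, y, w] from ⟨e145, e146, e147, e148, e149, e156, trivial⟩) e145 e145 [2,5,2] (by decide +kernel)))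
      · obtain ⟨β168, v169, a170, o171⟩ := v130.norm sub1 (show Asg β129 [(474, 6, []), (381, 3, []), (596, 4, []), (38, 7, []), (327, 8, []), (379, 2, [3,4,5,6,7,3,4,5])] [g, d, e, h, i, y] from ⟨e133, e134, e135, e136, e137, e139, trivial⟩) r47 (show Pat w [3,2,3,2,3,2] [g, d, e, h, i, y] from ⟨m46, r49, r50, r51, r52, r53, trivial⟩) [[2,11,8,7,3,4,2,3,7,8,5,4,3,7,6,5,4,3,2,3,4,5,6,7,3,4,5,8,7,3,2,4,3,7,8], [5,11,9,11,8,9,5,11,9,8,11,9,5,7,3,2,3,7,11,10,11,10,8,9,10,11,10,11,9,8,7,4,3,4,7,10,11,10,11,9,10,11,10,11,9,8,9]] [0,1,0] [22,4,439,686] (by decide +kernel)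
        obtain ⟨(e172 : β168 474 = g), (e173 : β168 381 = d), (e174 : β168 596 = e), (e175 : β168 38 = h), (e176 : β168 327 = i), (e177 : β168 379 = y), -⟩ := a170
        rcases o171 with (e178 : β168 22 = w) | (e179 : β168 4 = w) | (e180 : β168 439 = w) | (e181 : β168 686 = w) | ⟨⟨⟩⟩
        · exact False.elim ((v8.ne (v8.evw sub1 (show Asg β7 [(381, 3, []), (166, 2, []), (38, 7, []), (327, 8, []), (489, 2, [3,4,5,6,7,3,4,5,8,7,3,2,4,3,7,8]), (4, 4, [5,6,9,5,8,9])] [d, e, h, i, y, w] from ⟨e15, e19, e24, e30, e37, e45, trivial⟩) e15 [2,5,2] 87 (by decide +kernel)) e15 (by decide +kernel)) (v169.ev_eq sub1 (show Asg β168 [(381, 3, []), (596, 4, []), (38, 7, []), (327, 8, []), (379, 2, [3,4,5,6,7,3,4,5]), (22, 7, [8,9])] [d, e, h, i, y, w] from ⟨e173, e174, e175, e176, e177, e178, trivial⟩) e173 e173 [2,5,2] (by decide +kernel)))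
        · exact False.elim ((v169.ne (v169.evw sub1 (show Asg β168 [(381, 3, []), (596, 4, []), (38, 7, []), (327, 8, []), (379, 2, [3,4,5,6,7,3,4,5]), (4, 4, [5,6,9,5,8,9])] [d, e, h, i, y, w] from ⟨e173, e174, e175, e176, e177, e179, trivial⟩) e173 [1,2,3,5,4,2,5] 519 (by decide +kernel)) e173 (by decide +kernel)) (v8.ev_eq sub1 (show Asg β7 [(381, 3, []), (166, 2, []), (38, 7, []), (327, 8, []), (489, 2, [3,4,5,6,7,3,4,5,8,7,3,2,4,3,7,8]), (4, 4, [5,6,9,5,8,9])] [d, e, h, i, y, w] from ⟨e15, e19, e24, e30, e37, e45, trivial⟩) e15 e15 [1,2,3,5,4,2,5] (by decide +kernel)))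
        · have o182 := v169.orbIn sub1 (sub_Pp b) (show Asg β168 [(381, 3, []), (596, 4, []), (38, 7, []), (327, 8, []), (379, 2, [3,4,5,6,7,3,4,5]), (439, 2, [3,4,5,6,9,5,4,3,8,9]), (474, 6, [])] [d, e, h, i, y, w, g] from ⟨e173, e174, e175, e176, e177, e180, e172, trivial⟩) (show AllP (· ∈ Pp b) [d, e, h, i, y, w, g] from ⟨(Dc.cm r18), (Dc.cm r22), (Dc.cm r27), (Dc.cm r33), (Dc.cm r40), (Dc.cm r48), (Dc.cm (Dc.symm m13)), trivial⟩) (show Asg β168 [(474, 6, []), (596, 4, []), (38, 7, [])] [g, e, h] from ⟨e172, e174, e175, trivial⟩) r54 r55 (show Pat f' [2,2,3] [g, e, h] from ⟨r56, r57, r58, trivial⟩) [1,4,6,3,5,0,2,5,0,3,1,5,2,0,4] [371,691] (by decide +kernel)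
          rcases o182 with (z183 : Cm b (β168 371)) | (z184 : Cm b (β168 691)) | ⟨⟨⟩⟩
          · obtain ⟨u, m186, e185⟩ := v169.new (p := 371) (by decide +kernel)
            obtain ⟨w0, m188, e187⟩ := v169.new (p := 166) (by decide +kernel)
            obtain ⟨(r189 : w0 ∈ Dc g), -⟩ := v169.pat sub1 (show Asg β168 [(474, 6, [])] [g] from ⟨e172, trivial⟩) e187 (C := [3]) (by decide +kernel)
            have r190 : Cm b w0 := v169.ev_mem sub1 (show Asg β168 [(381, 3, []), (596, 4, []), (38, 7, []), (327, 8, []), (379, 2, [3,4,5,6,7,3,4,5]), (439, 2, [3,4,5,6,9,5,4,3,8,9]), (474, 6, []), (371, 5, [])] [d, e, h, i, y, w, g, u] from ⟨e173, e174, e175, e176, e177, e180, e172, e185, trivial⟩) e173 e187 [1,2,7,4,6,7,1,0] (Z := Pp b) (sub_Pp _) (show AllP (· ∈ Pp b) [d, e, h, i, y, w, g, u] from ⟨(Dc.cm r18), (Dc.cm r22), (Dc.cm r27), (Dc.cm r33), (Dc.cm r40), (Dc.cm r48), (Dc.cm (Dc.symm m13)), (e185 ▸ z183 : Cm b u), trivial⟩) (Dc.cm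 r18) (by decide +kernel)
            exact False.elim ((v169.not_mem_cls sub1 (show Asg β168 [(381, 3, []), (596, 4, []), (38, 7, []), (327, 8, []), (379, 2, [3,4,5,6,7,3,4,5]), (439, 2, [3,4,5,6,9,5,4,3,8,9])] [d, e, h, i, y, w] from ⟨e173, e174, e175, e176, e177, e180, trivial⟩) e187 (nat_lit 0x4004600000000008002000100000000001000100000000000020000000000080000022500010288020000501008028000804040000020020020000000000100100008000000060060010000000000400004c10000000) (by decide +kernel)) (v8.mem_cls sub1 (show Asg β7 [(381, 3, []), (166, 2, []), (38, 7, []), (327, 8, []), (489, 2, [3,4,5,6,7,3,4,5,8,7,3,2,4,3,7,8]), (4, 4, [5,6,9,5,8,9])] [d, e, h, i, y, w] from ⟨e15, e19, e24, e30, e37, e45, trivial⟩) (show Asg β7 [(474, 6, []), (371, 5, [])] [a, b] from ⟨e11, e12, trivial⟩) r189 (show Pat w0 [3,1] [a, b] from ⟨m188, r190, trivial⟩) [0,2,4,3,0,1] (by decide +kernel)))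
          · obtain ⟨u, m192, e191⟩ := v169.new (p := 691) (by decide +kernel)
            obtain ⟨w0, m194, e193⟩ := v169.new (p := 166) (by decide +kernel)
            obtain ⟨(r195 : w0 ∈ Dc g), -⟩ := v169.pat sub1 (show Asg β168 [(474, 6, [])] [g] from ⟨e172, trivial⟩) e193 (C := [3]) (by decide +kernel)
            have r196 : Cm b w0 := v169.ev_mem sub1 (show Asg β168 [(381, 3, []), (596, 4, []), (38, 7, []), (327, 8, []), (379, 2, [3,4,5,6,7,3,4,5]), (439, 2, [3,4,5,6,9,5,4,3,8,9]), (474, 6, []), (691, 5, [9])] [d, e, h, i, y, w, g, u] from ⟨e173, e174, e175, e176, e177, e180, e172, e191, trivial⟩) e173 e193 [1,2,7,4,6,7,1,0] (Z := Pp b) (sub_Pp _) (show AllP (· ∈ Pp b) [d, e, h, i, y, w, g, u] from ⟨(Dc.cm r18), (Dc.cm r22), (Dc.cm r27), (Dc.cm r33), (Dc.cm r40), (Dc.cm r48), (Dc.cm (Dc.symm m13)), (e191 ▸ z184 : Cm b u), trivial⟩) (Dc.cm r18) (by decide +kernel)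
            exact False.elim ((v169.not_mem_cls sub1 (show Asg β168 [(381, 3, []), (596, 4, []), (38, 7, []), (327, 8, []), (379, 2, [3,4,5,6,7,3,4,5]), (439, 2, [3,4,5,6,9,5,4,3,8,9])] [d, e, h, i, y, w] from ⟨e173, e174, e175, e176, e177, e180, trivial⟩) e193 (nat_lit 0x4004600000000008002000100000000001000100000000000020000000000080000022500010288020000501008028000804040000020020020000000000100100008000000060060010000000000400004c10000000) (by decide +kernel)) (v8.mem_cls sub1 (show Asg β7 [(381, 3, []), (166, 2, []), (38, 7, []), (327, 8, []), (489, 2, [3,4,5,6,7,3,4,5,8,7,3,2,4,3,7,8]), (4, 4, [5,6,9,5,8,9])] [d, e, h, i, y, w] from ⟨e15, e19, e24, e30, e37, e45, trivial⟩) (show Asg β7 [(474, 6, []), (371, 5, [])] [a, b] from ⟨e11, e12, trivial⟩) r195 (show Pat w0 [3,1] [a, b] from ⟨m194, r196, trivial⟩) [0,2,4,3,0,1] (by decide +kernel)))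
        · exact False.elim ((v8.ne (v8.evw sub1 (show Asg β7 [(381, 3, []), (166, 2, []), (38, 7, []), (327, 8, []), (489, 2, [3,4,5,6,7,3,4,5,8,7,3,2,4,3,7,8]), (4, 4, [5,6,9,5,8,9])] [d, e, h, i, y, w] from ⟨e15, e19, e24, e30, e37, e45, trivial⟩) e30 [4,5] 417 (by decide +kernel)) e24 (by decide +kernel)) (v169.ev_eq sub1 (show Asg β168 [(381, 3, []), (596, 4, []), (38, 7, []), (327, 8, []), (379, 2, [3,4,5,6,7,3,4,5]), (686, 2, [3,4,5,6,7,3,4,5,8,7])] [d, e, h, i, y, w] from ⟨e173, e174, e175, e176, e177, e181, trivial⟩) e176 e175 [4,5] (by decide +kernel)))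
    · obtain ⟨β197, v198, -, o200⟩ := v112.norm sub1 (show Asg β111 [(474, 6, []), (381, 3, []), (596, 4, []), (166, 2, [])] [g, d, e, h] from ⟨e115, e116, e117, e119, trivial⟩) r32 (show Pat i [3,3,3,2] [g, d, e, h] from ⟨m31, r34, r35, r36, trivial⟩) [] [] [] (by decide +kernel)
      exact False.elim o200
  obtain ⟨(e201 : β93 474 = g), (e202 : β93 381 = d), (e203 : β93 596 = e), (e204 : β93 38 = h), (e205 : β93 327 = i), (e206 : β93 426 = y), (e207 : β93 4 = w), (e208 : β93 371 = f), -⟩ := a95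
  obtain ⟨(r209 : Adj g f), (r210 : f ∈ Dc d), (r211 : Adj e f), (r212 : f ∈ Dc h), (r213 : f ∈ Dc i), (r214 : Adj y f), (r215 : f ∈ Dc w), -⟩ := v94.pat sub1 (show Asg β93 [(474, 6, []), (381, 3, []), (596, 4, []), (38, 7, []), (327, 8, []), (426, 9, []), (4, 4, [5,6,9,5,8,9])] [g, d, e, h, i, y, w] from ⟨e201, e202, e203, e204, e205, e206, e207, trivial⟩) e208 (C := [2,3,2,3,3,2,3]) (by decide +kernel)
  obtain ⟨c, m217, e216⟩ := v94.new (p := 166) (by decide +kernel)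
  obtain ⟨(r218 : c ∈ Dc g), (r219 : Adj d c), (r220 : c ∈ Dc e), (r221 : c ∈ Dc h), (r222 : c ∈ Dc i), (r223 : c ∈ Dc y), (r224 : c ∈ Dc w), (r225 : c ∈ Dc f), -⟩ := v94.pat sub1 (show Asg β93 [(474, 6, []), (381, 3, []), (596, 4, []), (38, 7, []), (327, 8, []), (426, 9, []), (4, 4, [5,6,9,5,8,9]), (371, 5, [])] [g, d, e, h, i, y, w, f] from ⟨e201, e202, e203, e204, e205, e206, e207, e208, trivial⟩) e216 (C := [3,2,3,3,3,3,3,3]) (by decide +kernel)
  have r226 : Adj b c := fun hc =>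
    (v94.not_mem_cls sub1 (show Asg β93 [(381, 3, []), (596, 4, []), (38, 7, []), (327, 8, []), (426, 9, []), (4, 4, [5,6,9,5,8,9])] [d, e, h, i, y, w] from ⟨e202, e203, e204, e205, e206, e207, trivial⟩) e216 (nat_lit 0x250420000000004000100002006001000000000000010004000000430000040001300000200004080000608000000000000002024000000000000024101000000000000000040800108000008201004000d00010) (by decide +kernel)) (v8.mem_cls sub1 (show Asg β7 [(381, 3, []), (166, 2, []), (38, 7, []), (327, 8, []), (489, 2, [3,4,5,6,7,3,4,5,8,7,3,2,4,3,7,8]), (4, 4, [5,6,9,5,8,9])] [d, e, h, i, y, w] from ⟨e15, e19, e24, e30, e37, e45, trivial⟩) (show Asg β7 [(474, 6, []), (371, 5, [])] [a, b] from ⟨e11, e12, trivial⟩) r218 (show Pat c [3,1] [a, b] from ⟨m217, hc, trivial⟩) [0,2,4,3,0,1] (by decide +kernel))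
  obtain ⟨β227, v228, a229, o230⟩ := v8.norm sub1 (show Asg β7 [(474, 6, []), (371, 5, []), (381, 3, []), (166, 2, []), (38, 7, []), (327, 8, []), (489, 2, [3,4,5,6,7,3,4,5,8,7,3,2,4,3,7,8]), (4, 4, [5,6,9,5,8,9])] [a, b, d, e, h, i, y, w] from ⟨e11, e12, e15, e19, e24, e30, e37, e45, trivial⟩) r218 (show Pat c [3,2,2,3,3,3,3,3] [a, b, d, e, h, i, y, w] from ⟨m217, r226, r219, r220, r221, r222, r223, r224, trivial⟩) [[5,9,11,8,7,10,9,8,7,10,4,5,7,2,3,7,10,11,10,11,8,7,11,10,11,10,7,3,2,3,7,11,10,11,10,8,7,3,2,3,7,11,10,11,10,8,2,11,6]] [0,0] [596] (by decide +kernel)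
  obtain ⟨(e231 : β227 474 = a), (e232 : β227 371 = b), (e233 : β227 381 = d), (e234 : β227 166 = e), (e235 : β227 38 = h), (e236 : β227 327 = i), (e237 : β227 489 = y), (e238 : β227 4 = w), -⟩ := a229
  rcases o230 with (e239 : β227 596 = c) | ⟨⟨⟩⟩
  have hc : CoxL [a, b, c, d, e, f, g, h, i, y] [a, b, c, d, e, f, g, h, i, y] Cs := ⟨⟨trivial, (Adj.symm r14), (Dc.cm (Dc.symm m217)), (Dc.cm (Dc.symm r17)), (Dc.cm (Dc.symm r21)), (Dc.cm (Dc.symm r96)), (Dc.cm (Dc.symm m4)), (Dc.cm (Dc.symm r26)), (Dc.cm (Dc.symm r32)), (Dc.cm (Dc.symm r39)), trivial⟩,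
      ⟨r14, trivial, (Adj.symm r226), (Dc.cm (Dc.symm r18)), (Dc.cm (Dc.symm r22)), (Cm.symm r97), (Dc.cm m13), (Dc.cm (Dc.symm r27)), (Dc.cm (Dc.symm r33)), (Dc.cm (Dc.symm r40)), trivial⟩,
      ⟨(Dc.cm m217), r226, trivial, r219, (Dc.cm r220), (Dc.cm r225), (Dc.cm r218), (Dc.cm r221), (Dc.cm r222), (Dc.cm r223), trivial⟩,
      ⟨(Dc.cm r17), (Dc.cm r18), (Adj.symm r219), trivial, (Adj.symm r23), (Dc.cm (Dc.symm r210)), (Dc.cm m16), (Adj.symm r28), (Dc.cm (Dc.symm r34)), (Dc.cm (Dc.symm r41)), trivial⟩,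
      ⟨(Dc.cm r21), (Dc.cm r22), (Dc.cm (Dc.symm r220)), r23, trivial, (Adj.symm r211), (Dc.cm m20), (Dc.cm (Dc.symm r29)), (Dc.cm (Dc.symm r35)), (Dc.cm (Dc.symm r42)), trivial⟩,
      ⟨(Dc.cm r96), r97, (Dc.cm (Dc.symm r225)), (Dc.cm r210), r211, trivial, r209, (Dc.cm r212), (Dc.cm r213), r214, trivial⟩,
      ⟨(Dc.cm m4), (Dc.cm (Dc.symm m13)), (Dc.cm (Dc.symm r218)), (Dc.cm (Dc.symm m16)), (Dc.cm (Dc.symm m20)), (Adj.symm r209), trivial, (Dc.cm (Dc.symm m25)), (Dc.cm (Dc.symm m31)), (Dc.cm (Dc.symm m38)), trivial⟩,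
      ⟨(Dc.cm r26), (Dc.cm r27), (Dc.cm (Dc.symm r221)), r28, (Dc.cm r29), (Dc.cm (Dc.symm r212)), (Dc.cm m25), trivial, (Adj.symm r36), (Dc.cm (Dc.symm r43)), trivial⟩,
      ⟨(Dc.cm r32), (Dc.cm r33), (Dc.cm (Dc.symm r222)), (Dc.cm r34), (Dc.cm r35), (Dc.cm (Dc.symm r213)), (Dc.cm m31), r36, trivial, (Adj.symm r44), trivial⟩,
      ⟨(Dc.cm r39), (Dc.cm r40), (Dc.cm (Dc.symm r223)), (Dc.cm r41), (Dc.cm r42), (Adj.symm r214), (Dc.cm m38), (Dc.cm r43), r44, trivial, trivial⟩, trivial⟩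
  have s1 : SubL [a, b, c, d, e, f, g, h, i, y] [a, b, c, d, e, h, y] [[0], [1], [2], [3], [4], [7], [9]] := ⟨(one_mul _).symm, (one_mul _).symm, (one_mul _).symm, (one_mul _).symm, (one_mul _).symm, (one_mul _).symm, (one_mul _).symm, trivial⟩
  obtain ⟨a1, m241, e240⟩ := v228.new (p := 379) (by decide +kernel)
  obtain ⟨(r242 : a1 ∈ Dc a), -⟩ := v228.pat sub1 (show Asg β227 [(474, 6, [])] [a] from ⟨e231, trivial⟩) e240 (C := [3]) (by decide +kernel)
  have ea : β93 525 = a1 := (v94.evw sub1 (show Asg β93 [(166, 2, []), (381, 3, []), (596, 4, []), (38, 7, []), (327, 8, []), (426, 9, []), (4, 4, [5,6,9,5,8,9])] [c, d, e, h, i, y, w] from ⟨e216, e202, e203, e204, e205, e206, e207, trivial⟩) e216 [1,2,3,1,4,3,5,4] 525 (by decide +kernel)).trans (v228.ev_eq sub1 (show Asg β227 [(596, 4, []), (381, 3, []), (166, 2, []), (38, 7, []), (327, 8, []), (489, 2, [3,4,5,6,7,3,4,5,8,7,3,2,4,3,7,8]), (4, 4, [5,6,9,5,8,9])] [c, d, e, h, i, y,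 w] from ⟨e239, e233, e234, e235, e236, e237, e238, trivial⟩) e239 e240 [1,2,3,1,4,3,5,4] (by decide +kernel))
  have s2 : SubL [a, b, c, d, e, f, g, h, i, y] [a1, c, d, e, h, y] [[1,2,3,7,4,3,2,1,0,1,2,3,4,7,3,2,1], [2], [3], [4], [7], [9]] := ⟨t_word (i := 0) (s1.ev (v228.ev_eq sub1 (show Asg β227 [(474, 6, []), (371, 5, []), (596, 4, []), (381, 3, []), (166, 2, []), (38, 7, []), (489, 2, [3,4,5,6,7,3,4,5,8,7,3,2,4,3,7,8])] [a, b, c, d, e, h, y] from ⟨e231, e232, e239, e233, e234, e235, e237, trivial⟩) e231 e240 [1,2,3,4,5,3,2,1] (by decide +kernel)) (W' := [1,2,3,4,7,3,2,1]) (by decide +kernel)).symm rfl (by decide +kernel), (one_mul _).symm, (one_mul _).symm, (one_mul _).symm, (one_mul _).symm, (one_mul _).symm, trivial⟩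
  exact ⟨[a, b, c, d, e, f, g, h, i, y], rfl, hc, ⟨s1.ev (v228.ev_eq sub1 (show Asg β227 [(474, 6, []), (371, 5, []), (596, 4, []), (381, 3, []), (166, 2, []), (38, 7, []), (489, 2, [3,4,5,6,7,3,4,5,8,7,3,2,4,3,7,8])] [a, b, c, d, e, h, y] from ⟨e231, e232, e239, e233, e234, e235, e237, trivial⟩) e231 e231 [5,4,3,2,1,0,5,4,3,2,1,0,5,4,3,2,1,0,5,4,3,2,1,0,5,4,3,2,1,0,6] (by decide +kernel)) (by decide +kernel),
      s1.ev (v228.ev_eq sub1 (show Asg β227 [(474, 6, []), (371, 5, []), (596, 4, []), (381, 3, []), (166, 2, []), (38, 7, []), (489, 2, [3,4,5,6,7,3,4,5,8,7,3,2,4,3,7,8])] [a, b, c, d, e, h, y] from ⟨e231, e232, e239, e233, e234, e235, e237, trivial⟩) e232 e232 [5,4,3,2,1,0,5,4,3,2,1,0,5,4,3,2,1,0,5,4,3,2,1,0,5,4,3,2,1,0,6] (by decide +kernel)) (by decide +kernel),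
      s1.ev (v228.ev_eq sub1 (show Asg β227 [(474, 6, []), (371, 5, []), (596, 4, []), (381, 3, []), (166, 2, []), (38, 7, []), (489, 2, [3,4,5,6,7,3,4,5,8,7,3,2,4,3,7,8])] [a, b, c, d, e, h, y] from ⟨e231, e232, e239, e233, e234, e235, e237, trivial⟩) e239 e239 [5,4,3,2,1,0,5,4,3,2,1,0,5,4,3,2,1,0,5,4,3,2,1,0,5,4,3,2,1,0,6] (by decide +kernel)) (by decide +kernel),
      s1.ev (v228.ev_eq sub1 (show Asg β227 [(474, 6, []), (371, 5, []), (596, 4, []), (381, 3, []), (166, 2, []), (38, 7, []), (489, 2, [3,4,5,6,7,3,4,5,8,7,3,2,4,3,7,8])] [a, b, c, d, e, h, y] from ⟨e231, e232, e239, e233, e234, e235, e237, trivial⟩) e233 e233 [5,4,3,2,1,0,5,4,3,2,1,0,5,4,3,2,1,0,5,4,3,2,1,0,5,4,3,2,1,0,6] (by decide +kernel)) (by decide +kernel),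
      s1.ev (v228.ev_eq sub1 (show Asg β227 [(474, 6, []), (371, 5, []), (596, 4, []), (381, 3, []), (166, 2, []), (38, 7, []), (489, 2, [3,4,5,6,7,3,4,5,8,7,3,2,4,3,7,8])] [a, b, c, d, e, h, y] from ⟨e231, e232, e239, e233, e234, e235, e237, trivial⟩) e234 e234 [5,4,3,2,1,0,5,4,3,2,1,0,5,4,3,2,1,0,5,4,3,2,1,0,5,4,3,2,1,0,6] (by decide +kernel)) (by decide +kernel),
      fix_deriv (allOne_sub (hc.allOne (k := 10) le_rfl (by decide +kernel)) (S := Cox) (I := List.range 55) (by decide +kernel))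
        (fix_app (s2.ev (v94.ev_eq sub1 (show Asg β93 [(525, 2, [3,4,5,7,3,4,9,5]), (166, 2, []), (381, 3, []), (596, 4, []), (38, 7, []), (426, 9, [])] [a1, c, d, e, h, y] from ⟨ea, e216, e202, e203, e204, e206, trivial⟩) e208 e208 [0,1,2,4,3,2,1,2,3,4,2,3,4,5] (by decide +kernel)) (W' := [1,2,3,7,4,3,2,1,0,1,2,3,4,7,3,2,1,2,3,7,4,3,2,3,4,7,3,4,7,9]) (by decide +kernel)) (fix_of_cm (W := [0]) hc.2.2.2.2.2.1 (by decide +kernel))) [(nat_lit 0x80100002000580100002100480180202200280180001300080100002300280100202300980100002301080100202301780100000701c80100002001b80100002101a80180202201880180001301680100001001580100001101480100001201380180201301180180002200f80100001f00e80100002000d80100002100c80180202200a80180001300880100001000780100001100680100001200580180201300380180002200180100002300080100000d00880100000e00780180200f00580100201200480100202100380100002300a80100000d00f80100000e00e80180200f00c80100201200b80100202100a80100000b00980180200c00780100200e00680100201100580100202000480100000d01680100000e01580180200f01380100201201280100202101180100000b01080180200c00e80100200e00d80100201100c80100202000b80180200a00980100200b00880100200d00780100201000680100201f00580100002301880100000901d80100000001e80100202e01d),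
    (nat_lit 0x80180002200b80100002100a80100001f00980100002000880100002100780180202200580180001300380100001200280100202300180100002300580100202300d80100002301580100000301a80100000e01980180200f01780100201201680100202101580180000f01380100000d01280100000e01180180200f00f80100202100e80100201200d80180000f00b80100000d00a80100000e00980180200f00780100201200680100202100580180000f00380100000b00b80180200c00980100200e00880100201100780100202000680100200e00580100000b01380180200c01180100200e01080100202000f80100201100e80100200e00d80180200a00b80100200b00a80100200d00980100201000880100201f00780100200d00680100000401b80100001101a80100001201980180201301780180002201580100001f01480100002001380100002101280180202201080180001300e80100001000d80100001100c80100001200b80180201300980180002200780100001f006),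
    (nat_lit 0x80180000c00e80100000b00d80180200c00b80100200e00a80100202000980100201100880100200e00780180000c00580180200a00d80100200b00c80100200d00b80100201f00a80100201000980100200d00880100200b00780100000301780100000e01680180200f01480100201201380100202101280180000f01080100000d00f80100000e00e80180200f00c80100202100b80100201200a80180000f00880100000d00780100000e00680180200f00480100201200380100202100280180000f00080100000401880100001101780100001201680180201301480180002201280100002101180100001f01080100002000f80100002100e80180202200c80180001300a80100001200980100001000880100001100780100001200680180201300480180002200280100002100180100202300480100002300c80100202301480100000701980100002001880100002101780180202201580180001301380100001201280100001001180100001101080100001200f80180201300d),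
    (nat_lit 0x80100000301280100000e01180180200f00f80100202100e80100201200d80180000f00b80100000e00a80100000d00980100000e00880180200f00680100201200580100202100480180000f00280100000e00180100000701380100002001280100002101180180202200f80180001300d80100001200c80100001100b80100001000a80100001100980100001200880180201300680180002200480100002100380100002000280100202300680100002300f80100000401480100001101380100001201280180201301080180002200e80100002100d80100002000c80100001f00b80100002000a80100002100980180202200780180001300580100001200480100001100380100000301580100000e01480180200f01280100201201180100202101080180000f00e80100000e00d80100000d00c80100000e00b80180200f00980100202100880100201200780180000f00580100000e00480100000201680180200c01480100200e01380100201101280100202001180100200e010),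
    (nat_lit 0x80100000100080100000200180100000300280100000700380100000400480100000300580100000200680100000100780100000000880100000100980100000200a80100000300b80100000400c80100000700d80100000300e80100000200f80100000101080100000201180180200c00f80100200e00e80100202000d80100201100c80100200e00b80180000c00980100000b00880180200c00680100200e00580100201100480100202000380100200e00280180000c000)] (by decide +kernel),
      fix_of_cm hc.2.2.2.2.2.2.1 (by decide +kernel),
      s1.ev (v228.ev_eq sub1 (show Asg β227 [(474, 6, []), (371, 5, []), (596, 4, []), (381, 3, []), (166, 2, []), (38, 7, []), (489, 2, [3,4,5,6,7,3,4,5,8,7,3,2,4,3,7,8])] [a, b, c, d, e, h, y] from ⟨e231, e232, e239, e233, e234, e235, e237, trivial⟩) e235 e235 [5,4,3,2,1,0,5,4,3,2,1,0,5,4,3,2,1,0,5,4,3,2,1,0,5,4,3,2,1,0,6] (by decide +kernel)) (by decide +kernel),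
      s1.ev (v228.ev_eq sub1 (show Asg β227 [(474, 6, []), (371, 5, []), (596, 4, []), (381, 3, []), (166, 2, []), (38, 7, []), (489, 2, [3,4,5,6,7,3,4,5,8,7,3,2,4,3,7,8])] [a, b, c, d, e, h, y] from ⟨e231, e232, e239, e233, e234, e235, e237, trivial⟩) e236 e236 [5,4,3,2,1,0,5,4,3,2,1,0,5,4,3,2,1,0,5,4,3,2,1,0,5,4,3,2,1,0,6] (by decide +kernel)) (by decide +kernel),
      s1.ev (v228.ev_eq sub1 (show Asg β227 [(474, 6, []), (371, 5, []), (596, 4, []), (381, 3, []), (166, 2, []), (38, 7, []), (489, 2, [3,4,5,6,7,3,4,5,8,7,3,2,4,3,7,8])] [a, b, c, d, e, h, y] from ⟨e231, e232, e239, e233, e234, e235, e237, trivial⟩) e237 e237 [5,4,3,2,1,0,5,4,3,2,1,0,5,4,3,2,1,0,5,4,3,2,1,0,5,4,3,2,1,0,6] (by decide +kernel)) (by decide +kernel), trivial⟩, trivial⟩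

end R22

theorem rec22 {X : Type*} [FQ X] [Finite X] (hP : Prim X) (h : T22 X) :
    ∃ β : ℕ → X, View M22 (full 3510) Set.univ β := by
  obtain ⟨d, β, h⟩ := h
  have HV := (h.of_eq (Nc_Dc hP d)).at_all hP.conn
  obtain ⟨xs, h1, h2, h3⟩ := R22.step HV d
  obtain ⟨c, hc, -⟩ := view_of_gen R22.core h1 h2 h3
  exact ⟨c, hc.of_eq (cm1.univ hc hP (s := (0, 0, [])) 12 693 (fun x => by
    obtain ⟨_, h⟩ := HV x
    rw [h.ncard sub0 (d := 12) (by decide)]; decide +kernel) (by decide +kernel))⟩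

end H26
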