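import Cfsg.Agent.H26.R22
import Cfsg.Agent.H26.M23

/-! Recognition of the Fischer quandle of type `M(23)`. -/

set_option maxRecDepth 100000
set_option maxHeartbeats 4000000
set_option Elab.async false

namespace H26

open H9 H9.FQ

namespace R23

def Cs : List (List ℕ) := [[0,2,1,1,1,1,1,1,1,1], [2,0,2,1,1,1,1,1,1,1], [1,2,0,2,1,1,1,1,1,1], [1,1,2,0,2,1,1,2,1,1], [1,1,1,2,0,2,1,1,1,1], [1,1,1,1,2,0,2,1,1,1], [1,1,1,1,1,2,0,1,1,2], [1,1,1,2,1,1,1,0,2,1], [1,1,1,1,1,1,1,2,0,1], [1,1,1,1,1,1,2,1,1,0]]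
def f12 : List ℕ := rep 9 [7,5,4,3,2,1,0]
noncomputable def P : List Sp := [(3508, 0, []), (2224, 1, []), (3503, 2, []), (3302, 3, []), (3505, 4, []), (3345, 5, []), (3124, 6, []), (3501, 7, []), (3410, 8, []), (17739, 11, [])]

theorem core (Y : Type*) [FQ Y] (ys : List Y) (hk : ys.length = 10) (hg : cls ys = Set.univ)
    (h1 : CoxL ys ys Cs) (h2 : FixAll ys [f12]) :
    ∃ c, View M23 (full 31671) Set.univ c ∧ Asg c P ys := by
  have hX : NoIso Y := h1.noIso hg hk (by decide +kernel)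
  have hP : AllOne (tl ys) Q23.P := allOne_sub ((h1.allOne hk.ge (by decide +kernel)).append
    (h2.allOne hg)) (I := List.range 56) (by decide +kernel)
  obtain ⟨z1, z2⟩ := Q23.ofP (tl_inv ys) hP
  match ys, hk with
  | [a, b, c, d, e, f, g, h, i, j], _ =>
    obtain ⟨z, hz⟩ := hX a
    exact F23.cmm.core F23.ok rfl rfl rfl (fun _ _ => rfl) hX (fun _ => ev_tl_aut _ _) z1 z2
      (x0 := ev (tl [a, b, c, d, e, f, g, h, i, j]) [6,5,4,3,2,1,7,3,2,4,3,5,4,6,5,7,3,2,1,4,3,2,7,3,4,5,6,9] j) (b := 12)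
      (t_word (i := 9) rfl rfl (by decide +kernel))
      (by decide +kernel) (par := [1,10,1,4,5,6,11,8,10,5,11,12,0]) (rk := [4,3,4,5,4,3,2,4,3,4,2,1,0]) (by decide +kernel) hg (I := [0,1,2,3,4,5,6,7,8,11])
      (by decide) (by decide +kernel) 
      (by iterate 10 refine congrArg₂ List.cons (one_mul _).symm ?_
          rfl) hz.ne

theorem step {X : Type*} [FQ X] (HV : ∀ x : X, ∃ β, View M22 (full 3510) (Dc x) β) (m : X) :
    ∃ xs : List X, xs.length = 10 ∧ CoxL xs xs Cs ∧ FixAll xs [f12] := by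
  obtain ⟨β1, v2⟩ := HV m
  obtain ⟨i, m4, e3⟩ := v2.new (p := 327) (by decide +kernel)
  obtain ⟨β5, v6⟩ := HV i
  obtain ⟨β7, v8, -, o10⟩ := v6.norm F22.sub (show Asg β5 [] [] from trivial) (Dc.symm m4) (show Pat m [] [] from trivial) [[0], [1], [2], [3], [4], [5], [6], [7], [8]] [5,4,6,3,2,7,5,1,8,3,4,0,2,7,3,1,5,2,4,7,8,3,1,5,0,6,7,8,2,4,3,1,5,0,6,2,7,1,3,2] [474] (by decide +kernel)
  rcases o10 with (e11 : β7 474 = m) | ⟨⟨⟩⟩
  obtain ⟨j, m13, e12⟩ := v8.new (p := 371) (by decide +kernel)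
  obtain ⟨(r14 : Adj m j), -⟩ := v8.pat F22.sub (show Asg β7 [(474, 6, [])] [m] from ⟨e11, trivial⟩) e12 (C := [2]) (by decide +kernel)
  obtain ⟨a0, m16, e15⟩ := v8.new (p := 0) (by decide +kernel)
  obtain ⟨(r17 : a0 ∈ Dc m), (r18 : a0 ∈ Dc j), -⟩ := v8.pat F22.sub (show Asg β7 [(474, 6, []), (371, 5, [])] [m, j] from ⟨e11, e12, trivial⟩) e15 (C := [3,3]) (by decide +kernel)
  obtain ⟨b0, m20, e19⟩ := v8.new (p := 969) (by decide +kernel)
  obtain ⟨(r21 : b0 ∈ Dc m), (r22 : b0 ∈ Dc j), (r23 : Adj a0 b0), -⟩ := v8.pat F22.sub (show Asg β7 [(474, 6, []), (371, 5, []), (0, 0, [])] [m, j, a0] from ⟨e11, e12, e15, trivial⟩) e19 (C := [3,3,2]) (by decide +kernel)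
  obtain ⟨c0, m25, e24⟩ := v8.new (p := 166) (by decide +kernel)
  obtain ⟨(r26 : c0 ∈ Dc m), (r27 : c0 ∈ Dc j), (r28 : c0 ∈ Dc a0), (r29 : Adj b0 c0), -⟩ := v8.pat F22.sub (show Asg β7 [(474, 6, []), (371, 5, []), (0, 0, []), (969, 1, [])] [m, j, a0, b0] from ⟨e11, e12, e15, e19, trivial⟩) e24 (C := [3,3,3,2]) (by decide +kernel)
  obtain ⟨d0, m31, e30⟩ := v8.new (p := 381) (by decide +kernel)
  obtain ⟨(r32 : d0 ∈ Dc m), (r33 : d0 ∈ Dc j), (r34 : d0 ∈ Dc a0), (r35 : d0 ∈ Dc b0), (r36 : Adj c0 d0), -⟩ := v8.pat F22.sub (show Asg β7 [(474, 6, []), (371, 5, []), (0, 0, []), (969, 1, []), (166, 2, [])] [m, j, a0, b0, c0] from ⟨e11, e12, e15, e19, e24, trivial⟩) e30 (C := [3,3,3,3,2]) (by decide +kernel)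
  obtain ⟨e0, m38, e37⟩ := v8.new (p := 38) (by decide +kernel)
  obtain ⟨(r39 : e0 ∈ Dc m), (r40 : e0 ∈ Dc j), (r41 : e0 ∈ Dc a0), (r42 : e0 ∈ Dc b0), (r43 : e0 ∈ Dc c0), (r44 : Adj d0 e0), -⟩ := v8.pat F22.sub (show Asg β7 [(474, 6, []), (371, 5, []), (0, 0, []), (969, 1, []), (166, 2, []), (381, 3, [])] [m, j, a0, b0, c0, d0] from ⟨e11, e12, e15, e19, e24, e30, trivial⟩) e37 (C := [3,3,3,3,3,2]) (by decide +kernel)
  obtain ⟨f0, m46, e45⟩ := v8.new (p := 327) (by decide +kernel)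
  obtain ⟨(r47 : f0 ∈ Dc m), (r48 : f0 ∈ Dc j), (r49 : f0 ∈ Dc a0), (r50 : f0 ∈ Dc b0), (r51 : f0 ∈ Dc c0), (r52 : f0 ∈ Dc d0), (r53 : Adj e0 f0), -⟩ := v8.pat F22.sub (show Asg β7 [(474, 6, []), (371, 5, []), (0, 0, []), (969, 1, []), (166, 2, []), (381, 3, []), (38, 7, [])] [m, j, a0, b0, c0, d0, e0] from ⟨e11, e12, e15, e19, e24, e30, e37, trivial⟩) e45 (C := [3,3,3,3,3,3,2]) (by decide +kernel)
  obtain ⟨w0, m55, e54⟩ := v8.new (p := 92) (by decide +kernel)
  obtain ⟨(r56 : w0 ∈ Dc m), (r57 : w0 ∈ Dc j), (r58 : w0 ∈ Dc a0), (r59 : w0 ∈ Dc b0), (r60 : w0 ∈ Dc c0), (r61 : Adj d0 w0), (r62 : Adj e0 w0), (r63 : Adj f0 w0), -⟩ := v8.pat F22.sub (show Asg β7 [(474, 6, []), (371, 5, []), (0, 0, []), (969, 1, []), (166, 2, []), (381, 3, []), (38, 7, []), (327, 8, [])] [m, j, a0, b0, c0, d0, e0, f0] from ⟨e11, e12, e15, e19, e24, e30, e37, e45, trivial⟩) e54 (C := [3,3,3,3,3,2,2,2]) (by decide +kernel)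
  obtain ⟨h', r64, r65, r66, r67, r68⟩ : ∃ h', h' ∈ Dc m ∧ Cm j h' ∧ Adj i h' ∧ Adj d0 h' ∧ h' ∈ Dc a0 := by
    obtain ⟨β69, v70⟩ := HV a0
    obtain ⟨β71, v72, -, o74⟩ := v70.norm F22.sub (show Asg β69 [] [] from trivial) (Dc.symm r17) (show Pat m [] [] from trivial) [[0], [1], [2], [3], [4], [5], [6], [7], [8]] [1,0,2,3,1,4,7,5,8,3,2,6,4,7,3,1,5,4,2,7,8,3,5,1,0,6,7,8,2,4,3,1,5,0,6,2,7,1,3,2] [0] (by decide +kernel)
    rcases o74 with (e75 : β71 0 = m) | ⟨⟨⟩⟩
    obtain ⟨β76, v77, a78, o79⟩ := v72.norm F22.sub (show Asg β71 [(0, 0, [])] [m] from ⟨e75, trivial⟩) (Dc.symm r18) (show Pat j [2] [m] from ⟨r14, trivial⟩) [[2], [3], [4], [5], [6], [7], [8], [9]] [0,1,2,5,3,6,7,1,4,0,2,3,6,5,1,2,0,7,6,1,5,3,4,7,6,3,2,1,7,5,0] [969] (by decide +kernel)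
    obtain ⟨(e80 : β76 0 = m), -⟩ := a78
    rcases o79 with (e81 : β76 969 = j) | ⟨⟨⟩⟩
    obtain ⟨β82, v83, a84, o85⟩ := v77.norm F22.sub (show Asg β76 [(0, 0, []), (969, 1, [])] [m, j] from ⟨e80, e81, trivial⟩) (Dc.symm m16) (show Pat i [3,3] [m, j] from ⟨m4, (Dc.symm m13), trivial⟩) [[3], [4], [5], [6], [7], [8], [9]] [1,4,0,2,5,6,3,2,5,1,4,3,0,6,2,3] [381] (by decide +kernel)
    obtain ⟨(e86 : β82 0 = m), (e87 : β82 969 = j), -⟩ := a84
    rcases o85 with (e88 : β82 381 = i) | ⟨⟨⟩⟩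
    obtain ⟨β89, v90, a91, o92⟩ := v83.norm F22.sub (show Asg β82 [(0, 0, []), (969, 1, []), (381, 3, [])] [m, j, i] from ⟨e86, e87, e88, trivial⟩) r34 (show Pat d0 [3,3,3] [m, j, i] from ⟨r32, r33, m31, trivial⟩) [[5], [6], [8], [9], [7,4,3,4,7]] [1,3,4,2,0,3,4,0,1,2] [371] (by decide +kernel)
    obtain ⟨(e93 : β89 0 = m), (e94 : β89 969 = j), (e95 : β89 381 = i), -⟩ := a91
    rcases o92 with (e96 : β89 371 = d0) | ⟨⟨⟩⟩
    obtain ⟨u, m98, e97⟩ := v90.new (p := 596) (by decide +kernel)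
    obtain ⟨(r99 : u ∈ Dc m), (r100 : u ∈ Dc j), (r101 : Adj i u), (r102 : Adj d0 u), -⟩ := v90.pat F22.sub (show Asg β89 [(0, 0, []), (969, 1, []), (381, 3, []), (371, 5, [])] [m, j, i, d0] from ⟨e93, e94, e95, e96, trivial⟩) e97 (C := [3,3,2,2]) (by decide +kernel)
    exact ⟨u, r99, (Dc.cm r100), r101, r102, m98⟩
  obtain ⟨a, b, c, d, e, f, h, g, β103, v104, a105, r106, r107, r108, r109, r110, r111, r112, r113⟩ : ∃ a b c d e f h g β103, View M22 (full 3510) (Dc m) β103 ∧ Asg β103 [(327, 8, []), (0, 0, []), (969, 1, []), (166, 2, []), (381, 3, []), (596, 4, []), (371, 5, []), (38, 7, []), (474, 6, [])] [i, a, b, c, d, e, f, h, g] ∧ Cm j a ∧ Cm j b ∧ Cm j c ∧ Cm j d ∧ Cm j e ∧ Cm j f ∧ Cm j h ∧ Adj j g := by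
    obtain ⟨β114, v115, a116, o117⟩ := v2.norm F22.sub (show Asg β1 [(327, 8, [])] [i] from ⟨e3, trivial⟩) r17 (show Pat a0 [3] [i] from ⟨m16, trivial⟩) [[1], [2], [3], [4], [5], [6], [7,8,9,8,7]] [0,1,2,3,6,4,5,3,2,6,1,4,3,2,0,6,4,3,1,2,6,5,4,2,3,1,4,2] [0] (by decide +kernel)
    obtain ⟨(e118 : β114 327 = i), -⟩ := a116
    rcases o117 with (e119 : β114 0 = a0) | ⟨⟨⟩⟩
    obtain ⟨β120, v121, a122, o123⟩ := v115.norm F22.sub (show Asg β114 [(327, 8, []), (0, 0, [])] [i, a0] from ⟨e118, e119, trivial⟩) r21 (show Pat b0 [3,2] [i, a0] from ⟨m20, r23, trivial⟩) [[4], [5], [10], [7,8,9,8,7]] [2,3,1,2,0,1,3,2,0,1,3,2,1,0,3,2,1,2,3,0,1,2,3,1,0,2,1,0,3,2] [969] (by decide +kernel)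
    obtain ⟨(e124 : β120 327 = i), (e125 : β120 0 = a0), -⟩ := a122
    rcases o123 with (e126 : β120 969 = b0) | ⟨⟨⟩⟩
    obtain ⟨β127, v128, a129, o130⟩ := v121.norm F22.sub (show Asg β120 [(327, 8, []), (0, 0, []), (969, 1, [])] [i, a0, b0] from ⟨e124, e125, e126, trivial⟩) r26 (show Pat c0 [3,3,2] [i, a0, b0] from ⟨m25, r28, r29, trivial⟩) [[3], [4], [5], [6], [9,8,7,8,9]] [0,1,4,2,3,1,0,4,2,1,0,4,1,2,0,1,4,0,2] [166] (by decide +kernel)
    obtain ⟨(e131 : β127 327 = i), (e132 : β127 0 = a0), (e133 : β127 969 = b0), -⟩ := a129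
    rcases o130 with (e134 : β127 166 = c0) | ⟨⟨⟩⟩
    obtain ⟨β135, v136, a137, o138⟩ := v128.norm F22.sub (show Asg β127 [(327, 8, []), (0, 0, []), (969, 1, []), (166, 2, [])] [i, a0, b0, c0] from ⟨e131, e132, e133, e134, trivial⟩) r32 (show Pat d0 [3,3,3,2] [i, a0, b0, c0] from ⟨m31, r34, r35, r36, trivial⟩) [[4], [5], [6], [9,8,7,8,9]] [0,3,1,2,0,3,1,0,3] [381] (by decide +kernel)
    obtain ⟨(e139 : β135 327 = i), (e140 : β135 0 = a0), (e141 : β135 969 = b0), (e142 : β135 166 = c0), -⟩ := a137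
    rcases o138 with (e143 : β135 381 = d0) | ⟨⟨⟩⟩
    obtain ⟨β144, v145, a146, o147⟩ := v136.norm F22.sub (show Asg β135 [(327, 8, []), (0, 0, []), (969, 1, []), (166, 2, []), (381, 3, [])] [i, a0, b0, c0, d0] from ⟨e139, e140, e141, e142, e143, trivial⟩) r39 (show Pat e0 [3,3,3,3,2] [i, a0, b0, c0, d0] from ⟨m38, r41, r42, r43, r44, trivial⟩) [[5], [6], [7,8,10,9,10,8,7,3,9,8,7,8,9,5,0,4,3,9,8,7,8,9,10,6,5,9,8,7,8,9,5,4,3,5,9,8,7,8,9,6,5,4,3,5,9,8,7,8,9,6,5,4,6]] [0,1,2] [596,22,4] (by decide +kernel)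
    obtain ⟨(e148 : β144 327 = i), (e149 : β144 0 = a0), (e150 : β144 969 = b0), (e151 : β144 166 = c0), (e152 : β144 381 = d0), -⟩ := a146
    rcases o147 with (e153 : β144 596 = e0) | (e154 : β144 22 = e0) | (e155 : β144 4 = e0) | ⟨⟨⟩⟩
    · obtain ⟨β156, v157, a158, o159⟩ := v145.norm F22.sub (show Asg β144 [(327, 8, []), (0, 0, []), (969, 1, []), (166, 2, []), (381, 3, []), (596, 4, [])] [i, a0, b0, c0, d0, e0] from ⟨e148, e149, e150, e151, e152, e153, trivial⟩) r47 (show Pat f0 [3,3,3,3,3,2] [i, a0, b0, c0, d0, e0] from ⟨m46, r49, r50, r51, r52, r53, trivial⟩) [[6]] [0] [371] (by decide +kernel)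
      obtain ⟨(e160 : β156 327 = i), (e161 : β156 0 = a0), (e162 : β156 969 = b0), (e163 : β156 166 = c0), (e164 : β156 381 = d0), (e165 : β156 596 = e0), -⟩ := a158
      rcases o159 with (e166 : β156 371 = f0) | ⟨⟨⟩⟩
      obtain ⟨β167, v168, a169, o170⟩ := v157.norm F22.sub (show Asg β156 [(327, 8, []), (0, 0, []), (969, 1, []), (166, 2, []), (381, 3, []), (596, 4, []), (371, 5, [])] [i, a0, b0, c0, d0, e0, f0] from ⟨e160, e161, e162, e163, e164, e165, e166, trivial⟩) r56 (show Pat w0 [3,3,3,3,2,2,2] [i, a0, b0, c0, d0, e0, f0] from ⟨m55, r58, r59, r60, r61, r62, r63, trivial⟩) [[7,8,10,9,10,8,7,3,9,8,7,8,9,5,0,4,3,9,8,7,8,9,10,6,5,9,8,7,8,9,5,4,3,5,9,8,7,8,9,6,5,4,3,5,9,8,7,8,9,6,5,4,6]] [0] [154,104] (by decide +kernel)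
      obtain ⟨(e171 : β167 327 = i), (e172 : β167 0 = a0), (e173 : β167 969 = b0), (e174 : β167 166 = c0), (e175 : β167 381 = d0), (e176 : β167 596 = e0), (e177 : β167 371 = f0), -⟩ := a169
      rcases o170 with (e178 : β167 154 = w0) | (e179 : β167 104 = w0) | ⟨⟨⟩⟩
      · have o180 := v168.orbIn F22.sub (sub_Pp j) (show Asg β167 [(0, 0, []), (969, 1, []), (166, 2, []), (381, 3, []), (596, 4, []), (371, 5, []), (154, 7, [8,9,5]), (327, 8, [])] [a0, b0, c0, d0, e0, f0, w0, i] from ⟨e172, e173, e174, e175, e176, e177, e178, e171, trivial⟩) (show AllP (· ∈ Pp j) [a0, b0, c0, d0, e0, f0, w0, i] from ⟨(Dc.cm r18), (Dc.cm r22), (Dc.cm r27), (Dc.cm r33), (Dc.cm r40), (Dc.cm r48), (Dc.cm r57), (Dc.cm (Dc.symm m13)), trivial⟩) (show Asg β167 [(327, 8, []), (381, 3, []), (0, 0, [])] [i, d0, a0] from ⟨e171, e175, e172, trivial⟩) r64 r65 (show Pat h' [2,2,3] [i, d0, a0] from ⟨r66, r67, r68, trivial⟩) [3,7,6,4,5,2,3,1,6,4,0,3,2,5,1,3,6,4,5,0,6,2] [38,80]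 (by decide +kernel)
        rcases o180 with (z181 : Cm j (β167 38)) | (z182 : Cm j (β167 80)) | ⟨⟨⟩⟩
        · obtain ⟨u, m184, e183⟩ := v168.new (p := 38) (by decide +kernel)
          obtain ⟨g1, m186, e185⟩ := v168.new (p := 474) (by decide +kernel)
          obtain ⟨(r187 : g1 ∈ Dc i), -⟩ := v168.pat F22.sub (show Asg β167 [(327, 8, [])] [i] from ⟨e171, trivial⟩) e185 (C := [3]) (by decide +kernel)
          have r188 : Adj j g1 := fun hc =>
            (v168.not_mem_cls F22.sub (show Asg β167 [(0, 0, []), (969, 1, []), (166, 2, []), (381, 3, []), (596, 4, []), (371, 5, []), (154, 7, [8,9,5])] [a0, b0, c0, d0, e0, f0, w0] from ⟨e172, e173, e174, e175, e176, e177, e178, trivial⟩) e185 (nat_lit 0x200002000000000004000800000000000040001001014000080000000000001000000002080001100000200100010800000020080000008100002000000000000c0000000100000000008000000000000000000100000000000000400000000000000000000000000000000000000200020000080100000000000002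020000000008000000000000000000000000000000200000000000000000000000000010100000000000000000000000000000000004000000002000000001040008000000000000800200000000200800000000000000000000100001100000000000000000400000000040a002000000400000000000000100000800000001004000000000000000000000000000000000000000500000000000000000000000004000000000000000000000000000800020000000000008000002000000000004000000240000000008020000104000200000204020000000000000000200000100400044000000001000002000400080000201010000000000000100000000100018092008000000008004000000a021100001000040400000010000000140440000000004810000000c020000000042402001) (by decide +kernel)) (v8.mem_cls F22.sub (show Asg β7 [(0, 0, []), (969, 1, []), (166, 2, []), (381, 3, []), (38, 7, []), (327, 8, []), (92, 4, [5,6,9,5,8,7,9])] [a0, b0, c0, d0, e0, f0, w0] from ⟨e15, e19, e24, e30, e37, e45, e54, trivial⟩) (show Asg β7 [(474, 6, []), (371, 5, [])] [m, j] from ⟨e11, e12, trivial⟩) r187 (show Pat g1 [3,1]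 [m, j] from ⟨m186, hc, trivial⟩) [3,4,5,6,1,5,0,3,4,2,1,3,0,2] (by decide +kernel))
          exact ⟨a0, b0, c0, d0, e0, f0, u, g1, _, v168, (show Asg β167 [(327, 8, []), (0, 0, []), (969, 1, []), (166, 2, []), (381, 3, []), (596, 4, []), (371, 5, []), (38, 7, []), (474, 6, [])] [i, a0, b0, c0, d0, e0, f0, u, g1] from ⟨e171, e172, e173, e174, e175, e176, e177, e183, e185, trivial⟩), (Dc.cm r18), (Dc.cm r22), (Dc.cm r27), (Dc.cm r33), (Dc.cm r40), (Dc.cm r48), (e183 ▸ z181 : Cm j u), r188⟩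
        · obtain ⟨u, m190, e189⟩ := v168.new (p := 80) (by decide +kernel)
          obtain ⟨w1, m192, e191⟩ := v168.new (p := 474) (by decide +kernel)
          obtain ⟨(r193 : w1 ∈ Dc i), -⟩ := v168.pat F22.sub (show Asg β167 [(327, 8, [])] [i] from ⟨e171, trivial⟩) e191 (C := [3]) (by decide +kernel)
          have r194 : Cm j w1 := v168.ev_mem F22.sub (show Asg β167 [(0, 0, []), (969, 1, []), (166, 2, []), (381, 3, []), (596, 4, []), (371, 5, []), (154, 7, [8,9,5]), (327, 8, []), (80, 4, [5,6,9])] [a0, b0, c0, d0, e0, f0, w0, i, u] from ⟨e172, e173, e174, e175, e176, e177, e178, e171, e189, trivial⟩) e175 e191 [8,5,7,8,6,4,3,6] (Z := Pp j) (sub_Pp _) (show AllP (· ∈ Pp j) [a0, b0, c0, d0, e0, f0, w0, i, u] from ⟨(Dc.cm r18), (Dc.cm r22), (Dc.cm r27), (Dc.cm r33), (Dc.cm r40), (Dc.cm r48), (Dc.cm r57), (Dc.cm (Dc.symm m13)), (e189 ▸ z182 : Cm j u), trivial⟩) (Dc.cm r33) (by decide +kernel)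
          exact False.elim ((v168.not_mem_cls F22.sub (show Asg β167 [(0, 0, []), (969, 1, []), (166, 2, []), (381, 3, []), (596, 4, []), (371, 5, []), (154, 7, [8,9,5])] [a0, b0, c0, d0, e0, f0, w0] from ⟨e172, e173, e174, e175, e176, e177, e178, trivial⟩) e191 (nat_lit 0x200002000000000004000800000000000040001001014000080000000000001000000002080001100000200100010800000020080000008100002000000000000c0000000100000000008000000000000000000100000000000000400000000000000000000000000000000000000200020000080100000000000002020000000008000000000000000000000000000000200000000000000000000000000010100000000000000000000000000000000004000000002000000001040008000000000000800200000000200800000000000000000000100001100000000000000000400000000040a002000000400000000000000100000800000001004000000000000000000000000000000000000000500000000000000000000000004000000000000000000000000000800020000000000008000002000000000004000000240000000008020000104000200000204020000000000000000200000100400044000000001000002000400080000201010000000000000100000000100018092008000000008004000000a021100001000040400000010000000140440000000004810000000c020000000042402001)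 (by decide +kernel)) (v8.mem_cls F22.sub (show Asg β7 [(0, 0, []), (969, 1, []), (166, 2, []), (381, 3, []), (38, 7, []), (327, 8, []), (92, 4, [5,6,9,5,8,7,9])] [a0, b0, c0, d0, e0, f0, w0] from ⟨e15, e19, e24, e30, e37, e45, e54, trivial⟩) (show Asg β7 [(474, 6, []), (371, 5, [])] [m, j] from ⟨e11, e12, trivial⟩) r193 (show Pat w1 [3,1] [m, j] from ⟨m192, r194, trivial⟩) [3,4,5,6,1,5,0,3,4,2,1,3,0,2] (by decide +kernel)))
      · exact False.elim ((v8.ne (v8.evw F22.sub (show Asg β7 [(0, 0, []), (969, 1, []), (166, 2, []), (381, 3, []), (38, 7, []), (327, 8, []), (92, 4, [5,6,9,5,8,7,9])] [a0, b0, c0, d0, e0, f0, w0] from ⟨e15, e19, e24, e30, e37, e45, e54, trivial⟩) e37 [5] 552 (by decide +kernel)) e54 (by decide +kernel)) (v168.ev_eq F22.sub (show Asg β167 [(0, 0, []), (969, 1, []), (166, 2, []), (381, 3, []), (596, 4, []), (371, 5, []), (104, 4, [5])] [a0, b0, c0, d0, e0, f0, w0] from ⟨e172, e173, e174, e175, e176, e177, e179, trivial⟩) e176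 e179 [5] (by decide +kernel)))
    · obtain ⟨β195, v196, a197, o198⟩ := v145.norm F22.sub (show Asg β144 [(327, 8, []), (0, 0, []), (969, 1, []), (166, 2, []), (381, 3, []), (22, 7, [8,9])] [i, a0, b0, c0, d0, e0] from ⟨e148, e149, e150, e151, e152, e154, trivial⟩) r47 (show Pat f0 [3,3,3,3,3,2] [i, a0, b0, c0, d0, e0] from ⟨m46, r49, r50, r51, r52, r53, trivial⟩) [[6]] [0] [371] (by decide +kernel)
      obtain ⟨(e199 : β195 327 = i), (e200 : β195 0 = a0), (e201 : β195 969 = b0), (e202 : β195 166 = c0), (e203 : β195 381 = d0), (e204 : β195 22 = e0), -⟩ := a197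
      rcases o198 with (e205 : β195 371 = f0) | ⟨⟨⟩⟩
      obtain ⟨β206, v207, a208, o209⟩ := v196.norm F22.sub (show Asg β195 [(327, 8, []), (0, 0, []), (969, 1, []), (166, 2, []), (381, 3, []), (22, 7, [8,9]), (371, 5, [])] [i, a0, b0, c0, d0, e0, f0] from ⟨e199, e200, e201, e202, e203, e204, e205, trivial⟩) r56 (show Pat w0 [3,3,3,3,2,2,2] [i, a0, b0, c0, d0, e0, f0] from ⟨m55, r58, r59, r60, r61, r62, r63, trivial⟩) [] [] [104,154,372] (by decide +kernel)
      obtain ⟨(e210 : β206 327 = i), (e211 : β206 0 = a0), (e212 : β206 969 = b0), (e213 : β206 166 = c0), (e214 : β206 381 = d0), (e215 : β206 22 = e0), (e216 : β206 371 = f0), -⟩ := a208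
      rcases o209 with (e217 : β206 104 = w0) | (e218 : β206 154 = w0) | (e219 : β206 372 = w0) | ⟨⟨⟩⟩
      · have o220 := v207.orbIn F22.sub (sub_Pp j) (show Asg β206 [(0, 0, []), (969, 1, []), (166, 2, []), (381, 3, []), (22, 7, [8,9]), (371, 5, []), (104, 4, [5]), (327, 8, [])] [a0, b0, c0, d0, e0, f0, w0, i] from ⟨e211, e212, e213, e214, e215, e216, e217, e210, trivial⟩) (show AllP (· ∈ Pp j) [a0, b0, c0, d0, e0, f0, w0, i] from ⟨(Dc.cm r18), (Dc.cm r22), (Dc.cm r27), (Dc.cm r33), (Dc.cm r40), (Dc.cm r48), (Dc.cm r57), (Dc.cm (Dc.symm m13)), trivial⟩) (show Asg β206 [(327, 8, []), (381, 3, []), (0, 0, [])] [i, d0, a0] from ⟨e210, e214, e211, trivial⟩) r64 r65 (show Pat h' [2,2,3] [i, d0, a0] from ⟨r66, r67, r68, trivial⟩) [3,7,2,6,4,5,1,3,6,4,2,0,3,5,6,4,2,1,0,5,2,3] [38,80] (by decide +kernel)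
        rcases o220 with (z221 : Cm j (β206 38)) | (z222 : Cm j (β206 80)) | ⟨⟨⟩⟩
        · obtain ⟨u, m224, e223⟩ := v207.new (p := 38) (by decide +kernel)
          obtain ⟨e1, m226, e225⟩ := v207.new (p := 596) (by decide +kernel)
          have r227 : Cm j e1 := v207.ev_mem F22.sub (show Asg β206 [(0, 0, []), (969, 1, []), (166, 2, []), (381, 3, []), (22, 7, [8,9]), (371, 5, []), (104, 4, [5]), (327, 8, []), (38, 7, [])] [a0, b0, c0, d0, e0, f0, w0, i, u] from ⟨e211, e212, e213, e214, e215, e216, e217, e210, e223, trivial⟩) e216 e225 [6] (Z := Pp j) (sub_Pp _) (show AllP (· ∈ Pp j) [a0, b0, c0, d0, e0, f0, w0, i, u] from ⟨(Dc.cm r18), (Dc.cm r22), (Dc.cm r27), (Dc.cm r33), (Dc.cm r40), (Dc.cm r48), (Dc.cm r57), (Dc.cm (Dc.symm m13)), (e223 ▸ z221 : Cm j u), trivial⟩) (Dc.cm r48) (by decide +kernel)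
          obtain ⟨g1, m229, e228⟩ := v207.new (p := 474) (by decide +kernel)
          obtain ⟨(r230 : g1 ∈ Dc i), -⟩ := v207.pat F22.sub (show Asg β206 [(327, 8, [])] [i] from ⟨e210, trivial⟩) e228 (C := [3]) (by decide +kernel)
          have r231 : Adj j g1 := fun hc =>
            (v207.not_mem_cls F22.sub (show Asg β206 [(0, 0, []), (969, 1, []), (166, 2, []), (381, 3, []), (22, 7, [8,9]), (371, 5, []), (104, 4, [5])] [a0, b0, c0, d0, e0, f0, w0] from ⟨e211, e212, e213, e214, e215, e216, e217, trivial⟩) e228 (nat_lit 0x200002000000000004000800000000000040001001014000080000000000001000000002080001100000200100010800000020080000008100002000000000000c0000000100000000008000000000000000000100000000000000400000000000000000000000000000000000000200020000080100000000000002020000000008000000000000000000000000000000200000000000000000000000000010100000000000000000000000000000000004000000002000000001040008000000000000800200000000200800000000000000000000100001100000000000000000400000000040a002000000400000000000000100000800000001004000000000000000000000000000000000000000500000000000000000000000004000000000000000000000000000800020000000000008000002000000000004000000240000000008020000104000200000204020000000000000000200000100400044000000001000002000400080000201010000000000000100000000100018092008000000008004000000a021100001000040400000010000000140440000000004810000000c020000000042402001)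 (by decide +kernel)) (v8.mem_cls F22.sub (show Asg β7 [(0, 0, []), (969, 1, []), (166, 2, []), (381, 3, []), (38, 7, []), (327, 8, []), (92, 4, [5,6,9,5,8,7,9])] [a0, b0, c0, d0, e0, f0, w0] from ⟨e15, e19, e24, e30, e37, e45, e54, trivial⟩) (show Asg β7 [(474, 6, []), (371, 5, [])] [m, j] from ⟨e11, e12, trivial⟩) r230 (show Pat g1 [3,1] [m, j] from ⟨m229, hc, trivial⟩) [3,4,5,6,1,5,0,3,4,2,1,3,0,2] (by decide +kernel))
          exact ⟨a0, b0, c0, d0, e1, f0, u, g1, _, v207, (show Asg β206 [(327, 8, []), (0, 0, []), (969, 1, []), (166, 2, []), (381, 3, []), (596, 4, []), (371, 5, []), (38, 7, []), (474, 6, [])] [i, a0, b0, c0, d0, e1, f0, u, g1] from ⟨e210, e211, e212, e213, e214, e225, e216, e223, e228, trivial⟩), (Dc.cm r18), (Dc.cm r22), (Dc.cm r27), (Dc.cm r33), r227, (Dc.cm r48), (e223 ▸ z221 : Cm j u), r231⟩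
        · obtain ⟨u, m233, e232⟩ := v207.new (p := 80) (by decide +kernel)
          obtain ⟨w1, m235, e234⟩ := v207.new (p := 474) (by decide +kernel)
          obtain ⟨(r236 : w1 ∈ Dc i), -⟩ := v207.pat F22.sub (show Asg β206 [(327, 8, [])] [i] from ⟨e210, trivial⟩) e234 (C := [3]) (by decide +kernel)
          have r237 : Cm j w1 := v207.ev_mem F22.sub (show Asg β206 [(0, 0, []), (969, 1, []), (166, 2, []), (381, 3, []), (22, 7, [8,9]), (371, 5, []), (104, 4, [5]), (327, 8, []), (80, 4, [5,6,9])] [a0, b0, c0, d0, e0, f0, w0, i, u] from ⟨e211, e212, e213, e214, e215, e216, e217, e210, e232, trivial⟩) e214 e234 [8,5,4,6,7,8,3,4,5] (Z := Pp j) (sub_Pp _) (show AllP (· ∈ Pp j) [a0, b0, c0, d0, e0, f0, w0, i, u] from ⟨(Dc.cm r18), (Dc.cm r22), (Dc.cm r27), (Dc.cm r33), (Dc.cm r40), (Dc.cm r48), (Dc.cm r57), (Dc.cm (Dc.symm m13)), (e232 ▸ z222 : Cm j u), trivial⟩) (Dc.cm r33) (by decide +kernel)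
          exact False.elim ((v207.not_mem_cls F22.sub (show Asg β206 [(0, 0, []), (969, 1, []), (166, 2, []), (381, 3, []), (22, 7, [8,9]), (371, 5, []), (104, 4, [5])] [a0, b0, c0, d0, e0, f0, w0] from ⟨e211, e212, e213, e214, e215, e216, e217, trivial⟩) e234 (nat_lit 0x200002000000000004000800000000000040001001014000080000000000001000000002080001100000200100010800000020080000008100002000000000000c0000000100000000008000000000000000000100000000000000400000000000000000000000000000000000000200020000080100000000000002020000000008000000000000000000000000000000200000000000000000000000000010100000000000000000000000000000000004000000002000000001040008000000000000800200000000200800000000000000000000100001100000000000000000400000000040a002000000400000000000000100000800000001004000000000000000000000000000000000000000500000000000000000000000004000000000000000000000000000800020000000000008000002000000000004000000240000000008020000104000200000204020000000000000000200000100400044000000001000002000400080000201010000000000000100000000100018092008000000008004000000a021100001000040400000010000000140440000000004810000000c020000000042402001)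 (by decide +kernel)) (v8.mem_cls F22.sub (show Asg β7 [(0, 0, []), (969, 1, []), (166, 2, []), (381, 3, []), (38, 7, []), (327, 8, []), (92, 4, [5,6,9,5,8,7,9])] [a0, b0, c0, d0, e0, f0, w0] from ⟨e15, e19, e24, e30, e37, e45, e54, trivial⟩) (show Asg β7 [(474, 6, []), (371, 5, [])] [m, j] from ⟨e11, e12, trivial⟩) r236 (show Pat w1 [3,1] [m, j] from ⟨m235, r237, trivial⟩) [3,4,5,6,1,5,0,3,4,2,1,3,0,2] (by decide +kernel)))
      · exact False.elim ((v8.ne (v8.evw F22.sub (show Asg β7 [(0, 0, []), (969, 1, []), (166, 2, []), (381, 3, []), (38, 7, []), (327, 8, []), (92, 4, [5,6,9,5,8,7,9])] [a0, b0, c0, d0, e0, f0, w0] from ⟨e15, e19, e24, e30, e37, e45, e54, trivial⟩) e37 [5] 552 (by decide +kernel)) e54 (by decide +kernel)) (v207.ev_eq F22.sub (show Asg β206 [(0, 0, []), (969, 1, []), (166, 2, []), (381, 3, []), (22, 7, [8,9]), (371, 5, []), (154, 7, [8,9,5])] [a0, b0, c0, d0, e0, f0, w0] from ⟨e211, e212, e213, e214, e215, e216, e218, trivial⟩)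 e215 e218 [5] (by decide +kernel)))
      · have o238 := v207.orbIn F22.sub (sub_Pp j) (show Asg β206 [(0, 0, []), (969, 1, []), (166, 2, []), (381, 3, []), (22, 7, [8,9]), (371, 5, []), (372, 4, [5,6,9,8,7]), (327, 8, [])] [a0, b0, c0, d0, e0, f0, w0, i] from ⟨e211, e212, e213, e214, e215, e216, e219, e210, trivial⟩) (show AllP (· ∈ Pp j) [a0, b0, c0, d0, e0, f0, w0, i] from ⟨(Dc.cm r18), (Dc.cm r22), (Dc.cm r27), (Dc.cm r33), (Dc.cm r40), (Dc.cm r48), (Dc.cm r57), (Dc.cm (Dc.symm m13)), trivial⟩) (show Asg β206 [(327, 8, []), (381, 3, []), (0, 0, [])] [i, d0, a0] from ⟨e210, e214, e211, trivial⟩) r64 r65 (show Pat h' [2,2,3] [i, d0, a0] from ⟨r66, r67, r68, trivial⟩) [3,7,6,5,4,1,2,3,6,5,2,4,1,0,3,6,2,4,1,3,5,4,6,3] [38,679] (by decide +kernel)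
        rcases o238 with (z239 : Cm j (β206 38)) | (z240 : Cm j (β206 679)) | ⟨⟨⟩⟩
        · obtain ⟨u, m242, e241⟩ := v207.new (p := 38) (by decide +kernel)
          obtain ⟨w1, m244, e243⟩ := v207.new (p := 474) (by decide +kernel)
          obtain ⟨(r245 : w1 ∈ Dc i), -⟩ := v207.pat F22.sub (show Asg β206 [(327, 8, [])] [i] from ⟨e210, trivial⟩) e243 (C := [3]) (by decide +kernel)
          have r246 : Cm j w1 := v207.ev_mem F22.sub (show Asg β206 [(0, 0, []), (969, 1, []), (166, 2, []), (381, 3, []), (22, 7, [8,9]), (371, 5, []), (372, 4, [5,6,9,8,7]), (327, 8, []), (38, 7, [])] [a0, b0, c0, d0, e0, f0, w0, i, u] from ⟨e211, e212, e213, e214, e215, e216, e219, e210, e241, trivial⟩) e214 e243 [4,6,5,8,6,3,7,8,6] (Z := Pp j) (sub_Pp _) (show AllP (· ∈ Pp j) [a0, b0, c0, d0, e0, f0, w0, i, u] from ⟨(Dc.cm r18), (Dc.cm r22), (Dc.cm r27), (Dc.cm r33), (Dc.cm r40), (Dc.cm r48), (Dc.cm r57), (Dc.cm (Dc.symm m13)), (e241 ▸ z239 : Cm j u), trivial⟩)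 (Dc.cm r33) (by decide +kernel)
          exact False.elim ((v207.not_mem_cls F22.sub (show Asg β206 [(0, 0, []), (969, 1, []), (166, 2, []), (381, 3, []), (22, 7, [8,9]), (371, 5, []), (372, 4, [5,6,9,8,7])] [a0, b0, c0, d0, e0, f0, w0] from ⟨e211, e212, e213, e214, e215, e216, e219, trivial⟩) e243 (nat_lit 0x200000002000002000000800000000000100010000000002000080040000000000100000000000000000000000000000000000000000000800000000000000000000000000a0400000800000000000000000000000000000000000000000000000040020000000000000080000000000100002000000000040000000000000000081000000010000004000000000000840000000000000000008000004000800800800000000000000000000000000000000000000000840000000000800000000000200002000000000008028040000000040000000040000000000400000000000004000000000400000000000080000000002001002010000200000000000000004000080002000002080000008008400000000000800100000000000400000000004000001000090000000000020000000010000000000008001002000000000000000000040080000008002000100040000000000000900000000000000000000050000040b00100008004100000000008000000000100000800000100800000000812046018123000004000a0000080000000000142000000000104000400500c00000800200000000040000000000000400001)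 (by decide +kernel)) (v8.mem_cls F22.sub (show Asg β7 [(0, 0, []), (969, 1, []), (166, 2, []), (381, 3, []), (38, 7, []), (327, 8, []), (92, 4, [5,6,9,5,8,7,9])] [a0, b0, c0, d0, e0, f0, w0] from ⟨e15, e19, e24, e30, e37, e45, e54, trivial⟩) (show Asg β7 [(474, 6, []), (371, 5, [])] [m, j] from ⟨e11, e12, trivial⟩) r245 (show Pat w1 [3,1] [m, j] from ⟨m244, r246, trivial⟩) [3,4,5,6,1,5,0,3,4,2,1,3,0,2] (by decide +kernel)))
        · obtain ⟨u, m248, e247⟩ := v207.new (p := 679) (by decide +kernel)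
          obtain ⟨w1, m250, e249⟩ := v207.new (p := 596) (by decide +kernel)
          obtain ⟨(r251 : w1 ∈ Dc i), -⟩ := v207.pat F22.sub (show Asg β206 [(327, 8, [])] [i] from ⟨e210, trivial⟩) e249 (C := [3]) (by decide +kernel)
          have r252 : Cm j w1 := v207.ev_mem F22.sub (show Asg β206 [(0, 0, []), (969, 1, []), (166, 2, []), (381, 3, []), (22, 7, [8,9]), (371, 5, []), (372, 4, [5,6,9,8,7]), (327, 8, []), (679, 2, [3,4,7])] [a0, b0, c0, d0, e0, f0, w0, i, u] from ⟨e211, e212, e213, e214, e215, e216, e219, e210, e247, trivial⟩) e215 e249 [5,8,3,2,7,8,5,4,3] (Z := Pp j) (sub_Pp _) (show AllP (· ∈ Pp j) [a0, b0, c0, d0, e0, f0, w0, i, u] from ⟨(Dc.cm r18), (Dc.cm r22), (Dc.cm r27), (Dc.cm r33), (Dc.cm r40), (Dc.cm r48), (Dc.cm r57), (Dc.cm (Dc.symm m13)), (e247 ▸ z240 : Cm j u), trivial⟩) (Dc.cm r40) (by decide +kernel)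
          exact False.elim ((v207.not_mem_cls F22.sub (show Asg β206 [(0, 0, []), (969, 1, []), (166, 2, []), (381, 3, []), (22, 7, [8,9]), (371, 5, []), (372, 4, [5,6,9,8,7])] [a0, b0, c0, d0, e0, f0, w0] from ⟨e211, e212, e213, e214, e215, e216, e219, trivial⟩) e249 (nat_lit 0x200000002000002000000800000000000100010000000002000080040000000000100000000000000000000000000000000000000000000800000000000000000000000000a0400000800000000000000000000000000000000000000000000000040020000000000000080000000000100002000000000040000000000000000081000000010000004000000000000840000000000000000008000004000800800800000000000000000000000000000000000000000840000000000800000000000200002000000000008028040000000040000000040000000000400000000000004000000000400000000000080000000002001002010000200000000000000004000080002000002080000008008400000000000800100000000000400000000004000001000090000000000020000000010000000000008001002000000000000000000040080000008002000100040000000000000900000000000000000000050000040b00100008004100000000008000000000100000800000100800000000812046018123000004000a0000080000000000142000000000104000400500c00000800200000000040000000000000400001)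 (by decide +kernel)) (v8.mem_cls F22.sub (show Asg β7 [(0, 0, []), (969, 1, []), (166, 2, []), (381, 3, []), (38, 7, []), (327, 8, []), (92, 4, [5,6,9,5,8,7,9])] [a0, b0, c0, d0, e0, f0, w0] from ⟨e15, e19, e24, e30, e37, e45, e54, trivial⟩) (show Asg β7 [(474, 6, []), (371, 5, [])] [m, j] from ⟨e11, e12, trivial⟩) r251 (show Pat w1 [3,1] [m, j] from ⟨m250, r252, trivial⟩) [3,4,5,6,1,5,0,3,4,2,1,3,0,2] (by decide +kernel)))
    · obtain ⟨β253, v254, -, o256⟩ := v145.norm F22.sub (show Asg β144 [(327, 8, []), (0, 0, []), (969, 1, []), (166, 2, []), (381, 3, []), (4, 4, [5,6,9,5,8,9])] [i, a0, b0, c0, d0, e0] from ⟨e148, e149, e150, e151, e152, e155, trivial⟩) r47 (show Pat f0 [3,3,3,3,3,2] [i, a0, b0, c0, d0, e0] from ⟨m46, r49, r50, r51, r52, r53, trivial⟩) [] [] [] (by decide +kernel)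
      exact False.elim o256
  obtain ⟨(e257 : β103 327 = i), (e258 : β103 0 = a), (e259 : β103 969 = b), (e260 : β103 166 = c), (e261 : β103 381 = d), (e262 : β103 596 = e), (e263 : β103 371 = f), (e264 : β103 38 = h), (e265 : β103 474 = g), -⟩ := a105
  have m266 : a ∈ Dc m := e258 ▸ v104.mem _ (by decide +kernel)
  obtain ⟨(r267 : a ∈ Dc i), -⟩ := v104.pat F22.sub (show Asg β103 [(327, 8, [])] [i] from ⟨e257, trivial⟩) e258 (C := [3]) (by decide +kernel)
  have m268 : b ∈ Dc m := e259 ▸ v104.mem _ (by decide +kernel)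
  obtain ⟨(r269 : b ∈ Dc i), (r270 : Adj a b), -⟩ := v104.pat F22.sub (show Asg β103 [(327, 8, []), (0, 0, [])] [i, a] from ⟨e257, e258, trivial⟩) e259 (C := [3,2]) (by decide +kernel)
  have m271 : c ∈ Dc m := e260 ▸ v104.mem _ (by decide +kernel)
  obtain ⟨(r272 : c ∈ Dc i), (r273 : c ∈ Dc a), (r274 : Adj b c), -⟩ := v104.pat F22.sub (show Asg β103 [(327, 8, []), (0, 0, []), (969, 1, [])] [i, a, b] from ⟨e257, e258, e259, trivial⟩) e260 (C := [3,3,2]) (by decide +kernel)
  have m275 : d ∈ Dc m := e261 ▸ v104.mem _ (by decide +kernel)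
  obtain ⟨(r276 : d ∈ Dc i), (r277 : d ∈ Dc a), (r278 : d ∈ Dc b), (r279 : Adj c d), -⟩ := v104.pat F22.sub (show Asg β103 [(327, 8, []), (0, 0, []), (969, 1, []), (166, 2, [])] [i, a, b, c] from ⟨e257, e258, e259, e260, trivial⟩) e261 (C := [3,3,3,2]) (by decide +kernel)
  have m280 : e ∈ Dc m := e262 ▸ v104.mem _ (by decide +kernel)
  obtain ⟨(r281 : e ∈ Dc i), (r282 : e ∈ Dc a), (r283 : e ∈ Dc b), (r284 : e ∈ Dc c), (r285 : Adj d e), -⟩ := v104.pat F22.sub (show Asg β103 [(327, 8, []), (0, 0, []), (969, 1, []), (166, 2, []), (381, 3, [])] [i, a, b, c, d] from ⟨e257, e258, e259, e260, e261, trivial⟩) e262 (C := [3,3,3,3,2]) (by decide +kernel)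
  have m286 : f ∈ Dc m := e263 ▸ v104.mem _ (by decide +kernel)
  obtain ⟨(r287 : f ∈ Dc i), (r288 : f ∈ Dc a), (r289 : f ∈ Dc b), (r290 : f ∈ Dc c), (r291 : f ∈ Dc d), (r292 : Adj e f), -⟩ := v104.pat F22.sub (show Asg β103 [(327, 8, []), (0, 0, []), (969, 1, []), (166, 2, []), (381, 3, []), (596, 4, [])] [i, a, b, c, d, e] from ⟨e257, e258, e259, e260, e261, e262, trivial⟩) e263 (C := [3,3,3,3,3,2]) (by decide +kernel)
  have m293 : h ∈ Dc m := e264 ▸ v104.mem _ (by decide +kernel)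
  obtain ⟨(r294 : Adj i h), (r295 : h ∈ Dc a), (r296 : h ∈ Dc b), (r297 : h ∈ Dc c), (r298 : Adj d h), (r299 : h ∈ Dc e), (r300 : h ∈ Dc f), -⟩ := v104.pat F22.sub (show Asg β103 [(327, 8, []), (0, 0, []), (969, 1, []), (166, 2, []), (381, 3, []), (596, 4, []), (371, 5, [])] [i, a, b, c, d, e, f] from ⟨e257, e258, e259, e260, e261, e262, e263, trivial⟩) e264 (C := [2,3,3,3,2,3,3]) (by decide +kernel)
  have m301 : g ∈ Dc m := e265 ▸ v104.mem _ (by decide +kernel)
  obtain ⟨(r302 : g ∈ Dc i), (r303 : g ∈ Dc a), (r304 : g ∈ Dc b), (r305 : g ∈ Dc c), (r306 : g ∈ Dc d), (r307 : g ∈ Dc e), (r308 : Adj f g), (r309 : g ∈ Dc h), -⟩ := v104.pat F22.sub (show Asg β103 [(327, 8, []), (0, 0, []), (969, 1, []), (166, 2, []), (381, 3, []), (596, 4, []), (371, 5, []), (38, 7, [])] [i, a, b, c, d, e, f, h] from ⟨e257, e258, e259, e260, e261, e262, e263, e264, trivial⟩) e265 (C := [3,3,3,3,3,3,2,3]) (by decide +kernel)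
  have hc : CoxL [a, b, c, d, e, f, g, h, i, j] [a, b, c, d, e, f, g, h, i, j] Cs := ⟨⟨trivial, (Adj.symm r270), (Dc.cm (Dc.symm r273)), (Dc.cm (Dc.symm r277)), (Dc.cm (Dc.symm r282)), (Dc.cm (Dc.symm r288)), (Dc.cm (Dc.symm r303)), (Dc.cm (Dc.symm r295)), (Dc.cm r267), r106, trivial⟩,
      ⟨r270, trivial, (Adj.symm r274), (Dc.cm (Dc.symm r278)), (Dc.cm (Dc.symm r283)), (Dc.cm (Dc.symm r289)), (Dc.cm (Dc.symm r304)), (Dc.cm (Dc.symm r296)), (Dc.cm r269), r107, trivial⟩,
      ⟨(Dc.cm r273), r274, trivial, (Adj.symm r279), (Dc.cm (Dc.symm r284)), (Dc.cm (Dc.symm r290)), (Dc.cm (Dc.symm r305)), (Dc.cm (Dc.symm r297)), (Dc.cm r272), r108, trivial⟩,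
      ⟨(Dc.cm r277), (Dc.cm r278), r279, trivial, (Adj.symm r285), (Dc.cm (Dc.symm r291)), (Dc.cm (Dc.symm r306)), (Adj.symm r298), (Dc.cm r276), r109, trivial⟩,
      ⟨(Dc.cm r282), (Dc.cm r283), (Dc.cm r284), r285, trivial, (Adj.symm r292), (Dc.cm (Dc.symm r307)), (Dc.cm (Dc.symm r299)), (Dc.cm r281), r110, trivial⟩,
      ⟨(Dc.cm r288), (Dc.cm r289), (Dc.cm r290), (Dc.cm r291), r292, trivial, (Adj.symm r308), (Dc.cm (Dc.symm r300)), (Dc.cm r287), r111, trivial⟩,
      ⟨(Dc.cm r303), (Dc.cm r304), (Dc.cm r305), (Dc.cm r306), (Dc.cm r307), r308, trivial, (Dc.cm r309), (Dc.cm r302), r113, trivial⟩,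
      ⟨(Dc.cm r295), (Dc.cm r296), (Dc.cm r297), r298, (Dc.cm r299), (Dc.cm r300), (Dc.cm (Dc.symm r309)), trivial, r294, r112, trivial⟩,
      ⟨(Dc.cm (Dc.symm r267)), (Dc.cm (Dc.symm r269)), (Dc.cm (Dc.symm r272)), (Dc.cm (Dc.symm r276)), (Dc.cm (Dc.symm r281)), (Dc.cm (Dc.symm r287)), (Dc.cm (Dc.symm r302)), (Adj.symm r294), trivial, (Dc.cm (Dc.symm m13)), trivial⟩,
      ⟨(Cm.symm r106), (Cm.symm r107), (Cm.symm r108), (Cm.symm r109), (Cm.symm r110), (Cm.symm r111), (Adj.symm r113), (Cm.symm r112), (Dc.cm m13), trivial, trivial⟩, trivial⟩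
  have s1 : SubL [a, b, c, d, e, f, g, h, i, j] [a, b, c, d, e, f, h] [[0], [1], [2], [3], [4], [5], [7]] := ⟨(one_mul _).symm, (one_mul _).symm, (one_mul _).symm, (one_mul _).symm, (one_mul _).symm, (one_mul _).symm, (one_mul _).symm, trivial⟩
  exact ⟨[a, b, c, d, e, f, g, h, i, j], rfl, hc, ⟨s1.ev (v104.ev_eq F22.sub (show Asg β103 [(0, 0, []), (969, 1, []), (166, 2, []), (381, 3, []), (596, 4, []), (371, 5, []), (38, 7, [])] [a, b, c, d, e, f, h] from ⟨e258, e259, e260, e261, e262, e263, e264, trivial⟩) e258 e258 [6,5,4,3,2,1,0,6,5,4,3,2,1,0,6,5,4,3,2,1,0,6,5,4,3,2,1,0,6,5,4,3,2,1,0,6,5,4,3,2,1,0,6,5,4,3,2,1,0,6,5,4,3,2,1,0,6,5,4,3,2,1,0] (by decide +kernel)) (by decide +kernel),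
      s1.ev (v104.ev_eq F22.sub (show Asg β103 [(0, 0, []), (969, 1, []), (166, 2, []), (381, 3, []), (596, 4, []), (371, 5, []), (38, 7, [])] [a, b, c, d, e, f, h] from ⟨e258, e259, e260, e261, e262, e263, e264, trivial⟩) e259 e259 [6,5,4,3,2,1,0,6,5,4,3,2,1,0,6,5,4,3,2,1,0,6,5,4,3,2,1,0,6,5,4,3,2,1,0,6,5,4,3,2,1,0,6,5,4,3,2,1,0,6,5,4,3,2,1,0,6,5,4,3,2,1,0] (by decide +kernel)) (by decide +kernel),
      s1.ev (v104.ev_eq F22.sub (show Asg β103 [(0, 0, []), (969, 1, []), (166, 2, []), (381, 3, []), (596, 4, []), (371, 5, []), (38, 7, [])] [a, b, c, d, e, f, h] from ⟨e258, e259, e260, e261, e262, e263, e264, trivial⟩) e260 e260 [6,5,4,3,2,1,0,6,5,4,3,2,1,0,6,5,4,3,2,1,0,6,5,4,3,2,1,0,6,5,4,3,2,1,0,6,5,4,3,2,1,0,6,5,4,3,2,1,0,6,5,4,3,2,1,0,6,5,4,3,2,1,0] (by decide +kernel)) (by decide +kernel),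
      s1.ev (v104.ev_eq F22.sub (show Asg β103 [(0, 0, []), (969, 1, []), (166, 2, []), (381, 3, []), (596, 4, []), (371, 5, []), (38, 7, [])] [a, b, c, d, e, f, h] from ⟨e258, e259, e260, e261, e262, e263, e264, trivial⟩) e261 e261 [6,5,4,3,2,1,0,6,5,4,3,2,1,0,6,5,4,3,2,1,0,6,5,4,3,2,1,0,6,5,4,3,2,1,0,6,5,4,3,2,1,0,6,5,4,3,2,1,0,6,5,4,3,2,1,0,6,5,4,3,2,1,0] (by decide +kernel)) (by decide +kernel),
      s1.ev (v104.ev_eq F22.sub (show Asg β103 [(0, 0, []), (969, 1, []), (166, 2, []), (381, 3, []), (596, 4, []), (371, 5, []), (38, 7, [])] [a, b, c, d, e, f, h] from ⟨e258, e259, e260, e261, e262, e263, e264, trivial⟩) e262 e262 [6,5,4,3,2,1,0,6,5,4,3,2,1,0,6,5,4,3,2,1,0,6,5,4,3,2,1,0,6,5,4,3,2,1,0,6,5,4,3,2,1,0,6,5,4,3,2,1,0,6,5,4,3,2,1,0,6,5,4,3,2,1,0] (by decide +kernel)) (by decide +kernel),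
      s1.ev (v104.ev_eq F22.sub (show Asg β103 [(0, 0, []), (969, 1, []), (166, 2, []), (381, 3, []), (596, 4, []), (371, 5, []), (38, 7, [])] [a, b, c, d, e, f, h] from ⟨e258, e259, e260, e261, e262, e263, e264, trivial⟩) e263 e263 [6,5,4,3,2,1,0,6,5,4,3,2,1,0,6,5,4,3,2,1,0,6,5,4,3,2,1,0,6,5,4,3,2,1,0,6,5,4,3,2,1,0,6,5,4,3,2,1,0,6,5,4,3,2,1,0,6,5,4,3,2,1,0] (by decide +kernel)) (by decide +kernel),
      s1.ev (v104.ev_eq F22.sub (show Asg β103 [(0, 0, []), (969, 1, []), (166, 2, []), (381, 3, []), (596, 4, []), (371, 5, []), (38, 7, [])] [a, b, c, d, e, f, h] from ⟨e258, e259, e260, e261, e262, e263, e264, trivial⟩) e265 e265 [6,5,4,3,2,1,0,6,5,4,3,2,1,0,6,5,4,3,2,1,0,6,5,4,3,2,1,0,6,5,4,3,2,1,0,6,5,4,3,2,1,0,6,5,4,3,2,1,0,6,5,4,3,2,1,0,6,5,4,3,2,1,0] (by decide +kernel)) (by decide +kernel),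
      s1.ev (v104.ev_eq F22.sub (show Asg β103 [(0, 0, []), (969, 1, []), (166, 2, []), (381, 3, []), (596, 4, []), (371, 5, []), (38, 7, [])] [a, b, c, d, e, f, h] from ⟨e258, e259, e260, e261, e262, e263, e264, trivial⟩) e264 e264 [6,5,4,3,2,1,0,6,5,4,3,2,1,0,6,5,4,3,2,1,0,6,5,4,3,2,1,0,6,5,4,3,2,1,0,6,5,4,3,2,1,0,6,5,4,3,2,1,0,6,5,4,3,2,1,0,6,5,4,3,2,1,0] (by decide +kernel)) (by decide +kernel),
      s1.ev (v104.ev_eq F22.sub (show Asg β103 [(0, 0, []), (969, 1, []), (166, 2, []), (381, 3, []), (596, 4, []), (371, 5, []), (38, 7, [])] [a, b, c, d, e, f, h] from ⟨e258, e259, e260, e261, e262, e263, e264, trivial⟩) e257 e257 [6,5,4,3,2,1,0,6,5,4,3,2,1,0,6,5,4,3,2,1,0,6,5,4,3,2,1,0,6,5,4,3,2,1,0,6,5,4,3,2,1,0,6,5,4,3,2,1,0,6,5,4,3,2,1,0,6,5,4,3,2,1,0] (by decide +kernel)) (by decide +kernel),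
      fix_of_cm hc.2.2.2.2.2.2.2.2.2.1 (by decide +kernel), trivial⟩, trivial⟩

end R23

theorem T23.views {X : Type*} [FQ X] [Finite X] (hP : Prim X) (h : T23 X) (x : X) :
    ∃ β, View M22 (full 3510) (Dc x) β := by
  obtain ⟨d, h⟩ := h
  obtain ⟨β, hβ⟩ := rec22 (prim_Dc hP h.pp) (h.of_iso (iso_of_eq (Nc_Dc hP d)))
  exact hβ.val.at_all hP.conn x

theorem rec23 {X : Type*} [FQ X] [Finite X] (hP : Prim X) (h : T23 X) :
    ∃ β : ℕ → X, View M23 (full 31671) Set.univ β := by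
  have HV := h.views hP
  obtain ⟨d, -⟩ := h
  obtain ⟨xs, h1, h2, h3⟩ := R23.step HV d
  obtain ⟨c, hc, -⟩ := view_of_gen R23.core h1 h2 h3
  exact ⟨c, hc.of_eq (F23.cmm.univ hc hP (s := (0, 12, [])) 15 3510 (fun x => by
    obtain ⟨_, h⟩ := HV x
    rw [h.ncard F22.sub (d := 12) (by decide)]; decide +kernel) (by decide +kernel))⟩

end H26
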