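/-
S3159: facts about the model of `Sp₆(2)` (copies of lemmas of `H2.L3` and `H23.F4`, with light imports).
-/
import Cfsg.Agent.H23.F4M
import Cfsg.Agent.H11.TC4

set_option autoImplicit false
set_option synthInstance.maxSize 4096
set_option synthInstance.maxHeartbeats 200000
set_option linter.unusedSectionVars false

open Cfsg Subgroup H19 H23.F4
open scoped commutatorElement
namespace H26.SX

section
variable {G : Type*} [Group G] [Finite G] {K N₀ N P V S D X : Subgroup G} {x y z g s : G}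

theorem p3 : Nat.Prime 3 := Nat.prime_three

theorem ord3 (x3 : x ^ 3 = 1) (x1 : x ≠ 1) : orderOf x = 3 := orderOf_of_pow p3 x3 x1

theorem card_zp (x3 : x ^ 3 = 1) (x1 : x ≠ 1) : #(zpowers x) = 3 := by
  rw [Nat.card_zpowers, ord3 x3 x1]

theorem pg_zp (x3 : x ^ 3 = 1) : PG 3 (zpowers x) := abelem_pg p3 (abelem_zpowers x3)
theorem zp3 (x3 : x ^ 3 = 1) (hy : y ∈ zpowers x) : y = 1 ∨ y = x ∨ y = x⁻¹ := by
  rw [← (isOfFinOrder_of_finite x).mem_powers_iff_mem_zpowers, Submonoid.mem_powers_iff] at hy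
  obtain ⟨n, rfl⟩ := hy
  rw [← Nat.div_add_mod n 3, pow_add, pow_mul, x3, one_pow, one_mul]
  have : n % 3 < 3 := Nat.mod_lt _ (by norm_num)
  interval_cases n % 3
  · simp
  · simp
  · exact .inr (.inr (eq_inv_of_mul_eq_one_left (by rw [← x3]; group)))

theorem not_mem3 (h : PiG {3}ᶜ N) (x3 : x ^ 3 = 1) (hx : x ∈ N) : x = 1 :=
  PiN.e_eq_one (π := {3}) ((pg_zp x3).elt (mem_zpowers x)) (h.elt hx)

theorem mem_of_pow_mem {n p : ℕ} (hn : n.Coprime p) (hy : PiE {p} y) (h : y ^ n ∈ P) : y ∈ P := by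
  have hc : n.Coprime (orderOf y) := by
    obtain ⟨k, e⟩ := hy.exists_pow (orderOf_pos y).ne'
    rw [e]; exact hn.pow_right k
  obtain ⟨m, e⟩ := exists_pow_eq_self_of_coprime hc
  exact e ▸ pow_mem h m

theorem syl_zp {n : ℕ} (hn : n.Coprime 3) (hx : x ∈ K) (x3 : x ^ 3 = 1) (x1 : x ≠ 1)
    (h : ∀ k ∈ K, k * x = x * k → k ^ n ∈ zpowers x) : Syl 3 (zpowers x) K := by
  refine syl_of_max (zpowers_le.2 hx) (pg_zp x3) fun Q hQ hp hle => le_antisymm ?_ hle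
  have xQ := hle (mem_zpowers x)
  obtain ⟨c, hc, c1⟩ := exists_ne_one (hp.center_ne_bot (ne_bot_of_mem xQ x1))
  have k : ∀ q ∈ Q, q * x = x * q → q ∈ zpowers x := fun q hq e =>
    mem_of_pow_mem hn (hp.elt hq) (h q (hQ hq) e)
  intro q hq
  have e := mem_cent.1 hc.2 q hq
  refine k q hq ?_
  rcases zp3 x3 (k c hc.1 (mem_cent.1 hc.2 x xQ).symm) with h1 | h1 | h1
  · exact (c1 h1).elim
  · exact h1 ▸ e
  · rw [h1] at e; exact ((Commute.inv_right_iff).1 e).eq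

theorem conj_of_syl (hS : Syl 3 (zpowers x) K) (x3 : x ^ 3 = 1) (hy : y ∈ K) (y3 : y ^ 3 = 1) :
    y = 1 ∨ ∃ k ∈ K, k * y * k⁻¹ = x ∨ k * y * k⁻¹ = x⁻¹ := by
  obtain ⟨k, hk, h⟩ := hS.scj_le (zpowers_le.2 hy) (pg_zp y3)
  rcases zp3 x3 (h (conj_mem_cj.2 (mem_zpowers y))) with e | e
  · exact Or.inl (conj_eq_one_iff.1 e)
  · exact Or.inr ⟨k, hk, e⟩

theorem norm_zp (x3 : x ^ 3 = 1) (x1 : x ≠ 1) (hg : g ∈ N(zpowers x)) :
    g * x * g⁻¹ = x ∨ g * x * g⁻¹ = x⁻¹ :=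
  (zp3 x3 (conj_mem_of_norm hg (mem_zpowers x))).resolve_left (mt conj_eq_one_iff.1 x1)

theorem cop_zp (h : PiG {3}ᶜ N) (x3 : x ^ 3 = 1) : (#N).Coprime #(zpowers x) := h.coprime' (pg_zp x3)

/-- lifting a centralizing element over a `3'`-subgroup -/
theorem lift_cent (h : PiG {3}ᶜ N) (x3 : x ^ 3 = 1) (hx : x ∈ N(N)) (e : x * g * x⁻¹ * g⁻¹ ∈ N) :
    ∃ n ∈ N, n * g * x = x * (n * g) := by
  obtain ⟨n, hn, c⟩ := exists_mul_mem_cent (A := zpowers x) (zpowers_le.2 hx) (cop_zp h x3)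
    (Or.inl (sol_zpowers x)) (k := g) fun a ha => by
      rcases zp3 x3 ha with h | h | h <;> rw [h]
      · simp
      · exact e
      · convert conj_mem_of_norm' hx (inv_mem e) using 1; group
  exact ⟨n, hn, (mem_cent.1 c x (mem_zpowers x)).symm⟩
theorem orb_ncard (K : Subgroup G) (x : G) :
    {y | ∃ k ∈ K, k * x * k⁻¹ = y}.ncard = C[x].relIndex K := by
  let i : MulAction K G := MulAction.compHom G ((MulAut.conj (G := G)).comp K.subtype)
  have := @MulAction.index_stabilizer K G _ i x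
  rw [relIndex, show C[x].subgroupOf K = @MulAction.stabilizer K G _ i x from Subgroup.ext fun k =>
    mem_cent1.trans mul_inv_eq_iff_eq_mul.symm, this]
  congr 1
  ext y
  exact ⟨fun ⟨k, hk, e⟩ => ⟨⟨k, hk⟩, e⟩, fun ⟨k, e⟩ => ⟨k, k.2, e⟩⟩

theorem orb_le {S : Set G} (h : ∀ k ∈ K, k * x * k⁻¹ ∈ S) : C[x].relIndex K ≤ S.ncard :=
  orb_ncard K x ▸ Set.ncard_le_ncard (fun _ ⟨k, hk, e⟩ => e ▸ h k hk) S.toFinite

theorem orb_surj {S : Set G} (h : ∀ k ∈ K, k * x * k⁻¹ ∈ S) (hc : S.ncard ≤ C[x].relIndex K)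
    (hy : y ∈ S) : ∃ k ∈ K, k * x * k⁻¹ = y :=
  (Set.eq_of_subset_of_ncard_le (s := {y | ∃ k ∈ K, k * x * k⁻¹ = y})
    (fun _ ⟨k, hk, e⟩ => e ▸ h k hk) (orb_ncard K x ▸ hc) S.toFinite).ge hy

theorem ncard_diff (h : P ≤ V) : ((V : Set G) \ P).ncard = #V - #P := by
  rw [Set.ncard_sdiff h]; rfl

theorem inf_zp (x3 : x ^ 3 = 1) (h : x ∉ P) : P ⊓ zpowers x = ⊥ := eq_bot_iff.2 fun y hy => by
  rcases zp3 x3 hy.2 with e | e | e
  exacts [mem_bot.2 e, (h (e ▸ hy.1)).elim, (h (inv_mem_iff.1 (e ▸ hy.1))).elim]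

theorem card_sup_zp (x3 : x ^ 3 = 1) (h : x ∉ P) (hn : x ∈ N(P)) : #(P ⊔ zpowers x) = #P * 3 := by
  have := card_sup_mul_inf (zpowers_le.2 hn)
  rwa [inf_zp x3 h, card_bot, mul_one, card_zp x3 fun e => h (e ▸ one_mem _)] at this

theorem eq_one23 (h2 : g * g = 1) (h3 : g ^ 3 = 1) : g = 1 := by
  rwa [pow_three, h2, mul_one] at h3

theorem zp2 (ss : s * s = 1) (hy : y ∈ zpowers s) : y = 1 ∨ y = s := by
  obtain ⟨i, rfl⟩ := hy
  have : s ^ (2 : ℤ) = 1 := by rw [zpow_two, ss]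
  rcases Int.even_or_odd' i with ⟨k, rfl | rfl⟩
  · exact Or.inl (by simp only [zpow_mul, this, one_zpow])
  · exact Or.inr (by simp only [zpow_add, zpow_mul, this, one_zpow, one_mul, zpow_one])

theorem syl_pow {l m : ℕ} (hn : m.Coprime l) (hS : PG l S) (le : S ≤ K) (h : ∀ k ∈ K, k ∈ N(S) → k ^ m ∈ S) :
    Syl l S K := by
  by_contra hc
  obtain ⟨Q, lt, hp, h1, h2⟩ := hS.exists_lt_norm le hc
  obtain ⟨g, hg, hg'⟩ := SetLike.exists_of_lt lt
  exact hg' (mem_of_pow_mem hn (hp.elt hg) (h g (h1 hg) (h2 hg)))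

theorem nc9 (ab : Ab D) (h3 : ∀ d ∈ D, d ^ 3 = 1) (c9 : #D = 9) : ¬ Cyc D :=
  (show El 3 2 D ⊤ from ⟨p3, le_top, ⟨ab, h3⟩, c9⟩).not_cyc

theorem gen9 (ab : Ab D) (h3 : ∀ d ∈ D, d ^ 3 = 1) (c9 : #D = 9) (hN : PiG {3}ᶜ N) (hn : D ≤ N(N))
    (h : ∀ d ∈ D, d ≠ 1 → ∀ k ∈ N, k * d = d * k → k ∈ X) : N ≤ X :=
  le_of_cent1_le ab (nc9 ab h3 c9) hn (hN.coprime' (pg_of_pow p3 h3)) fun d hd d1 k hk => h d hd d1 k hk.1 (mem_cent1.1 hk.2)

end

theorem T_inj {p q : V} (h : T p = T q) : p = q := by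
  have : ∀ p q : V, (∀ v, tf p v = tf q v) → p = q := by decide +kernel
  exact this p q fun v => congrArg (· • v) h
theorem T_fix {p v : V} (h : ω v p = false) : T p • v = v := by rw [T_smul, h, sc_false, add_zero]
theorem comm_T_iff {g : Sp} {p : V} : Commute g (T p) ↔ g • p = p :=
  ⟨fun h => T_inj (by rw [← conj_T, h.eq, mul_inv_cancel_right]), fun h => by
    have := conj_T g p
    rw [h, mul_inv_eq_iff_eq_mul] at this; exact this⟩
theorem comm_TT {p q : V} : Commute (T p) (T q) ↔ ω p q = false := by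
  rw [comm_T_iff, T_smul, ω_comm q p]
  refine ⟨fun h => ?_, fun h => by simp [h]⟩
  cases e : ω p q
  · rfl
  · rw [e, sc_true, add_eq_left] at h
    rw [h, zero_ω] at e; exact e.symm
theorem eq_one_of_central {g : Sp} (h : ∀ k, Commute g k) : g = 1 :=
  ext_v fun v => (comm_T_iff.1 (h _)).trans (one_smul _ v).symm
theorem smul_ne_zero_v {g : Sp} {v : V} (h : v ≠ 0) : g • v ≠ 0 := fun e => h (by simpa using congrArg (g⁻¹ • ·) e)
theorem ap_lin (g : Sp) (v : V) : g • v = lin (g • e1) (g • f1) (g • e2) (g • f2) (g • e3) (g • f3) v := by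
  conv_lhs => rw [decomp v]
  simp only [smul_add, smul_sc, lin]
theorem X_smul {p q : V} (h : ω p q = false) (v : V) : X p q • v = v + sc (ω v p) q + sc (ω v q) p := by
  have h' : ω q p = false := by rw [ω_comm, h]
  simp only [X, mul_smul, T_smul, ω_add_left, ω_add_right, ω_sc_left, ω_self, h, h']
  cases ω v p <;> cases ω v q <;> simp [add_comm, add_left_comm, add_assoc]
theorem X_mul_self {p q : V} (h : ω p q = false) : X p q * X p q = 1 := ext_v fun v => by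
  have h' : ω q p = false := by rw [ω_comm, h]
  simp only [mul_smul, X_smul h, ω_add_left, ω_sc_left, ω_self, h, h', one_smul]
  cases ω v p <;> cases ω v q <;> simp [add_comm, add_left_comm, add_assoc]

/-- power of a transvection by a bit -/
def Tb (b : Bool) (p : V) : Sp := bif b then T p else 1
theorem X_mul {p q q' : V} (h : ω p q = false) (h' : ω p q' = false) :
    X p q * X p q' = X p (q + q') * Tb (ω q q') p := ext_v fun v => by
  have h2 : ω p (q + q') = false := by simp [h, h']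
  have h3 : ω q' p = false := by rw [ω_comm, h']
  have h4 : ω q p = false := by rw [ω_comm, h]
  cases e : ω q q' <;>
  simp only [Tb, mul_smul, X_smul h, X_smul h', X_smul h2, T_smul, ω_add_left, ω_add_right, ω_sc_left, ω_self, h, h',
    h3, ω_comm q' q, e, cond_true, cond_false, one_smul] <;>
  cases ω v p <;> cases ω v q <;> cases ω v q' <;> simp [add_comm, add_left_comm, add_assoc]
theorem X_add_self {p q : V} (h : ω p q = false) : X p (q + p) = X p q := ext_v fun v => by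
  have h2 : ω p (q + p) = false := by simp [h]
  simp only [X_smul h, X_smul h2, ω_add_right]
  cases ω v p <;> cases ω v q <;> simp [add_comm, add_left_comm, add_assoc]
theorem X_zero (p : V) : X p 0 = 1 := ext_v fun v => by
  rw [X_smul (ω_zero p)]; cases ω v p <;> simp

/-! ### generation by transvections -/

/-- the subgroup generated by the transvections whose centre satisfies `P` -/
def TG (P : V → Prop) : Subgroup Sp := closure (T '' {p | P p})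
theorem T_mem {P : V → Prop} {p : V} (h : P p) : T p ∈ TG P := subset_closure ⟨p, h, rfl⟩
theorem TG_le {P : V → Prop} {M : Subgroup Sp} (h : ∀ p, P p → T p ∈ M) : TG P ≤ M :=
  (closure_le _).2 (by rintro _ ⟨p, hp, rfl⟩; exact h p hp)
theorem TG_fix {P : V → Prop} {v : V} (h : ∀ p, P p → ω v p = false) {g : Sp} (hg : g ∈ TG P) : g • v = v :=
  TG_le (M := MulAction.stabilizer Sp v) (fun p hp => T_fix (h p hp)) hg

theorem mv_step {P : V → Prop} {e a : V} (h : ∃ p q, P p ∧ P q ∧ tf p (tf q e) = a) : ∃ m ∈ TG P, m • e = a :=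
  let ⟨p, q, hp, hq, h⟩ := h; ⟨T p * T q, mul_mem (T_mem hp) (T_mem hq), h⟩

/-- `v` is perpendicular to all members of `l` -/
def Pp (l : List V) (v : V) : Prop := ∀ q ∈ l, ω v q = false
instance (l : List V) (v : V) : Decidable (Pp l v) := by unfold Pp; infer_instance
theorem Pp.mono {l l' : List V} {v : V} (h : Pp l v) (s : l' ⊆ l) : Pp l' v := fun q hq => h q (s hq)
theorem TG_mono {l l' : List V} (s : l' ⊆ l) : TG (Pp l) ≤ TG (Pp l') := TG_le fun _ hp => T_mem (hp.mono s)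
/-- `g` fixes all members of `l` -/
def Fx (l : List V) (g : Sp) : Prop := ∀ q ∈ l, g • q = q
theorem Fx.pp {l : List V} {g : Sp} (h : Fx l g) {v : V} (hv : Pp l v) : Pp l (g • v) := fun q hq => by
  rw [← h q hq, ω_smul, hv q hq]
theorem fx_TG {l : List V} {g : Sp} (hg : g ∈ TG (Pp l)) : Fx l g := fun q hq =>
  TG_fix (fun p hp => by rw [ω_comm, hp q hq]) hg

theorem gen_step {l : List V} {e : V} {Q : V → Prop} (h : ∀ a, Q a → ∃ p q, Pp l p ∧ Pp l q ∧ tf p (tf q e) = a)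
    (ih : ∀ g, Fx (e :: l) g → g ∈ TG (Pp (e :: l))) (g : Sp) (hg : Fx l g) (hQ : Q (g • e)) : g ∈ TG (Pp l) := by
  obtain ⟨m, hm, e'⟩ := mv_step (h _ hQ)
  have := TG_mono (List.subset_cons_self e l) (ih (m⁻¹ * g) fun q hq => by
    rcases List.mem_cons.1 hq with rfl | hq
    · rw [mul_smul, ← e', inv_smul_smul]
    · rw [mul_smul, hg q hq, fx_TG (inv_mem hm) q hq])
  simpa using mul_mem hm this

theorem gen6 (g : Sp) (hg : Fx [f3, e3, f2, e2, f1, e1] g) : g ∈ TG (Pp [f3, e3, f2, e2, f1, e1]) := by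
  simp only [Fx, List.forall_mem_cons] at hg
  obtain ⟨a, b, c, d, e, f, -⟩ := hg
  rw [show g = 1 from ext6 f e d c b a]; exact one_mem _
theorem gen5 (g : Sp) (hg : Fx [e3, f2, e2, f1, e1] g) : g ∈ TG (Pp [e3, f2, e2, f1, e1]) :=
  gen_step (Q := fun a => Pp [f2, e2, f1, e1] a ∧ ω a e3 = true) (by decide +kernel) gen6 g hg
    ⟨Fx.pp (fun q hq => hg q (by simp_all)) (by decide), by rw [← hg e3 (by simp), ω_smul]; rfl⟩
theorem gen4 (g : Sp) (hg : Fx [f2, e2, f1, e1] g) : g ∈ TG (Pp [f2, e2, f1, e1]) :=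
  gen_step (Q := fun a => Pp [f2, e2, f1, e1] a ∧ a ≠ 0) (by decide +kernel) gen5 g hg
    ⟨hg.pp (by decide), smul_ne_zero_v (by decide)⟩
theorem gen3 (g : Sp) (hg : Fx [e2, f1, e1] g) : g ∈ TG (Pp [e2, f1, e1]) :=
  gen_step (Q := fun a => Pp [f1, e1] a ∧ ω a e2 = true) (by decide +kernel) gen4 g hg
    ⟨Fx.pp (fun q hq => hg q (by simp_all)) (by decide), by rw [← hg e2 (by simp), ω_smul]; rfl⟩
theorem gen2 (g : Sp) (hg : Fx [f1, e1] g) : g ∈ TG (Pp [f1, e1]) :=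
  gen_step (Q := fun a => Pp [f1, e1] a ∧ a ≠ 0) (by decide +kernel) gen3 g hg
    ⟨hg.pp (by decide), smul_ne_zero_v (by decide)⟩
theorem gen1 (g : Sp) (hg : Fx [e1] g) : g ∈ TG (Pp [e1]) :=
  gen_step (Q := fun a => ω a e1 = true) (by decide +kernel) gen2 g hg (by rw [← hg e1 (by simp), ω_smul]; rfl)
theorem gen0 (g : Sp) : g ∈ TG (Pp []) :=
  gen_step (Q := fun a => a ≠ 0) (by decide +kernel) gen1 g (by simp [Fx]) (smul_ne_zero_v (by decide))

/-- transitivity on hyperbolic pairs -/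
theorem ex_hyp {a b : V} (h : ω a b = true) : ∃ g : Sp, g • e1 = a ∧ g • f1 = b := by
  have a0 : a ≠ 0 := fun e => by simp [e] at h
  obtain ⟨m, -, rfl⟩ := mv_step ((by decide +kernel :
    ∀ a : V, a ≠ 0 → ∃ p q, Pp [] p ∧ Pp [] q ∧ tf p (tf q e1) = a) a a0)
  obtain ⟨n, hn, e⟩ := mv_step ((by decide +kernel :
    ∀ a : V, ω a e1 = true → ∃ p q, Pp [e1] p ∧ Pp [e1] q ∧ tf p (tf q f1) = a) (m⁻¹ • b)
    (by rw [← ω_smul m, smul_inv_smul, ω_comm, h]))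
  exact ⟨m * n, by rw [mul_smul, fx_TG hn e1 (by simp)], by rw [mul_smul, e, smul_inv_smul]⟩
theorem ex_one {a : V} (h : a ≠ 0) : ∃ g : Sp, g • e1 = a := by
  obtain ⟨b, hb⟩ := (by decide +kernel : ∀ a : V, a ≠ 0 → ∃ b, ω a b = true) a h
  exact (ex_hyp hb).imp fun _ h => h.1
/-- transitivity on perpendicular pairs -/
theorem ex_perp {a b : V} (a0 : a ≠ 0) (b0 : b ≠ 0) (ab : b ≠ a) (h : ω a b = false) :
    ∃ g : Sp, g • e1 = a ∧ g • e2 = b := by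
  obtain ⟨m, rfl⟩ := ex_one a0
  obtain ⟨n, hn, e⟩ := mv_step ((by decide +kernel :
    ∀ a : V, a ≠ 0 → a ≠ e1 → ω a e1 = false → ∃ p q, Pp [e1] p ∧ Pp [e1] q ∧ tf p (tf q e2) = a) (m⁻¹ • b)
    (smul_ne_zero_v b0) (fun e => ab (by rw [← e, smul_inv_smul])) (by rw [← ω_smul m, smul_inv_smul, ω_comm, h]))
  exact ⟨m * n, by rw [mul_smul, fx_TG hn e1 (by simp)], by rw [mul_smul, e, smul_inv_smul]⟩

/-! ### the torus -/

abbrev tA := Fin 3 × Fin 3 × Fin 3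
def ts : List tA := [(0, 0, 0), (0, 0, 1), (0, 0, 2), (0, 1, 0), (0, 1, 1), (0, 1, 2), (0, 2, 0), (0, 2, 1), (0, 2, 2), (1, 0, 0),
  (1, 0, 1), (1, 0, 2), (1, 1, 0), (1, 1, 1), (1, 1, 2), (1, 2, 0), (1, 2, 1), (1, 2, 2), (2, 0, 0), (2, 0, 1),
  (2, 0, 2), (2, 1, 0), (2, 1, 1), (2, 1, 2), (2, 2, 0), (2, 2, 1), (2, 2, 2)]
theorem mem_ts : ∀ t, t ∈ ts := by decide +kernel
instance (priority := high) (P : tA → Prop) [DecidablePred P] : Decidable (∀ v, P v) :=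
  decidable_of_iff (ts.all fun v => decide (P v)) (by simp [mem_ts])
instance (priority := high) (P : tA → Prop) [DecidablePred P] : Decidable (∃ v, P v) :=
  decidable_of_iff (ts.any fun v => decide (P v)) (by simp [mem_ts])
def dA (t : tA) : Sp := d1 ^ t.1.1 * d2 ^ t.2.1.1 * d3 ^ t.2.2.1
theorem dA_add : ∀ s t : tA, dA (s + t) = dA s * dA t := by decide +kernel
theorem dA_zero : dA 0 = 1 := by decide +kernel
theorem dA_eq_one : ∀ t : tA, dA t = 1 → t = 0 := by decide +kernel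
theorem dA_neg (t : tA) : dA (-t) = (dA t)⁻¹ := eq_inv_of_mul_eq_one_left (by rw [← dA_add, neg_add_cancel, dA_zero])
theorem dA_inj : Function.Injective dA := fun s t h =>
  sub_eq_zero.1 (dA_eq_one _ (by rw [sub_eq_add_neg, dA_add, dA_neg, h, mul_inv_cancel]))
theorem dA_nsmul (n : ℕ) (t : tA) : dA (n • t) = dA t ^ n := by
  induction n with
  | zero => rw [zero_smul, pow_zero, dA_zero]
  | succ n ih => rw [succ_nsmul, dA_add, ih, pow_succ]
theorem dA_comm (s t : tA) : Commute (dA s) (dA t) := by rw [commute_iff_eq, ← dA_add, ← dA_add, add_comm]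
theorem dA_cube : ∀ t : tA, dA t ^ 3 = 1 := by decide +kernel
theorem dA1 : dA (1, 0, 0) = d1 := by decide +kernel
theorem dA2 : dA (0, 1, 0) = d2 := by decide +kernel
theorem dA3 : dA (0, 0, 1) = d3 := by decide +kernel

/-- the torus `3³` -/
def AM : Subgroup Sp where
  carrier := Set.range dA
  one_mem' := ⟨0, dA_zero⟩
  mul_mem' := by rintro _ _ ⟨s, rfl⟩ ⟨t, rfl⟩; exact ⟨_, dA_add s t⟩
  inv_mem' := by rintro _ ⟨s, rfl⟩; exact ⟨_, dA_neg s⟩
theorem card_AM : #AM = 27 := (Nat.card_range_of_injective dA_inj).trans (by simp)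
theorem AM_le {M : Subgroup Sp} (h1 : d1 ∈ M) (h2 : d2 ∈ M) (h3 : d3 ∈ M) : AM ≤ M := by
  rintro _ ⟨t, rfl⟩; exact mul_mem (mul_mem (pow_mem h1 _) (pow_mem h2 _)) (pow_mem h3 _)

theorem centA {g : Sp} (h1 : Commute g d1) (h2 : Commute g d2) (h3 : Commute g d3) : ∃ t, g = dA t := by
  have k : ∀ {d : Sp} {v : V}, Commute g d → d • v = v → d • g • v = g • v := fun h e => by
    rw [← mul_smul, ← h.eq, mul_smul, e]
  have k' : ∀ {d : Sp} {v w : V}, Commute g d → d • v = w → g • w = d • g • v := fun h e => by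
    rw [← mul_smul, ← h.eq, mul_smul, e]
  obtain ⟨t, a1, a2, a3⟩ := (by decide +kernel : ∀ u : V, u ≠ 0 → d2 • u = u → d3 • u = u → ∀ v : V, v ≠ 0 →
      d1 • v = v → d3 • v = v → ∀ w : V, w ≠ 0 → d1 • w = w → d2 • w = w →
      ∃ t, u = dA t • e1 ∧ v = dA t • e2 ∧ w = dA t • e3) (g • e1) (smul_ne_zero_v (by decide))
    (k h2 (by decide +kernel)) (k h3 (by decide +kernel)) (g • e2) (smul_ne_zero_v (by decide))
    (k h1 (by decide +kernel)) (k h3 (by decide +kernel)) (g • e3) (smul_ne_zero_v (by decide))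
    (k h1 (by decide +kernel)) (k h2 (by decide +kernel))
  have c : ∀ {d : Sp} {s : tA} {v : V}, dA s = d → d • dA t • v = dA t • d • v := fun e => by
    rw [← mul_smul, ← e, (dA_comm _ t).eq, mul_smul]
  refine ⟨t, ext6 a1 ?_ a2 ?_ a3 ?_⟩
  · rw [k' h1 (show d1 • e1 = f1 by decide +kernel), a1, c dA1]; rfl
  · rw [k' h2 (show d2 • e2 = f2 by decide +kernel), a2, c dA2]; rfl
  · rw [k' h3 (show d3 • e3 = f3 by decide +kernel), a3, c dA3]; rfl

def sw12 : Sp := X (e1 + e2) (f1 + f2)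
def sw23 : Sp := X (e2 + e3) (f2 + f3)
def sw13 : Sp := X (e1 + e3) (f1 + f3)
def ρ : Sp := sw12 * sw23
theorem ρ_conj : ∀ t : tA, ρ * dA t * ρ⁻¹ = dA (t.2.2, t.1, t.2.1) := by decide +kernel
theorem ρ_cube : ρ ^ 3 = 1 := by decide +kernel
theorem ρ_norm : ρ ∈ N(AM) := mem_norm_of_cj_le fun _ hx => by
  obtain ⟨_, ⟨t, rfl⟩, rfl⟩ := mem_cj'.1 hx; exact ⟨_, (ρ_conj t).symm⟩
theorem ρ_not : ρ ∉ AM := fun ⟨t, h⟩ => (by decide +kernel : ∀ t, dA t ≠ ρ) t h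
def PM : Subgroup Sp := AM ⊔ zpowers ρ
theorem card_PM : #PM = 81 := by rw [PM, card_sup_zp ρ_cube ρ_not ρ_norm, card_AM]
theorem syl_PM : Syl 3 PM ⊤ := by
  refine ⟨le_top, PiN.of_card_pow (k := 4) p3 card_PM, ?_⟩
  have := card_mul_relIndex (le_top : PM ≤ ⊤)
  rw [card_PM, card_top, card_Sp] at this
  rw [show PM.relIndex ⊤ = 17920 by omega]
  intro p hp h e
  rw [Set.mem_singleton_iff.1 e] at h
  exact absurd h (by decide)
theorem mem_PM {g : Sp} (h : g ∈ PM) : ∃ t, ∃ e : Fin 3, g = dA t * ρ ^ e.1 := by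
  obtain ⟨_, ⟨t, rfl⟩, y, hy, rfl⟩ := (mem_sup_of_norm (zpowers_le.2 ρ_norm)).1 h
  rcases zp3 ρ_cube hy with rfl | rfl | rfl
  exacts [⟨t, 0, by simp⟩, ⟨t, 1, by simp⟩, ⟨t, 2, congrArg _ (by decide +kernel)⟩]

theorem conj27 {B : Subgroup Sp} (ab : Ab B) (h3 : PG 3 B) (c : #B = 27) : ∃ g, cj g B = AM := by
  obtain ⟨g, -, h⟩ := syl_PM.scj_le (le_top : B ≤ ⊤) h3
  refine ⟨g, eq_of_le_of_card_eq (fun x hx => by_contra fun nx => ?_) (by rw [card_cj, c, card_AM])⟩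
  obtain ⟨t, e, rfl⟩ := mem_PM (h hx)
  have h1 : AM ⊓ cj g B ≤ zpowers (dA (1, 1, 1)) := by
    rintro _ ⟨⟨s, rfl⟩, hs⟩
    obtain ⟨i, hi⟩ := (by decide +kernel : ∀ (s t : tA) (e : Fin 3), e ≠ 0 → Commute (dA s) (dA t * ρ ^ e.1) →
      ∃ i : Fin 3, dA s = dA (1, 1, 1) ^ i.1) s t e (fun e0 => nx ⟨t, by simp [e0]⟩)
      (mul_comm_of_comm (comm_cj.2 ab) hs hx)
    exact hi ▸ pow_mem (mem_zpowers _) _
  have h2 := card_le h1
  have h3 := card_inf_mul_relIndex AM (cj g B)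
  have h4 := relIndex_le_of_le_right (H := AM) h (relIndex_ne_zero' _ _)
  have h5 : #AM * AM.relIndex PM = #PM := card_mul_relIndex (le_sup_left : AM ≤ PM)
  rw [card_AM, card_PM] at h5
  rw [card_zp (dA_cube _) (by decide +kernel)] at h2
  rw [card_cj, c] at h3
  have := Nat.mul_le_mul h2 (h4.trans (by omega : AM.relIndex PM ≤ 3))
  omega

/-! ### classes of elements of order three -/

/-- number of fixed vectors -/
def fx (g : Sp) : ℕ := (vs.filter fun v => g • v = v).length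
theorem fx_eq (g : Sp) : fx g = Nat.card {v : V // g • v = v} := by
  rw [Nat.card_eq_fintype_card, Fintype.card_subtype, fx, ← List.toFinset_card_of_nodup
    ((by decide +kernel : vs.Nodup).filter _)]
  congr 1; ext v; simp [mem_vs]
theorem fx_conj (g x : Sp) : fx (g * x * g⁻¹) = fx x := by
  rw [fx_eq, fx_eq]
  exact Nat.card_congr ⟨fun v => ⟨g⁻¹ • v.1, by have := v.2; simp only [mul_smul] at this; rw [eq_inv_smul_iff, this]⟩,
    fun v => ⟨g • v.1, by simp [mul_smul, v.2]⟩, fun v => by simp, fun v => by simp⟩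
theorem fx_isConj {x y : Sp} (h : IsConj x y) : fx x = fx y := by
  obtain ⟨g, rfl⟩ := isConj_iff.1 h; exact (fx_conj g x).symm

def vv (n : ℕ) : V := ⟨n % 64, Nat.mod_lt _ (by decide)⟩
/-- product of transvections -/
def wd (l : List ℕ) : Sp := (l.map fun n => T (vv n)).prod
def clsT : List (List ℕ) := [[], [51, 34, 17], [50, 35, 17], [15, 10, 5], [51, 34, 17], [50, 35, 17], [14, 11, 5],
  [55, 38, 21], [54, 39, 21], [], [60, 40, 20], [56, 44, 20], [], [], [16], [4], [4], [16, 4], [1], [61, 41, 21],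
  [57, 45, 21], [1], [1], [16, 1], [4, 1], [4, 1], [16, 4, 1], [58, 31, 1], [], [], [], [], [62, 23, 1], [],
  [54, 27, 1], [], [], [], [63, 21, 1], [], [55, 25, 1], [], [59, 29, 1], [], [], [], [53, 26, 1], [], [57, 30, 1],
  [], [], [], [], [61, 22, 1], [47, 26, 1], [], [], [], [], [37, 31, 1], [], [42, 21, 1], [], [], [], [45, 27, 1],
  [], [38, 29, 1], [], [43, 22, 1], [], [], [], [46, 25, 1], [], [39, 30, 1], [], [], [], [], [41, 23, 1]]
theorem cls3 {g : Sp} (h : g ^ 3 = 1) : g = 1 ∨ IsConj d1 g ∨ IsConj (d1 * d2) g ∨ IsConj (d1 * d2 * d3) g := by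
  obtain ⟨k, -, hk⟩ := syl_PM.scj_le (le_top : zpowers g ≤ ⊤) (pg_zp h)
  obtain ⟨t, e, he⟩ := mem_PM (hk (conj_mem_cj.2 (mem_zpowers g)))
  have c : IsConj (dA t * ρ ^ e.1) g := (isConj_iff.2 ⟨k, he⟩).symm
  have := (by decide +kernel : ∀ (t : tA) (e : Fin 3), (dA t * ρ ^ e.1) ^ 3 = 1 → ∀ w ∈
    [wd (clsT.getD (27 * e.1 + 9 * t.1.1 + 3 * t.2.1.1 + t.2.2.1) [])], dA t * ρ ^ e.1 = 1 ∨
      w * d1 * w⁻¹ = dA t * ρ ^ e.1 ∨ w * (d1 * d2) * w⁻¹ = dA t * ρ ^ e.1 ∨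
      w * (d1 * d2 * d3) * w⁻¹ = dA t * ρ ^ e.1) t e (by rw [← he, conj_pow, h]; simp) _ (List.mem_singleton_self _)
  rcases this with e1 | e1 | e1 | e1
  · exact .inl (isConj_one_right.1 (e1 ▸ c))
  exacts [.inr (.inl ((isConj_iff.2 ⟨_, e1⟩).trans c)), .inr (.inr (.inl ((isConj_iff.2 ⟨_, e1⟩).trans c))),
    .inr (.inr (.inr ((isConj_iff.2 ⟨_, e1⟩).trans c)))]
theorem fx_d1 : fx d1 = 16 := by decide +kernel
theorem fx_d12 : fx (d1 * d2) = 4 := by decide +kernel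
theorem fx_d123 : fx (d1 * d2 * d3) = 1 := by decide +kernel
theorem fx_one : fx 1 = 64 := by decide +kernel
theorem cls16 {g : Sp} (h : g ^ 3 = 1) (e : fx g = 16) : IsConj d1 g := by
  rcases cls3 h with rfl | c | c | c
  · simp [fx_one] at e
  · exact c
  all_goals have := fx_isConj c; simp [fx_d12, fx_d123, e] at this
theorem cls4 {g : Sp} (h : g ^ 3 = 1) (e : fx g = 4) : IsConj (d1 * d2) g := by
  rcases cls3 h with rfl | c | c | c
  · simp [fx_one] at e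
  rotate_left
  · exact c
  all_goals have := fx_isConj c; simp [fx_d1, fx_d123, e] at this
theorem cls1 {g : Sp} (h : g ^ 3 = 1) (e : fx g = 1) : IsConj (d1 * d2 * d3) g := by
  rcases cls3 h with rfl | c | c | c
  · simp [fx_one] at e
  rotate_left 2
  · exact c
  all_goals have := fx_isConj c; simp [fx_d1, fx_d12, e] at this
theorem fx3 {g : Sp} (h : g ^ 3 = 1) : g = 1 ∨ fx g = 16 ∨ fx g = 4 ∨ fx g = 1 := by
  rcases cls3 h with c | c | c | c
  · exact .inl c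
  all_goals simp [← fx_isConj c, fx_d1, fx_d12, fx_d123]

/-- all three coordinates are nonzero -/
def W3 (t : tA) : Prop := t.1 ≠ 0 ∧ t.2.1 ≠ 0 ∧ t.2.2 ≠ 0
instance (t : tA) : Decidable (W3 t) := by unfold W3; infer_instance
theorem fx_dA : ∀ t : tA, fx (dA t) = 1 ↔ W3 t := by decide +kernel

/-! ### monomial normalization -/

def mg (n : ℕ) : Sp := [T e1, T e2, T e3, sw12].getD n sw23
def ma (n : ℕ) (t : tA) : tA :=
  [(-t.1, t.2.1, t.2.2), (t.1, -t.2.1, t.2.2), (t.1, t.2.1, -t.2.2), (t.2.1, t.1, t.2.2)].getD n (t.1, t.2.2, t.2.1)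
theorem mg_conj (n : ℕ) (t : tA) : mg n * dA t * (mg n)⁻¹ = dA (ma n t) := by
  have : ∀ n < 5, ∀ t : tA, mg n * dA t * (mg n)⁻¹ = dA (ma n t) := by decide +kernel
  rcases lt_or_ge n 5 with h | h
  · exact this n h t
  · obtain ⟨k, rfl⟩ := Nat.exists_eq_add_of_le' h
    exact this 4 (by decide) t
theorem mw_conj (w : List ℕ) (t : tA) : (w.map mg).prod * dA t * (w.map mg).prod⁻¹ = dA (w.foldr ma t) := by
  induction w with
  | nil => simp
  | cons n w ih => rw [List.foldr_cons, ← mg_conj, ← ih, List.map_cons, List.prod_cons]; group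
def monoW : List (List ℕ) := [[], [0], [1], [2], [3], [4], [1, 0], [2, 0], [3, 0], [4, 0], [2, 1], [3, 1], [4, 1],
  [3, 2], [4, 2], [4, 3], [3, 4], [2, 1, 0], [3, 1, 0], [4, 1, 0], [3, 2, 0], [4, 2, 0], [4, 3, 0], [3, 4, 0],
  [3, 2, 1], [4, 2, 1], [4, 3, 1], [3, 4, 1], [4, 3, 2], [3, 4, 2], [3, 4, 3], [3, 2, 1, 0], [4, 2, 1, 0],
  [4, 3, 1, 0], [3, 4, 1, 0], [4, 3, 2, 0], [3, 4, 2, 0], [3, 4, 3, 0], [4, 3, 2, 1], [3, 4, 2, 1], [3, 4, 3, 1],
  [3, 4, 3, 2], [4, 3, 2, 1, 0], [3, 4, 2, 1, 0], [3, 4, 3, 1, 0], [3, 4, 3, 2, 0], [3, 4, 3, 2, 1],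
  [3, 4, 3, 2, 1, 0]]
/-- independence of three vectors -/
def Ind (a b c : tA) : Prop := ∀ i j k : Fin 3, i.1 • a + j.1 • b + k.1 • c = 0 → i = 0 ∧ j = 0 ∧ k = 0
theorem Ind.cs {a b c : tA} (h : Ind a b c) : a ≠ 0 ∧ b ∉ [0, a, -a] ∧
    c ∉ [0, a, -a, b, -b, a + b, a + -b, -a + b, -a + -b] := by
  have t : ∀ x : tA, 2 • x = -x := by decide +kernel
  have k : ∀ i j k : Fin 3, i.1 • a + j.1 • b + k.1 • c = 0 → i ≠ 0 ∨ j ≠ 0 ∨ k ≠ 0 → False := fun i j k e e' => by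
    obtain ⟨rfl, rfl, rfl⟩ := h i j k e; simp at e'
  simp only [List.mem_cons, List.not_mem_nil, or_false, not_or]
  exact ⟨fun e => k 1 0 0 (by simp [e]) (by simp), ⟨fun e => k 0 1 0 (by simp [e]) (by simp),
    fun e => k 1 2 0 (by simp [e, t]) (by simp), fun e => k 1 1 0 (by simp [e]) (by simp)⟩,
    fun e => k 0 0 1 (by simp [e]) (by simp), fun e => k 2 0 1 (by simp [e, t]) (by simp),
    fun e => k 1 0 1 (by simp [e]) (by simp), fun e => k 0 2 1 (by simp [e, t]) (by simp),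
    fun e => k 0 1 1 (by simp [e]) (by simp), fun e => k 2 2 1 (by simp [e, t]; abel) (by simp),
    fun e => k 2 1 1 (by simp [e, t]; abel) (by simp), fun e => k 1 2 1 (by simp [e, t]; abel) (by simp),
    fun e => k 1 1 1 (by simp [e]; abel) (by simp)⟩
theorem mono1' : ∀ a, a ≠ 0 → ¬ W3 a → ∀ b, b ∉ [0, a, -a] → ¬ W3 b → ¬ W3 (a + b) → ¬ W3 (a + -b) → ∀ c, ¬ W3 c →
    ¬ W3 (a + c) → ¬ W3 (a + -c) → ¬ W3 (b + c) → ¬ W3 (b + -c) →
    c ∉ [0, a, -a, b, -b, a + b, a + -b, -a + b, -a + -b] →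
    ∃ w ∈ monoW, w.foldr ma a = (1, 0, 0) ∧ w.foldr ma b = (0, 1, 0) ∧ w.foldr ma c = (0, 0, 1) := by decide +kernel
theorem mono2' : ∀ a, ¬ W3 a → ∀ b, ¬ W3 b → W3 (a + b) → W3 (a + -b) → ∀ c, ¬ W3 c → W3 (a + c) → W3 (a + -c) →
    c ∉ [0, a, -a, b, -b, a + b, a + -b, -a + b, -a + -b] →
    ∃ w ∈ monoW, w.foldr ma a = (1, 0, 0) ∧ w.foldr ma b = (0, 1, 1) ∧ w.foldr ma c = (0, 1, 2) := by decide +kernel
theorem mono1 {a b c : tA} (h : Ind a b c) (h1 : ¬ W3 a) (h2 : ¬ W3 b) (h3 : ¬ W3 c) (h4 : ¬ W3 (a + b))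
    (h5 : ¬ W3 (a + -b)) (h6 : ¬ W3 (a + c)) (h7 : ¬ W3 (a + -c)) (h8 : ¬ W3 (b + c)) (h9 : ¬ W3 (b + -c)) :
    ∃ g : Sp, g * dA a * g⁻¹ = d1 ∧ g * dA b * g⁻¹ = d2 ∧ g * dA c * g⁻¹ = d3 := by
  obtain ⟨w, -, k1, k2, k3⟩ := mono1' a h.cs.1 h1 b h.cs.2.1 h2 h4 h5 c h3 h6 h7 h8 h9 h.cs.2.2
  exact ⟨_, by rw [mw_conj, k1, dA1], by rw [mw_conj, k2, dA2], by rw [mw_conj, k3, dA3]⟩
theorem mono2 {a b c : tA} (h : Ind a b c) (h1 : ¬ W3 a) (h2 : ¬ W3 b) (h3 : ¬ W3 c) (h4 : W3 (a + b))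
    (h5 : W3 (a + -b)) (h6 : W3 (a + c)) (h7 : W3 (a + -c)) :
    ∃ g : Sp, g * dA a * g⁻¹ = d1 ∧ g * dA b * g⁻¹ = dA (0, 1, 1) ∧ g * dA c * g⁻¹ = dA (0, 1, 2) := by
  obtain ⟨w, -, k1, k2, k3⟩ := mono2' a h1 b h2 h4 h5 c h3 h6 h7 h.cs.2.2
  exact ⟨_, by rw [mw_conj, k1, dA1], by rw [mw_conj, k2], by rw [mw_conj, k3]⟩

/-- three commuting independent elements of order three -/
structure Tri {G : Type*} [Group G] (x y w : G) : Prop where
  x3 : x ^ 3 = 1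
  y3 : y ^ 3 = 1
  w3 : w ^ 3 = 1
  xy : Commute x y
  xw : Commute x w
  yw : Commute y w
  ind : ∀ i j k : Fin 3, x ^ i.1 * y ^ j.1 * w ^ k.1 = 1 → i = 0 ∧ j = 0 ∧ k = 0

theorem zp3' {G : Type*} [Group G] [Finite G] {x y : G} (x3 : x ^ 3 = 1) (h : y ∈ zpowers x) :
    ∃ i : Fin 3, y = x ^ i.1 := by
  rcases zp3 x3 h with rfl | rfl | rfl
  exacts [⟨0, by simp⟩, ⟨1, by simp⟩, ⟨2, inv_eq_of_mul_eq_one_right (by rw [← pow_succ', ← x3]; rfl)⟩]

theorem Tri.card {G : Type*} [Group G] [Finite G] {x y w : G} (h : Tri x y w) :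
    #(zpowers x ⊔ zpowers y ⊔ zpowers w) = 27 ∧ Ab (zpowers x ⊔ zpowers y ⊔ zpowers w) := by
  have c : ∀ {a b : G}, Commute a b → zpowers b ≤ C(zpowers a) := fun e => by
    rw [cent_zpowers]; exact zpowers_le.2 (mem_cent1.2 e.symm)
  have c3 := cents_sup (c h.xw) (c h.yw)
  have w2 : w ^ (2 : Fin 3).1 = w⁻¹ := eq_inv_of_mul_eq_one_left (by rw [← pow_succ, ← h.w3]; rfl)
  have y2 : y ^ (2 : Fin 3).1 = y⁻¹ := eq_inv_of_mul_eq_one_left (by rw [← pow_succ, ← h.y3]; rfl)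
  refine ⟨?_, comm_sup (comm_sup (comm_zpowers _) (comm_zpowers _) (cents_symm (c h.xy))) (comm_zpowers _)
    (cents_symm c3)⟩
  rw [card_sup_zp h.w3 _ (zpowers_le.1 (norms_of_cents c3)), card_sup_zp h.y3 _ (zpowers_le.1 (norms_of_cents (c h.xy))),
    card_zp h.x3 fun e => by simpa using h.ind 1 0 0 (by simp [e])]
  · intro e
    obtain ⟨i, e⟩ := zp3' h.x3 e
    simpa using (h.ind i 2 0 (by rw [y2, ← e]; simp)).2.1
  · intro e
    obtain ⟨a, ha, b, hb, e⟩ := (mem_sup_of_norm (norms_of_cents (c h.xy))).1 e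
    obtain ⟨i, rfl⟩ := zp3' h.x3 ha
    obtain ⟨j, rfl⟩ := zp3' h.y3 hb
    simpa using (h.ind i j 2 (by rw [w2, e]; simp)).2.2

theorem Tri.conjA {x y w : Sp} (h : Tri x y w) : ∃ g a b c, g * x * g⁻¹ = dA a ∧ g * y * g⁻¹ = dA b ∧
    g * w * g⁻¹ = dA c ∧ Ind a b c ∧ ∀ l, Commute l x → Commute l y → Commute l w → g * l * g⁻¹ ∈ AM := by
  obtain ⟨c27, ab⟩ := h.card
  obtain ⟨g, e⟩ := conj27 ab (PiN.of_card_pow (k := 3) p3 c27) c27
  obtain ⟨a, ha⟩ : g * x * g⁻¹ ∈ AM := e ▸ conj_mem_cj.2 (mem_sup_left (mem_sup_left (mem_zpowers _)))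
  obtain ⟨b, hb⟩ : g * y * g⁻¹ ∈ AM := e ▸ conj_mem_cj.2 (mem_sup_left (mem_sup_right (mem_zpowers _)))
  obtain ⟨c, hc⟩ : g * w * g⁻¹ ∈ AM := e ▸ conj_mem_cj.2 (mem_sup_right (mem_zpowers _))
  refine ⟨g, a, b, c, ha.symm, hb.symm, hc.symm, fun i j k e' => h.ind i j k ?_, fun l l1 l2 l3 => ?_⟩
  · have := congrArg dA e'
    rw [dA_add, dA_add, dA_nsmul, dA_nsmul, dA_nsmul, ha, hb, hc, dA_zero, conj_pow, conj_pow, conj_pow, conj_mul,
      conj_mul, conj_eq_one_iff] at this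
    exact this
  · have : g * l * g⁻¹ ∈ C(AM) := by
      rw [← e, ← cj_cent, conj_mem_cj, cent_sup, cent_sup, cent_zpowers, cent_zpowers, cent_zpowers]
      exact ⟨⟨mem_cent1.2 l1, mem_cent1.2 l2⟩, mem_cent1.2 l3⟩
    obtain ⟨t, e⟩ := centA (mem_cent.1 this _ ⟨_, dA1⟩).symm (mem_cent.1 this _ ⟨_, dA2⟩).symm
      (mem_cent.1 this _ ⟨_, dA3⟩).symm
    exact ⟨t, e.symm⟩

theorem Tri.inv {x y w l : Sp} (h : Tri x y w) (ll : l * l = 1) (l1 : Commute l x) (l2 : Commute l y)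
    (l3 : Commute l w) : l = 1 := by
  obtain ⟨g, -, -, -, -, -, -, -, k⟩ := h.conjA
  obtain ⟨t, e⟩ := k l l1 l2 l3
  exact eq_one23 ll (by have := dA_cube t; rwa [e, conj_pow, conj_eq_one_iff] at this)

end H26.SX
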