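/-
S3159: more facts about the model of `Sp₆(2)` (copies of lemmas of `H23.F4`, with light imports).
-/
import Cfsg.Agent.H26.SXA

set_option autoImplicit false
set_option synthInstance.maxSize 4096
set_option synthInstance.maxHeartbeats 200000
set_option linter.unusedSectionVars false

open Cfsg Subgroup H19 H23.F4 Pointwise
open scoped commutatorElement
namespace H26.SX

variable {G : Type*} [Group G] [Finite G] {r r' s s' x y z w : G} {φ ψ : Sp →* G} {K K' W S : Subgroup G}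

/-- a frame homomorphism twisted by an inner automorphism -/
def cf (φ : Sp →* G) (k : Sp) : Sp →* G := φ.comp (MulAut.conj k).toMonoidHom
theorem cf_apply (φ : Sp →* G) (k g : Sp) : cf φ k g = φ (k * g * k⁻¹) := rfl
theorem cf_T (φ : Sp →* G) (k : Sp) (p : V) : cf φ k (T p) = φ (T (k • p)) := by rw [cf_apply, conj_T]
theorem cf_X (φ : Sp →* G) (k : Sp) (p q : V) : cf φ k (X p q) = φ (X (k • p) (k • q)) := by rw [cf_apply, conj_X]
theorem cf_eq {k g g' : Sp} (e : k * g * k⁻¹ = g') : cf φ k g = φ g' := by rw [cf_apply, e]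
theorem cf_inv {k g g' : Sp} (e : k * g * k⁻¹ = g') : cf φ k⁻¹ g' = φ g := by rw [cf_apply, ← e]; group

theorem comm_map (inj : Function.Injective φ) {a b : Sp} : Commute (φ a) (φ b) ↔ Commute a b :=
  ⟨fun h => inj (by rw [map_mul, map_mul]; exact h), fun h => h.map φ⟩
theorem Tri.of_map (inj : Function.Injective φ) {a b c : Sp} (h : Tri (φ a) (φ b) (φ c)) : Tri a b c :=
  ⟨inj (by rw [map_pow, h.x3, map_one]), inj (by rw [map_pow, h.y3, map_one]), inj (by rw [map_pow, h.w3, map_one]),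
    (comm_map inj).1 h.xy, (comm_map inj).1 h.xw, (comm_map inj).1 h.yw,
    fun i j k e => h.ind i j k (by simpa using congrArg φ e)⟩
theorem Tri.swap (h : Tri x y w) : Tri y x w :=
  ⟨h.y3, h.x3, h.w3, h.xy.symm, h.yw, h.xw, fun i j k e =>
    let ⟨a, b, c⟩ := h.ind j i k (by rw [← e, (h.xy.pow_pow _ _).eq]); ⟨b, a, c⟩⟩

theorem refl_gen {y n a b c : Sp} {D : tA → Sp}
    (cen : ∀ {g}, Commute g a → Commute g b → Commute g c → ∃ t, g = D t) (yy : y * y = 1) (nn : n * n = 1)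
    (ya : y * a * y⁻¹ = n * a * n⁻¹) (yb : y * b * y⁻¹ = n * b * n⁻¹) (yc : y * c * y⁻¹ = n * c * n⁻¹) :
    ∃ t, y = n * D t ∧ n * D t * (n * D t) = 1 := by
  have k : ∀ {a}, y * a * y⁻¹ = n * a * n⁻¹ → Commute (n⁻¹ * y) a := fun {a} e => by
    rw [commute_iff_eq, ← mul_inv_eq_iff_eq_mul]
    calc _ = n⁻¹ * (y * a * y⁻¹) * n := by group
      _ = _ := by rw [e]; group
  obtain ⟨t, e⟩ := cen (k ya) (k yb) (k yc)
  have : y = n * D t := by rw [← e]; group
  exact ⟨t, this, this ▸ yy⟩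

theorem cjc {a b : Sp} (h : Commute a b) : a * b * a⁻¹ = b := by rw [h.eq, mul_inv_cancel_right]
theorem refl1 {y : Sp} (yy : y * y = 1) (h1 : y * d1 * y⁻¹ = d1⁻¹) (h2 : Commute y d2) (h3 : Commute y d3) :
    ∃ i, ∀ j l, dA (i, j, l) * T e1 * (dA (i, j, l))⁻¹ = y := by
  obtain ⟨t, rfl, e⟩ := refl_gen centA yy (T_mul_self e1) (h1.trans (by decide +kernel))
    ((cjc h2).trans (by decide +kernel)) ((cjc h3).trans (by decide +kernel))
  revert t; decide +kernel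
theorem refl2 {y : Sp} (yy : y * y = 1) (h1 : Commute y d1) (h2 : y * d2 * y⁻¹ = d2⁻¹) (h3 : Commute y d3) :
    ∃ j, ∀ i l, dA (i, j, l) * T e2 * (dA (i, j, l))⁻¹ = y := by
  obtain ⟨t, rfl, e⟩ := refl_gen centA yy (T_mul_self e2) ((cjc h1).trans (by decide +kernel))
    (h2.trans (by decide +kernel)) ((cjc h3).trans (by decide +kernel))
  revert t; decide +kernel
theorem refl3 {y : Sp} (yy : y * y = 1) (h1 : Commute y d1) (h2 : Commute y d2) (h3 : y * d3 * y⁻¹ = d3⁻¹) :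
    ∃ l, ∀ i j, dA (i, j, l) * T e3 * (dA (i, j, l))⁻¹ = y := by
  obtain ⟨t, rfl, e⟩ := refl_gen centA yy (T_mul_self e3) ((cjc h1).trans (by decide +kernel))
    ((cjc h2).trans (by decide +kernel)) (h3.trans (by decide +kernel))
  revert t; decide +kernel

theorem T_match (i1 : Function.Injective φ) (i2 : Function.Injective ψ) {u p b c : V} (e : ψ (T u) = φ (T p))
    (e' : ψ (T b) = φ (T c)) : ω u b = ω p c := by
  have : ω u b = false ↔ ω p c = false := by rw [← comm_TT, ← comm_TT, ← comm_map i2, ← comm_map i1, e, e']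
  cases h : ω u b <;> cases h' : ω p c <;> simp_all
theorem eq_of_ω {u p : V} (h1 : ω u e1 = ω p e1) (h2 : ω u f1 = ω p f1) (h3 : ω u e2 = ω p e2) (h4 : ω u f2 = ω p f2)
    (h5 : ω u e3 = ω p e3) (h6 : ω u f3 = ω p f3) : u = p :=
  add_eq_zero_v.1 (nondeg6 _ (by simp [h1]) (by simp [h2]) (by simp [h3]) (by simp [h4]) (by simp [h5]) (by simp [h6]))
theorem T_zero : T 0 = 1 := by decide +kernel
theorem inv_inv' {a b : G} (aa : a * a = 1) (bb : b * b = 1) : a * (a * b) * a⁻¹ = (a * b)⁻¹ := by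
  rw [← mul_assoc, aa, mul_inv_rev, inv_eq_of_mul_eq_one_right bb, one_mul]
theorem mapT (p : V) : φ (T p) * φ (T p) = 1 := by rw [← map_mul, T_mul_self, map_one]

def sx : Sp := X e2 f3
def sx' : Sp := X e3 f2
def al : Sp := X e1 f2
def al' : Sp := X e2 f1

/-! ### tuples of basis images -/

abbrev M6 := V × V × V × V × V × V
def tup (g : Sp) : M6 := (g • e1, g • f1, g • e2, g • f2, g • e3, g • f3)
def ap (m : M6) (v : V) : V := lin m.1 m.2.1 m.2.2.1 m.2.2.2.1 m.2.2.2.2.1 m.2.2.2.2.2 v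
def cmp (m n : M6) : M6 := (ap m n.1, ap m n.2.1, ap m n.2.2.1, ap m n.2.2.2.1, ap m n.2.2.2.2.1, ap m n.2.2.2.2.2)
def sq6 (m : M6) : M6 := cmp m m
theorem ap_tup (g : Sp) (v : V) : ap (tup g) v = g • v := (ap_lin g v).symm
theorem tup_mul (g h : Sp) : tup (g * h) = cmp (tup g) (tup h) := by
  simp only [cmp, ap_tup]; simp only [tup, mul_smul]
theorem tup_sq (g : Sp) : tup (g ^ 2) = sq6 (tup g) := by rw [pow_two, tup_mul, sq6]
theorem tup_inj {g h : Sp} (e : tup g = tup h) : g = h := by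
  simp only [tup, Prod.mk.injEq] at e
  exact ext6 e.1 e.2.1 e.2.2.1 e.2.2.2.1 e.2.2.2.2.1 e.2.2.2.2.2
def fx6 (m : M6) : ℕ := (vs.filter fun v => ap m v = v).length
theorem fx6_tup (g : Sp) : fx6 (tup g) = fx g := by simp only [fx6, ap_tup, fx]
theorem cm {g k : Sp} (h : Commute g k) (v : V) : k • g • v = g • k • v := by rw [← mul_smul, ← h.eq, mul_smul]
theorem cm_fix {g k : Sp} (h : Commute g k) {v : V} (e : k • v = v) : k • g • v = g • v := by rw [cm h, e]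
theorem cm_eq {g k : Sp} (h : Commute g k) {v u : V} (e : k • v = u) : g • u = k • g • v := by rw [cm h, e]
theorem cm_add {g k : Sp} (h : Commute g k) {v u : V} (e : k • v = v + u) : k • g • v = g • v + g • u := by
  rw [cm h, e, smul_add]
theorem inv_smul2 {y : Sp} (yy : y * y = 1) (v : V) : y • y • v = v := by rw [← mul_smul, yy, one_smul]

/-- an involution commuting with `T a * T b` fixes the hyperbolic plane -/
theorem inv_pl {y : Sp} {a b : V} (ab : ω a b = true) (yy : y * y = 1) (c : Commute y (T a * T b)) :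
    y • a = a ∧ y • b = b := by
  obtain ⟨g, rfl, rfl⟩ := ex_hyp ab
  have c' : Commute (g⁻¹ * y * g) d1 := by
    have := c.map (MulAut.conj g⁻¹).toMonoidHom
    rw [← conj_T, ← conj_T, conj_mul] at this
    simpa [mul_assoc, d1] using this
  have yy' : g⁻¹ * y * g * (g⁻¹ * y * g) = 1 := by
    calc _ = g⁻¹ * (y * y) * g := by group
      _ = 1 := by rw [yy]; group
  suffices g⁻¹ * y * g ∈ MulAction.stabilizer Sp e1 ∧ g⁻¹ * y * g ∈ MulAction.stabilizer Sp f1 by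
    simpa [mul_smul, inv_smul_eq_iff] using this
  generalize g⁻¹ * y * g = z at *
  have h1 := cm_eq c' (show d1 • e1 = f1 by decide +kernel)
  have h2 : z • e1 + d1 • z • e1 + d1 • d1 • z • e1 = 0 := by
    rw [cm c', cm c', ← smul_add, ← smul_add, show e1 + d1 • e1 + d1 • d1 • e1 = 0 by decide +kernel, smul_zero]
  have h3 := inv_smul2 yy' e1
  have h4 := (by decide +kernel : ∀ u : V, u + d1 • u + d1 • d1 • u = 0 → u = 0 ∨ u = e1 ∨ u = f1 ∨ u = e1 + f1) _ h2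
  have : z • e1 = e1 := by
    rcases h4 with e | e | e | e
    · exact (smul_ne_zero_v (by decide) e).elim
    · exact e
    · rw [e, h1, e] at h3; exact absurd h3 (by decide +kernel)
    · rw [e, smul_add, h1, e] at h3; exact absurd h3 (by decide +kernel)
  exact ⟨this, h1.trans (by rw [this]; decide +kernel)⟩

theorem fx_d3 {m : Sp} (m1 : m • e3 = e3) (m2 : m • f3 = f3) (j : Fin 3) (j0 : j ≠ 0) :
    fx (d3 ^ j.1 * m) * 4 = fx m := by
  have k : ∀ v, (d3 ^ j.1 * m) • v = v ↔ m • v = v ∧ ω v e3 = false ∧ ω v f3 = false := fun v => by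
    rw [mul_smul]
    exact (by decide +kernel : ∀ j : Fin 3, j ≠ 0 → ∀ u v : V, ω u e3 = ω v e3 → ω u f3 = ω v f3 →
      (d3 ^ j.1 • u = v ↔ u = v ∧ ω v e3 = false ∧ ω v f3 = false)) j j0 _ _
      (by conv_lhs => rw [← m1, ω_smul]) (by conv_lhs => rw [← m2, ω_smul])
  rw [fx_eq, fx_eq, show 4 = Nat.card (Bool × Bool) by simp, ← Nat.card_prod]
  have a : ω e3 f3 = true := rfl
  have b : ω f3 e3 = true := rfl
  refine Nat.card_congr ⟨fun x => ⟨x.1.1 + sc x.2.1 e3 + sc x.2.2 f3, by simp [m1, m2, ((k _).1 x.1.2).1]⟩,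
    fun v => (⟨v.1 + sc (ω v f3) e3 + sc (ω v e3) f3, (k _).2 ⟨by simp [m1, m2, v.2], by simp [b], by simp [a]⟩⟩,
      ω v f3, ω v e3), fun ⟨⟨v, hv⟩, s, t⟩ => ?_, fun v => Subtype.ext ?_⟩
  · obtain ⟨-, h1, h2⟩ := (k _).1 hv
    simp only [ω_add_left, ω_sc_left, ω_self, a, b, h1, h2, Bool.and_true, Bool.and_false, Bool.xor_false,
      Bool.false_xor, Prod.mk.injEq, Subtype.mk.injEq, and_true]
    rw [add_assoc, add_assoc, add_assoc, ← add_assoc (sc s e3), add_self, add_zero]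
  · simp only
    rw [add_assoc, add_assoc, add_assoc, ← add_assoc (sc _ e3), add_self, add_zero]

/-! ### the second torus -/

def ux : Sp := X e2 e3
def ux' : Sp := X f2 f3
def σ : Sp := sx * sx'
def τ : Sp := ux * ux'
def k0 : Sp := T e3 * T (e2 + f2 + f3)
def dB (t : tA) : Sp := d1 ^ t.1.1 * σ ^ t.2.1.1 * τ ^ t.2.2.1
theorem centB {g : Sp} (h1 : Commute g d1) (h2 : Commute g σ) (h3 : Commute g τ) : ∃ t, g = dB t := by
  have k : ∀ {a b : Sp}, k0⁻¹ * a * k0 = b → Commute g a → Commute (k0⁻¹ * g * k0) b := fun e h => by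
    simpa [← e] using h.map (MulAut.conj k0⁻¹).toMonoidHom
  have a1 := k (b := d1) (by decide +kernel) h1
  have a2 := k (b := dA (0, 1, 1)) (by decide +kernel) h2
  have a3 := k (b := dA (0, 1, 2)) (by decide +kernel) h3
  obtain ⟨t, e⟩ := centA a1
    ((show dA (0, 1, 1) ^ 2 * dA (0, 1, 2) ^ 2 = d2 by decide +kernel) ▸ (a2.pow_right 2).mul_right (a3.pow_right 2))
    ((show dA (0, 1, 1) ^ 2 * dA (0, 1, 2) = d3 by decide +kernel) ▸ (a2.pow_right 2).mul_right a3)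
  obtain ⟨t', e'⟩ := (by decide +kernel : ∀ t, ∃ t', k0 * dA t * k0⁻¹ = dB t') t
  exact ⟨t', by rw [← e', ← e]; group⟩
theorem reflB1 {y : Sp} (yy : y * y = 1) (h1 : y * d1 * y⁻¹ = d1⁻¹) (h2 : Commute y σ) (h3 : Commute y τ) :
    ∃ i, ∀ j l, dB (i, j, l) * T e1 * (dB (i, j, l))⁻¹ = y := by
  obtain ⟨t, rfl, e⟩ := refl_gen centB yy (T_mul_self e1) (h1.trans (by decide +kernel))
    ((cjc h2).trans (by decide +kernel)) ((cjc h3).trans (by decide +kernel))
  revert t; decide +kernel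
theorem reflB2 {y : Sp} (yy : y * y = 1) (h1 : Commute y d1) (h2 : y * σ * y⁻¹ = σ⁻¹) (h3 : Commute y τ) :
    ∃ j, ∀ i l, dB (i, j, l) * sx * (dB (i, j, l))⁻¹ = y := by
  obtain ⟨t, rfl, e⟩ := refl_gen centB yy (n := sx) (by decide +kernel) ((cjc h1).trans (by decide +kernel))
    (h2.trans (by decide +kernel)) ((cjc h3).trans (by decide +kernel))
  revert t; decide +kernel
theorem reflB3 {y : Sp} (yy : y * y = 1) (h1 : Commute y d1) (h2 : Commute y σ) (h3 : y * τ * y⁻¹ = τ⁻¹) :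
    ∃ l, ∀ i j, dB (i, j, l) * ux * (dB (i, j, l))⁻¹ = y := by
  obtain ⟨t, rfl, e⟩ := refl_gen centB yy (n := ux) (by decide +kernel) ((cjc h1).trans (by decide +kernel))
    ((cjc h2).trans (by decide +kernel)) (h3.trans (by decide +kernel))
  revert t; decide +kernel

theorem map_sq {g : Sp} (h : g * g = 1) : φ g * φ g = 1 := by rw [← map_mul, h, map_one]

/-! ### subgroups of order nine -/

abbrev tB := Fin 3 × Fin 3
def bB (a b : G) (t : tB) : G := a ^ t.1.1 * b ^ t.2.1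
def Ax (t : tB) : Prop := t.1 = 0 ∨ t.2 = 0
instance (t : tB) : Decidable (Ax t) := by unfold Ax; infer_instance
def lm (u v t : tB) : tB := t.1.1 • u + t.2.1 • v

theorem pow_fin {a : G} (a3 : a ^ 3 = 1) (i j : Fin 3) : a ^ (i + j).1 = a ^ i.1 * a ^ j.1 := by
  rw [← pow_add, Fin.val_add, ← pow_eq_pow_mod _ a3]
theorem bB_add {a b : G} (a3 : a ^ 3 = 1) (b3 : b ^ 3 = 1) (ab : Commute a b) (s t : tB) :
    bB a b (s + t) = bB a b s * bB a b t := by
  simp only [bB, Prod.fst_add, Prod.snd_add, pow_fin a3, pow_fin b3, mul_assoc]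
  rw [← mul_assoc (a ^ t.1.1), (ab.pow_pow _ _).eq, mul_assoc]
theorem bB_nsmul {a b : G} (a3 : a ^ 3 = 1) (b3 : b ^ 3 = 1) (ab : Commute a b) (n : ℕ) (t : tB) :
    bB a b (n • t) = bB a b t ^ n := by
  induction n with
  | zero => simp [bB]
  | succ n ih => rw [succ_nsmul, bB_add a3 b3 ab, ih, pow_succ]
theorem mem_bB {a b : G} (a3 : a ^ 3 = 1) (b3 : b ^ 3 = 1) (ab : Commute a b) (hx : x ∈ zpowers a ⊔ zpowers b) :
    ∃ t, x = bB a b t := by
  obtain ⟨u, hu, v, hv, rfl⟩ := (mem_sup_of_norm (zpowers_le.2 (cent1_le_norm_zpowers a (mem_cent1.2 ab.symm)))).1 hx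
  obtain ⟨i, rfl⟩ := zp3' a3 hu
  obtain ⟨j, rfl⟩ := zp3' b3 hv
  exact ⟨(i, j), rfl⟩
theorem card_bB {a b : G} (a3 : a ^ 3 = 1) (b3 : b ^ 3 = 1) (ab : Commute a b) (ind : ∀ t, bB a b t = 1 → t = 0) :
    #(zpowers a ⊔ zpowers b) = 9 := by
  rw [card_sup_zp b3 _ (cent1_le_norm_zpowers a (mem_cent1.2 ab.symm)),
    card_zp a3 fun e => by simpa using ind (1, 0) (by simp [bB, e])]
  intro e
  obtain ⟨i, e⟩ := zp3' a3 e
  simpa using ind (i, 2) (by rw [bB, ← e, ← pow_succ', ← b3]; rfl)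

theorem lin8 {a b k : G} (a3 : a ^ 3 = 1) (b3 : b ^ 3 = 1) (ab : Commute a b) (ind : ∀ t, bB a b t = 1 → t = 0)
    (hn : k ∈ N(zpowers a ⊔ zpowers b)) (ε : Bool)
    (h : ∀ t t' : tB, t ≠ 0 → t' ≠ 0 → k * bB a b t * k⁻¹ = bB a b t' → (Ax t ↔ (Ax t' ↔ ε = true))) :
    Commute (k ^ 8) a ∧ Commute (k ^ 8) b := by
  obtain ⟨u, hu⟩ := mem_bB a3 b3 ab (conj_mem_of_norm hn (mem_sup_left (mem_zpowers a)))
  obtain ⟨v, hv⟩ := mem_bB a3 b3 ab (conj_mem_of_norm hn (mem_sup_right (mem_zpowers b)))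
  have e : ∀ t, k * bB a b t * k⁻¹ = bB a b (lm u v t) := fun t => by
    rw [lm, bB_add a3 b3 ab, bB_nsmul a3 b3 ab, bB_nsmul a3 b3 ab, ← hu, ← hv, conj_pow, conj_pow, conj_mul]; rfl
  have z : ∀ t, t ≠ 0 → lm u v t ≠ 0 := fun t t0 e' => t0 (ind t (by
    have := e t; rwa [e', show bB a b 0 = 1 by simp [bB], conj_eq_one_iff] at this))
  have en : ∀ n t, k ^ n * bB a b t * (k ^ n)⁻¹ = bB a b ((lm u v)^[n] t) := fun n => by
    induction n with
    | zero => simp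
    | succ n ih => intro t; rw [Function.iterate_succ_apply', ← e, ← ih, pow_succ']; group
  have := (by decide +kernel : ∀ (u v : tB) (ε : Bool), (∀ t, t ≠ 0 → lm u v t ≠ 0) →
    (∀ t, t ≠ 0 → (Ax t ↔ (Ax (lm u v t) ↔ ε = true))) → ∀ t, (lm u v)^[8] t = t) u v ε z
    fun t t0 => h t _ t0 (z t t0) (e t)
  have k1 := en 8 (1, 0)
  have k2 := en 8 (0, 1)
  rw [this, mul_inv_eq_iff_eq_mul] at k1 k2
  exact ⟨by simpa [bB, commute_iff_eq] using k1, by simpa [bB, commute_iff_eq] using k2⟩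

/-- power by a bit -/
def rb (r : G) (b : Bool) : G := bif b then r else 1
@[simp] theorem rb_true : rb r true = r := rfl
@[simp] theorem rb_false : rb r false = 1 := rfl
theorem rb_comm (h : Commute x r) (b : Bool) : Commute x (rb r b) := by
  cases b; exacts [Commute.one_right x, h]
theorem map_Tb (φ : Sp →* G) (b : Bool) (p : V) : φ (Tb b p) = rb (φ (T p)) b := by cases b <;> simp [Tb]

theorem mem_of_cop {G : Type*} [Group G] [Finite G] {S : Subgroup G} {x : G} {n : ℕ} (hc : n.Coprime (orderOf x))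
    (h : x ^ n ∈ S) : x ∈ S := by
  obtain ⟨m, e⟩ := exists_pow_eq_self_of_coprime hc
  exact e ▸ pow_mem h m
theorem mem_of_cube {G : Type*} [Group G] [Finite G] {S : Subgroup G} {x : G} (hx : PiE {3}ᶜ x) (h : x ^ 3 ∈ S) :
    x ∈ S := mem_of_cop (hx.coprime_prime p3).symm h
theorem mem_of35 {G : Type*} [Group G] [Finite G] {S : Subgroup G} {x : G} {n : ℕ} (hx : x ^ 35 = 1)
    (hn : n.Coprime 35) (h : x ^ n ∈ S) : x ∈ S := mem_of_cop (hn.coprime_dvd_right (orderOf_dvd_of_pow_eq_one hx)) h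

theorem tri3 {G X : Type*} [Group G] [Finite G] [MulAction G X] {Q : Subgroup G} (hQ : PiG {3}ᶜ Q) {t : G}
    (ht : t ∈ N(Q)) {x y z : X} (xy : t • x = y) (yz : t • y = z) (zx : t • z = x) (n : x ≠ y)
    (h : ∀ g ∈ Q, g • x = x ∨ g • x = y ∨ g • x = z) : ∀ g ∈ Q, g • x = x := by
  have n1 : y ≠ z := fun e => n (by rw [← zx, ← e, yz, e])
  have n2 : x ≠ z := fun e => n (by rw [← xy, e, zx, e])
  intro g hg
  by_contra ne
  have k : (∃ a ∈ Q, a • x = y) ∧ ∃ a ∈ Q, a • x = z := by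
    have c := conj_mem_of_norm ht hg
    rcases (h g hg).resolve_left ne with e | e
    · exact ⟨⟨g, hg, e⟩, _, mul_mem c hg, by rw [mul_smul, e, ← xy, mul_smul, inv_smul_smul, mul_smul, e, yz]⟩
    · exact ⟨⟨_, inv_mem c, by rw [inv_smul_eq_iff, ← xy, mul_smul, inv_smul_smul, mul_smul, e, zx]⟩, g, hg, e⟩
  have o : MulAction.orbit Q x = {x, y, z} := Set.ext fun v => ⟨fun ⟨a, e⟩ => e ▸ h a a.2, by
    obtain ⟨⟨a, ha, e1⟩, b, hb, e2⟩ := k
    rintro (rfl | rfl | rfl)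
    exacts [MulAction.mem_orbit_self _, ⟨⟨a, ha⟩, e1⟩, ⟨⟨b, hb⟩, e2⟩]⟩
  have := (MulAction.stabilizer Q x).index_dvd_card
  rw [MulAction.index_stabilizer, o, Set.ncard_eq_three.2 ⟨x, y, z, n, n2, n1, rfl⟩] at this
  exact hQ.not_dvd p3 rfl this

theorem perm3 {G X : Type*} [Group G] [MulAction G X] {g : G} {x y z : X} (h1 : g • x = x ∨ g • x = y ∨ g • x = z)
    (h2 : g • y = x ∨ g • y = y ∨ g • y = z) (h3 : g • z = x ∨ g • z = y ∨ g • z = z) : g ^ 6 • x = x := by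
  have k : ∀ n, g ^ n • x = x ∨ g ^ n • x = y ∨ g ^ n • x = z := fun n => by
    induction n with
    | zero => simp
    | succ n ih => rw [pow_succ', mul_smul]; rcases ih with e | e | e <;> rwa [e]
  have d : ∀ a b, g ^ a • x = g ^ (a + b) • x → b ∣ 6 → g ^ 6 • x = x := fun a b e ⟨c, hc⟩ => by
    rw [pow_add, mul_smul, smul_left_cancel_iff] at e
    rw [hc, pow_mul]; exact pow_mem (show g ^ b ∈ MulAction.stabilizer G x from e.symm) c
  have k0 : g ^ 0 • x = x := by simp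
  rcases k 1 with a | a | a <;> rcases k 2 with b | b | b <;> rcases k 3 with c | c | c <;>
  first
  | exact d 0 1 (k0.trans a.symm) (by decide) | exact d 0 2 (k0.trans b.symm) (by decide)
  | exact d 0 3 (k0.trans c.symm) (by decide) | exact d 1 1 (a.trans b.symm) (by decide)
  | exact d 1 2 (a.trans c.symm) (by decide) | exact d 2 1 (b.trans c.symm) (by decide)

/-! ### the radical of the stabilizer of a vector -/

theorem Tb_mul (a : V) (b c : Bool) : Tb b a * Tb c a = Tb (xor b c) a := by cases b <;> cases c <;> simp [Tb]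
theorem X_fix {a q : V} (h : ω a q = false) : X a q • a = a := by simp [X_smul h, h]
theorem comm_Tb {g : Sp} {a : V} (h : g • a = a) (b : Bool) : Commute g (Tb b a) := by
  cases b; exacts [Commute.one_right _, comm_T_iff.2 h]
theorem conj_Tb (g : Sp) (b : Bool) (a : V) : g * Tb b a * g⁻¹ = Tb b (g • a) := by cases b <;> simp [Tb, conj_T]
theorem XT_mul {a q q' : V} (h : ω a q = false) (h' : ω a q' = false) (c c' : Bool) :
    X a q * Tb c a * (X a q' * Tb c' a) = X a (q + q') * Tb (xor (ω q q') (xor c c')) a := by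
  rw [mul_assoc, ← mul_assoc (Tb c a), ← (comm_Tb (X_fix h') c).eq, mul_assoc, ← mul_assoc, X_mul h h', Tb_mul,
    mul_assoc, Tb_mul]
theorem XT_sq {a q : V} (h : ω a q = false) (c : Bool) : X a q * Tb c a * (X a q * Tb c a) = 1 := by
  rw [XT_mul h h]; simp [X_zero, Tb]
def Ua (a : V) : Subgroup Sp where
  carrier := {g | ∃ q c, ω a q = false ∧ g = X a q * Tb c a}
  one_mem' := ⟨0, false, by simp, by simp [X_zero, Tb]⟩
  mul_mem' := by rintro _ _ ⟨q, c, h, rfl⟩ ⟨q', c', h', rfl⟩; exact ⟨_, _, by simp [h, h'], XT_mul h h' c c'⟩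
  inv_mem' := by rintro _ ⟨q, c, h, rfl⟩; exact ⟨q, c, h, inv_eq_of_mul_eq_one_right (XT_sq h c)⟩
theorem X_mem {a q : V} (h : ω a q = false) : X a q ∈ Ua a := ⟨q, false, h, (mul_one _).symm⟩
theorem T_memU (a : V) : T a ∈ Ua a := ⟨0, true, by simp, by simp [X_zero, Tb]⟩
theorem Ua_sq {a : V} {g : Sp} (h : g ∈ Ua a) : g * g = 1 := by obtain ⟨q, c, h, rfl⟩ := h; exact XT_sq h c
theorem Ua_comm {a : V} {g k : Sp} (h : g ∈ Ua a) (h' : k ∈ Ua a) : Commute g k := by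
  obtain ⟨q, c, h, rfl⟩ := h
  obtain ⟨q', c', h', rfl⟩ := h'
  rw [commute_iff_eq, XT_mul h h', XT_mul h' h, add_comm, ω_comm, Bool.xor_comm c]
theorem Ua_conj {a : V} {g : Sp} (h : g ∈ Ua a) (k : Sp) : k * g * k⁻¹ ∈ Ua (k • a) := by
  obtain ⟨q, c, h, rfl⟩ := h
  exact ⟨k • q, c, by simpa, by rw [← conj_X, ← conj_Tb, conj_mul]⟩
theorem Ua_norm {a : V} {k : Sp} (h : k • a = a) : k ∈ N(Ua a) := mem_norm_of_cj_le fun _ hx => by
  obtain ⟨g, hg, rfl⟩ := mem_cj'.1 hx; simpa only [h] using Ua_conj hg k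
theorem Ua_ex {a b : V} (ab : ω a b = true) {g : Sp} (h : g ∈ Ua a) :
    ∃ q c, ω q a = false ∧ ω q b = false ∧ g = X a q * Tb c a := by
  obtain ⟨q, c, h, rfl⟩ := h
  have h' : ω q a = false := ω_comm a q ▸ h
  cases e : ω q b
  · exact ⟨q, c, h', e, rfl⟩
  · exact ⟨q + a, c, by simp [h'], by simp [e, ab], by rw [X_add_self h]⟩

def md (a x y : V) : Prop := x = y ∨ x = y + a
instance (a x y : V) : Decidable (md a x y) := by unfold md; infer_instance
def inU (m : M6) : Prop := m.1 = e1 ∧ md e1 m.2.2.1 e2 ∧ md e1 m.2.2.2.1 f2 ∧ md e1 m.2.2.2.2.1 e3 ∧ md e1 m.2.2.2.2.2 f3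
instance (m : M6) : Decidable (inU m) := by unfold inU; infer_instance
theorem mem_U1 {g : Sp} : g ∈ Ua e1 ↔ inU (tup g) := by
  refine ⟨?_, fun ⟨h0, h1, h2, h3, h4⟩ => ?_⟩
  · rintro ⟨q, c, h, rfl⟩; revert q c; decide +kernel
  · have := (by decide +kernel : ∀ c, md e1 c e2 → ∀ d, md e1 d f2 → ∀ e, md e1 e e3 → ∀ f, md e1 f f3 → ∀ x,
      SB e1 x c d e f → ω e1 (x + f1) = false ∧ (e1, x, c, d, e, f) = tup (X e1 (x + f1) * Tb (ω x f1) e1))
      _ h1 _ h2 _ h3 _ h4 (g • f1) (by have := sb_smul g; rwa [show g • e1 = e1 from h0] at this)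
    exact ⟨_, _, this.1, tup_inj (by rw [← this.2, ← show g • e1 = e1 from h0]; rfl)⟩
theorem cent_U1 {g : Sp} (h0 : g • e1 = e1) (h : ∀ q ∈ [e2, f2, e3, f3], Commute g (X e1 q)) : g ∈ Ua e1 := by
  have k : ∀ q ∈ [e2, f2, e3, f3], md e1 (g • q) q := fun q hq =>
    (by decide +kernel : ∀ q ∈ [e2, f2, e3, f3], ∀ u, X e1 u = X e1 q → md e1 u q) q hq _
      (by rw [← h0, ← conj_X, cjc (h q hq), h0])
  exact mem_U1.2 ⟨h0, k _ (by simp), k _ (by simp), k _ (by simp), k _ (by simp)⟩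

/-- forces the evaluation of a number -/
def frn (n : ℕ) (P : V → Prop) : Prop := Nat.casesOn n (P (vv 0)) fun k => P (vv (k + 1))
instance (n : ℕ) (P : V → Prop) [i : DecidablePred P] : Decidable (frn n P) :=
  Nat.casesOn (motive := fun n => Decidable (frn n P)) n (i _) fun _ => i _
theorem frn_iff {v : V} {P : V → Prop} : frn v.1 P ↔ P v := by
  have : frn v.1 P ↔ P (vv v.1) := by cases v.1 <;> rfl
  rwa [show vv v.1 = v from Fin.ext (Nat.mod_eq_of_lt v.2)] at this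
/-- forces the evaluation of a tuple -/
def fc (m : M6) (P : M6 → Prop) : Prop := frn m.1.1 fun a => frn m.2.1.1 fun b => frn m.2.2.1.1 fun c =>
  frn m.2.2.2.1.1 fun d => frn m.2.2.2.2.1.1 fun e => frn m.2.2.2.2.2.1 fun f => P (a, b, c, d, e, f)
instance (m : M6) (P : M6 → Prop) [DecidablePred P] : Decidable (fc m P) := by unfold fc; infer_instance
theorem fc_iff {m : M6} {P : M6 → Prop} : fc m P ↔ P m := by simp only [fc, frn_iff]
/-- the alternative used for `3'`-elements -/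
def Alt (t : Sp) (m : M6) : Prop := fc m fun m => (fc (sq6 m) fun n => inU (cmp m n)) ∨ fc (cmp m (tup t⁻¹)) fun a =>
  fc (cmp (tup t) a) fun b => fc (cmp m b) fun c => ¬ inU c ∧ fc (sq6 c) fun n => inU (cmp c n)
instance (t : Sp) (m : M6) : Decidable (Alt t m) := by unfold Alt; infer_instance
theorem Alt.mem {Q : Subgroup Sp} (hQ : PiG {3}ᶜ Q) {t g : Sp} (ht : t ∈ N(Q)) (hg : g ∈ Q) (h : Alt t (tup g)) :
    g ∈ Ua e1 := by
  simp only [Alt, fc_iff, ← tup_sq, ← tup_mul, ← mem_U1, ← pow_succ', ← mul_assoc t] at h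
  exact h.elim (mem_of_cube (hQ.elt hg)) fun h =>
    (h.1 (mem_of_cube (hQ.elt (mul_mem hg (conj_mem_of_norm ht hg))) h.2)).elim

section
variable {G : Type*} [Group G] [Finite G] {a b : G} (a3 : a ^ 3 = 1) (b3 : b ^ 3 = 1) (ab : Commute a b)
include a3 b3 ab
theorem c4 {d k : G} (hd : d ∈ zpowers a ⊔ zpowers b) (d1 : d ≠ 1) (e : k * d = d * k) :
    Commute k a ∨ Commute k b ∨ Commute k (a * b) ∨ Commute k (a * b⁻¹) := by
  obtain ⟨t, rfl⟩ := mem_bB a3 b3 ab hd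
  have e2 : Commute k (bB a b (2 • t)) := bB_nsmul a3 b3 ab 2 t ▸ Commute.pow_right e 2
  have : ∃ t' ∈ [((1, 0) : tB), (0, 1), (1, 1), (1, 2)], Commute k (bB a b t') :=
    ((by decide : ∀ t : tB, t ≠ 0 → t ∈ [((1, 0) : tB), (0, 1), (1, 1), (1, 2)] ∨
      2 • t ∈ [((1, 0) : tB), (0, 1), (1, 1), (1, 2)]) t fun e => d1 (by simp [e, bB])).elim (⟨_, ·, e⟩) (⟨_, ·, e2⟩)
  rw [inv_eq_of_mul_eq_one_right (show b * b ^ 2 = 1 by rw [← pow_succ', b3])]
  simpa [bB] using this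
theorem ab9 : Ab (zpowers a ⊔ zpowers b) :=
  comm_sup (comm_zpowers _) (comm_zpowers _) (by rw [cent_zpowers]; exact zpowers_le.2 (mem_cent1.2 ab))
theorem ex9 (d : G) (hd : d ∈ zpowers a ⊔ zpowers b) : d ^ 3 = 1 := by
  obtain ⟨t, rfl⟩ := mem_bB a3 b3 ab hd
  rw [← bB_nsmul a3 b3 ab, (by decide : ∀ t : tB, 3 • t = 0)]; simp [bB]
theorem c9 (ind : ∀ t, bB a b t = 1 → t = 0) {K X : Subgroup G} (hK : PiG {3}ᶜ K) (ha : a ∈ N(K)) (hb : b ∈ N(K))
    (h : ∀ k ∈ K, Commute k a ∨ Commute k b ∨ Commute k (a * b) ∨ Commute k (a * b⁻¹) → k ∈ X) : K ≤ X :=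
  gen9 (ab9 a3 b3 ab) (ex9 a3 b3 ab) (card_bB a3 b3 ab ind) hK (sup_le (zpowers_le.2 ha) (zpowers_le.2 hb))
    fun _ hd d1 k hk e => h k hk (c4 a3 b3 ab hd d1 e)
end

theorem le_U1 {Q : Subgroup Sp} (hQ : PiG {3}ᶜ Q) (h0 : ∀ g ∈ Q, g • e1 = e1) (h2 : d2 ∈ N(Q)) (h3 : d3 ∈ N(Q)) :
    Q ≤ Ua e1 := by
  refine c9 (by decide +kernel) (by decide +kernel) (by decide +kernel) (by decide +kernel) hQ h2 h3 fun g hg h => ?_
  have s := sb_smul g
  have t : tup g = (e1, g • f1, g • e2, g • f2, g • e3, g • f3) := by rw [tup, h0 g hg]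
  rw [h0 g hg] at s
  rcases h with c | c | c | c
  · have q := cm_eq c (show d2 • e2 = f2 by decide +kernel)
    rw [q] at s t
    exact Alt.mem hQ h3 hg (t ▸ (by decide +kernel : ∀ x : V, ω e1 x = true → d2 • x = x → ∀ e : V, d2 • e = e →
      Pp [e1, x] e → ∀ f : V, d2 • f = f → ω e f = true → Pp [e1, x] f → ∀ c : V, SB e1 x c (d2 • c) e f →
      Alt d3 (e1, x, c, d2 • c, e, f)) _ s.1 (cm_fix c (by decide +kernel)) _ (cm_fix c (by decide +kernel))
      (by simp_all [SB, Pp, ω_comm (g • e3)]) _ (cm_fix c (by decide +kernel)) (by simp_all [SB])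
      (by simp_all [SB, Pp, ω_comm (g • f3)]) _ s)
  · have q := cm_eq c (show d3 • e3 = f3 by decide +kernel)
    rw [q] at s t
    exact Alt.mem hQ h2 hg (t ▸ (by decide +kernel : ∀ x : V, ω e1 x = true → d3 • x = x → ∀ c : V, d3 • c = c →
      Pp [e1, x] c → ∀ d : V, d3 • d = d → ω c d = true → Pp [e1, x] d → ∀ e : V, SB e1 x c d e (d3 • e) →
      Alt d2 (e1, x, c, d, e, d3 • e)) _ s.1 (cm_fix c (by decide +kernel)) _ (cm_fix c (by decide +kernel))
      (by simp_all [SB, Pp, ω_comm (g • e2)]) _ (cm_fix c (by decide +kernel)) (by simp_all [SB])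
      (by simp_all [SB, Pp, ω_comm (g • f2)]) _ s)
  · have q := cm_eq c (show (d2 * d3) • e2 = f2 by decide +kernel)
    have q' := cm_eq c (show (d2 * d3) • e3 = f3 by decide +kernel)
    rw [q, q'] at s t
    exact Alt.mem hQ h2 hg (t ▸ (by decide +kernel : ∀ x : V, (d2 * d3) • x = x → ∀ c e : V,
      SB e1 x c ((d2 * d3) • c) e ((d2 * d3) • e) → Alt d2 (e1, x, c, (d2 * d3) • c, e, (d2 * d3) • e)) _
      (cm_fix c (by decide +kernel)) _ _ s)
  · have q := cm_eq c (show (d2 * d3⁻¹) • e2 = f2 by decide +kernel)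
    have q' := cm_eq c.inv_right (show (d2 * d3⁻¹)⁻¹ • e3 = f3 by decide +kernel)
    rw [q, q'] at s t
    exact Alt.mem hQ h2 hg (t ▸ (by decide +kernel : ∀ x : V, (d2 * d3⁻¹) • x = x → ∀ c e : V,
      SB e1 x c ((d2 * d3⁻¹) • c) e ((d2 * d3⁻¹)⁻¹ • e) →
      Alt d2 (e1, x, c, (d2 * d3⁻¹) • c, e, (d2 * d3⁻¹)⁻¹ • e)) _ (cm_fix c (by decide +kernel)) _ _ s)

theorem le_Ua {Q : Subgroup Sp} (hQ : PiG {3}ᶜ Q) (k : Sp) (h0 : ∀ g ∈ Q, g • k • e1 = k • e1)
    (h2 : k * d2 * k⁻¹ ∈ N(Q)) (h3 : k * d3 * k⁻¹ ∈ N(Q)) : Q ≤ Ua (k • e1) := fun g hg => by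
  have := Ua_conj (le_U1 (hQ.J k⁻¹) (fun x hx => by
    have := h0 _ (mem_cj_inv.1 hx)
    rwa [mul_smul, inv_smul_smul, mul_smul, smul_left_cancel_iff] at this)
    (by rw [← cj_norm, mem_cj_inv]; exact h2) (by rw [← cj_norm, mem_cj_inv]; exact h3) (conj_mem_cj.2 hg)) k
  simpa [mul_assoc] using this

/-! ### the radical of the stabilizer of the line `⟨e2, f3⟩` -/

def inL (u : V) : Prop := u = 0 ∨ u = e2 ∨ u = f3 ∨ u = e2 + f3
instance (u : V) : Decidable (inL u) := by unfold inL; infer_instance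
theorem inL_add : ∀ {u v}, inL u → inL v → inL (u + v) := by decide +kernel
theorem inL_fix {g : Sp} (h1 : g • e2 = e2) (h2 : g • f3 = f3) {u : V} (h : inL u) : g • u = u := by
  rcases h with rfl | rfl | rfl | rfl <;> simp [smul_add, h1, h2]
def On : Subgroup Sp where
  carrier := {g | g • e2 = e2 ∧ g • f3 = f3 ∧ inL (g • e1 + e1) ∧ inL (g • f1 + f1)}
  one_mem' := by simp [inL]
  mul_mem' := fun {g k} ⟨a, b, c, d⟩ ⟨a', b', c', d'⟩ =>
    have q : ∀ v, inL (g • v + v) → inL (k • v + v) → inL ((g * k) • v + v) := fun v h h' => by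
      have := inL_add h' h
      rwa [← inL_fix a b h', smul_add, add_assoc, add_add_self, ← mul_smul] at this
    ⟨by rw [mul_smul, a', a], by rw [mul_smul, b', b], q _ c c', q _ d d'⟩
  inv_mem' := fun {g} ⟨a, b, c, d⟩ =>
    have a' := inv_smul_eq_iff.2 a.symm
    have b' := inv_smul_eq_iff.2 b.symm
    have q : ∀ v, inL (g • v + v) → inL (g⁻¹ • v + v) := fun v h => by
      rwa [← inL_fix a' b' h, smul_add, inv_smul_smul, add_comm] at h
    ⟨a', b', q _ c, q _ d⟩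

def cs (a : V) : Set V := {v | inL (v + a)}
theorem cs_eq {a b : V} : cs a = cs b ↔ inL (a + b) :=
  ⟨fun e => show a ∈ cs b from e ▸ show inL (a + a) by simp [inL], fun h => Set.ext fun v =>
    ⟨fun e => by have := inL_add e h; rwa [add_assoc, add_add_self] at this,
      fun e => by have := inL_add e h; rwa [add_comm a, add_assoc, add_add_self] at this⟩⟩
theorem sx_L {g : Sp} (h : Commute g sx) {u : V} : inL (g • u) ↔ inL u := by
  have k : ∀ {g : Sp}, Commute g sx → ∀ {u}, inL u → inL (g • u) := fun {g} h u hu => by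
    obtain ⟨v, rfl⟩ := (by decide +kernel : ∀ u, inL u → ∃ v : V, u = sx • v + v) u hu
    rw [smul_add, ← cm h]; exact (by decide +kernel : ∀ v : V, inL (sx • v + v)) _
  exact ⟨fun e => by simpa using k h.inv_left e, k h⟩
theorem cs_smul {g : Sp} (h : Commute g sx) (a : V) : g • cs a = cs (g • a) := Set.ext fun v => by
  rw [Set.mem_smul_set_iff_inv_smul_mem]
  change inL _ ↔ inL _
  rw [← sx_L h, smul_add, smul_inv_smul]
theorem L3 {g : Sp} (h : Commute g sx) {u : V} (hu : inL u) (u0 : u ≠ 0) :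
    g • u = e2 ∨ g • u = f3 ∨ g • u = e2 + f3 := ((sx_L h).2 hu).resolve_left (smul_ne_zero_v u0)
theorem cs3 {g : Sp} (h : Commute g sx) {a : V} (h1 : ω a e2 = false) (h2 : ω a f3 = false) (h3 : ¬ inL a) :
    g • cs a = cs e1 ∨ g • cs a = cs f1 ∨ g • cs a = cs (e1 + f1) := by
  simp only [cs_smul h, cs_eq]
  have k : ∀ {u}, inL u → ω (g • a) u = false := fun {u} hu => by
    rw [ω_smul_left]
    rcases (sx_L h.inv_left).2 hu with e | e | e | e <;> simp [e, h1, h2]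
  exact (by decide +kernel : ∀ v, ω v e2 = false → ω v f3 = false → ¬ inL v →
    inL (v + e1) ∨ inL (v + f1) ∨ inL (v + (e1 + f1))) _ (k (by decide)) (k (by decide)) (mt (sx_L h).1 h3)

theorem le_On {Q : Subgroup Sp} (hQ : PiG {3}ᶜ Q) (h0 : ∀ g ∈ Q, Commute g sx) (h1 : d1 ∈ N(Q)) (h2 : τ ∈ N(Q)) :
    Q ≤ On := fun g hg => by
  have c : ∀ {a b}, d1 • a = b → d1 • cs a = cs b := fun e => by rw [cs_smul (by decide +kernel), e]
  refine ⟨tri3 hQ h2 (y := f3) (z := e2 + f3) (by decide +kernel) (by decide +kernel) (by decide +kernel) (by decide)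
    (fun g hg => L3 (h0 g hg) (by decide) (by decide)) g hg,
    tri3 hQ h2 (y := e2 + f3) (z := e2) (by decide +kernel) (by decide +kernel) (by decide +kernel) (by decide)
    (fun g hg => by have := L3 (h0 g hg) (u := f3) (by decide) (by decide); tauto) g hg, ?_, ?_⟩ <;>
  rw [← cs_eq, ← cs_smul (h0 g hg)]
  · exact tri3 hQ h1 (y := cs f1) (z := cs (e1 + f1)) (c (by decide +kernel)) (c (by decide +kernel))
      (c (by decide +kernel)) (mt cs_eq.1 (by decide)) (fun g hg => cs3 (h0 g hg) rfl rfl (by decide)) g hg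
  · exact tri3 hQ h1 (y := cs (e1 + f1)) (z := cs e1) (c (by decide +kernel)) (c (by decide +kernel))
      (c (by decide +kernel)) (mt cs_eq.1 (by decide))
      (fun g hg => by have := cs3 (h0 g hg) (a := f1) rfl rfl (by decide); tauto) g hg

/-- the centre of `On` -/
def ZL : Subgroup Sp where
  carrier := {g | ∀ v, ω v e2 = false → ω v f3 = false → g • v = v}
  one_mem' _ _ _ := one_smul _ _
  mul_mem' ha hb v h h' := by rw [mul_smul, hb v h h', ha v h h']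
  inv_mem' ha v h h' := inv_smul_eq_iff.2 (ha v h h').symm
theorem ZL_ex {g : Sp} (h1 : g • e1 = e1) (h2 : g • f1 = f1) (h3 : g • e2 = e2) (h4 : g • f3 = f3) :
    ∃ a b c, g = Tb a e2 * Tb b f3 * Tb c (e2 + f3) := by
  obtain ⟨a, b, c, e⟩ := (by decide +kernel : ∀ d e, SB e1 f1 e2 d e f3 → ∃ a b c,
    (e1, f1, e2, d, e, f3) = tup (Tb a e2 * Tb b f3 * Tb c (e2 + f3))) (g • f2) (g • e3)
    (by simpa only [h1, h2, h3, h4] using sb_smul g)
  exact ⟨a, b, c, tup_inj (by rw [← e, tup, h1, h2, h3, h4])⟩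
theorem mem_ZL {g : Sp} (h1 : g • e1 = e1) (h2 : g • f1 = f1) (h3 : g • e2 = e2) (h4 : g • f3 = f3) : g ∈ ZL := by
  obtain ⟨a, b, c, rfl⟩ := ZL_ex h1 h2 h3 h4
  clear * -; revert a b c; change ∀ a b c v, _; decide +kernel
theorem ZL_ex' {g : Sp} (h : g ∈ ZL) : ∃ a b c, g = Tb a e2 * Tb b f3 * Tb c (e2 + f3) :=
  ZL_ex (h _ rfl rfl) (h _ rfl rfl) (h _ rfl rfl) (h _ rfl rfl)
theorem ZL_le : ZL ≤ On := fun _ h => ⟨h _ rfl rfl, h _ rfl rfl, by simp [h e1 rfl rfl, inL], by simp [h f1 rfl rfl, inL]⟩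
theorem ZL_comm {g z : Sp} (hg : g ∈ On) (hz : z ∈ ZL) : Commute g z := by
  obtain ⟨a, b, c, rfl⟩ := ZL_ex' hz
  exact ((comm_Tb hg.1 a).mul_right (comm_Tb hg.2.1 b)).mul_right (comm_Tb (inL_fix hg.1 hg.2.1 (by decide)) c)
theorem ZL_sq {z : Sp} (hz : z ∈ ZL) : z * z = 1 := by
  obtain ⟨a, b, c, rfl⟩ := ZL_ex' hz
  clear * -; revert a b c; decide +kernel
theorem ZL_d1 {z : Sp} (hz : z ∈ ZL) : Commute z d1 :=
  (comm_T_iff.2 (hz _ rfl rfl)).mul_right (comm_T_iff.2 (hz _ rfl rfl))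
theorem perp_L {g : Sp} (h : Commute g sx) {a : V} (h1 : ω a e2 = false) (h2 : ω a f3 = false) {u : V} (hu : inL u) :
    ω (g • a) u = false := by
  rw [ω_smul_left]
  rcases (sx_L h.inv_left).2 hu with e | e | e | e <;> simp [e, h1, h2]
theorem ZL_norm {g : Sp} (h : Commute g sx) : g ∈ N(ZL) := mem_norm_of_cj_le fun _ hx v h1 h2 => by
  obtain ⟨z, hz, rfl⟩ := mem_cj'.1 hx
  rw [mul_smul, mul_smul, hz _ (perp_L h.inv_left h1 h2 (by decide)) (perp_L h.inv_left h1 h2 (by decide)),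
    smul_inv_smul]
instance (g : Sp) : Decidable (g ∈ On) :=
  inferInstanceAs (Decidable (g • e2 = e2 ∧ g • f3 = f3 ∧ inL (g • e1 + e1) ∧ inL (g • f1 + f1)))
theorem On_sq {g : Sp} (h : g ∈ On) : g * g ∈ ZL := by
  have q : ∀ v, inL (g • v + v) → (g * g) • v = v := fun v e => by
    have := inL_fix h.1 h.2.1 e
    rwa [smul_add, ← mul_smul, add_comm (g • v), add_left_inj] at this
  exact mem_ZL (q _ h.2.2.1) (q _ h.2.2.2) (by rw [mul_smul, h.1, h.1]) (by rw [mul_smul, h.2.1, h.2.1])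
theorem On_four {g : Sp} (h : g ∈ On) : g ^ 4 = 1 := by
  rw [show 4 = 2 * 2 from rfl, pow_mul, pow_two, pow_two, ZL_sq (On_sq h)]
theorem On_pg : PG 2 On := PiN.of_elt fun _ h =>
  (PiN.prime_pow Nat.prime_two 2).dvd (orderOf_dvd_of_pow_eq_one (On_four h))
theorem On_sx {g : Sp} (h : g ∈ On) : Commute g sx := ZL_comm h (by change ∀ v, _; decide +kernel)
theorem On_cs {g : Sp} (h : g ∈ On) {v : V} (h1 : ω v e2 = false) (h2 : ω v f3 = false) : inL (g • v + v) := by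
  obtain ⟨a, b, u, hu, rfl⟩ := (by decide +kernel : ∀ v, ω v e2 = false → ω v f3 = false →
    ∃ a b u, inL u ∧ v = sc a e1 + sc b f1 + u) v h1 h2
  rw [smul_add, smul_add, inL_fix h.1 h.2.1 hu, add_add_add_comm, add_self, add_zero, add_add_add_comm]
  refine inL_add ?_ ?_
  · cases a; exacts [by simp [inL], h.2.2.1]
  · cases b; exacts [by simp [inL], h.2.2.2]
theorem On_norm {g : Sp} (h : Commute g sx) : g ∈ N(On) := mem_norm_of_cj_le fun _ hx => by
  obtain ⟨z, hz, rfl⟩ := mem_cj'.1 hx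
  have k : ∀ u, inL u → (g * z * g⁻¹) • u = u := fun u hu => by
    rw [mul_smul, mul_smul, inL_fix hz.1 hz.2.1 ((sx_L h.inv_left).2 hu), smul_inv_smul]
  have k' : ∀ v, ω v e2 = false → ω v f3 = false → inL ((g * z * g⁻¹) • v + v) := fun v h1 h2 => by
    have := (sx_L h).2 (On_cs hz (perp_L h.inv_left h1 h2 (u := e2) (by decide))
      (perp_L h.inv_left h1 h2 (u := f3) (by decide)))
    rwa [smul_add, smul_inv_smul, ← mul_smul, ← mul_smul] at this
  exact ⟨k _ (by decide), k _ (by decide), k' _ rfl rfl, k' _ rfl rfl⟩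
theorem On_d1 {g : Sp} (h : g ∈ On) (c : Commute g d1) : g ∈ ZL := by
  have q := cm_eq c (show d1 • e1 = f1 by decide +kernel)
  have : d1 • d1 • g • e1 = g • e1 + d1 • g • e1 := by
    rw [cm c, cm c, ← smul_add, show d1 • d1 • e1 = e1 + d1 • e1 by decide +kernel]
  have := (by decide +kernel : ∀ u, inL (u + e1) → d1 • d1 • u = u + d1 • u → u = e1) _ h.2.2.1 this
  exact mem_ZL this (by rw [q, this]; decide +kernel) h.1 h.2.1
theorem On_cent {g : Sp} (h : g ∈ On) (c : ∀ k ∈ On, Commute g k) : g ∈ ZL := by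
  have k : ∀ q ∈ [e1, f1], g • q = q := fun q hq =>
    (by decide +kernel : ∀ q ∈ [e1, f1], ∀ u, X e2 u = X e2 q → X f3 u = X f3 q → u = q) q hq _
      (by rw [← h.1, ← conj_X, cjc (c _ (by clear * - hq; revert q; decide +kernel)), h.1])
      (by rw [← h.2.1, ← conj_X, cjc (c _ (by clear * - hq; revert q; decide +kernel)), h.2.1])
  exact mem_ZL (k _ (by simp)) (k _ (by simp)) h.1 h.2.1
theorem On_ex {g : Sp} (h : g ∈ On) : ∃ q q', Pp [e2, f2, e3, f3] q ∧ Pp [e2, f2, e3, f3] q' ∧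
    (X e2 q * X f3 q')⁻¹ * g ∈ ZL := by
  obtain ⟨q, q', h1, h2, h3, h4, h5, h6⟩ := (by decide +kernel : ∀ a, inL (a + e1) → ∀ b, inL (b + f1) →
    ∃ q q', Pp [e2, f2, e3, f3] q ∧ Pp [e2, f2, e3, f3] q' ∧ (X e2 q * X f3 q') • e1 = a ∧ (X e2 q * X f3 q') • f1 = b ∧
      (X e2 q * X f3 q') • e2 = e2 ∧ (X e2 q * X f3 q') • f3 = f3) _ h.2.2.1 _ h.2.2.2
  refine ⟨q, q', h1, h2, mem_ZL ?_ ?_ ?_ ?_⟩ <;> rw [mul_smul, inv_smul_eq_iff]
  exacts [h3.symm, h4.symm, h.1.trans h5.symm, h.2.1.trans h6.symm]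
theorem sx35 {g : Sp} (h : Commute g sx) (e : g ^ 35 = 1) : g = 1 := by
  have a := L3 h (u := e2) (by decide) (by decide)
  have b := L3 h (u := f3) (by decide) (by decide)
  have c := L3 h (u := e2 + f3) (by decide) (by decide)
  have a' := cs3 h (a := e1) rfl rfl (by decide)
  have b' := cs3 h (a := f1) rfl rfl (by decide)
  have c' := cs3 h (a := e1 + f1) rfl rfl (by decide)
  have : g ∈ On := mem_of35 (n := 6) e (by decide) ⟨perm3 a b c,
    perm3 (or_left_comm.1 b) (or_left_comm.1 a) (or_left_comm.1 c),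
    by rw [← cs_eq, ← cs_smul (h.pow_left 6)]; exact perm3 a' b' c', by
      rw [← cs_eq, ← cs_smul (h.pow_left 6)]; exact perm3 (or_left_comm.1 b') (or_left_comm.1 a') (or_left_comm.1 c')⟩
  exact mem_bot.1 (mem_of35 (n := 4) e (by decide) (mem_bot.2 (On_four this)))
theorem md35 {g : Sp} (h0 : g • e1 = e1) (h1 : md e1 (g • e3) e3) (h2 : md e1 (g • f3) f3) (e : g ^ 35 = 1) : g = 1 := by
  have s := sb_smul g
  have t : (e1, g • f1, g • e2, g • f2, g • e3, g • f3) = tup g := by rw [tup, h0]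
  rw [h0] at s
  have := (by decide +kernel : ∀ e, md e1 e e3 → ∀ f, md e1 f f3 → ∀ x, ω e1 x = true → Pp [e, f] x →
    ∀ c, Pp [e1, x, e, f] c → ∀ d, SB e1 x c d e f → fc (e1, x, c, d, e, f) fun m => fc (sq6 m) fun a =>
      fc (cmp m a) fun b => fc (sq6 b) fun c => sq6 c = tup 1) _ h1 _ h2 _ s.1 (by simp_all [SB, Pp]) _
      (by simp_all [SB, Pp, ω_comm (g • e2)]) _ s
  simp only [t, fc_iff, ← tup_sq, ← tup_mul, ← pow_succ', ← pow_mul] at this
  exact mem_bot.1 (mem_of35 (n := 12) e (by decide) (mem_bot.2 (tup_inj this)))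
theorem md_of_comm {g : Sp} {a q : V} (h0 : g • a = a) (a0 : a ≠ 0) (h : Commute g (X a q)) (w : ω a q = false) :
    md a (g • q) q := by
  have e : X a (g • q) = X a q := by rw [← h0, ← conj_X, cjc h, h0]
  have w' : ω a (g • q) = false := by rw [← h0, ω_smul, w]
  obtain ⟨b, hb⟩ := (by decide +kernel : ∀ a : V, a ≠ 0 → ∃ b, ω b a = true) a a0
  have := congrArg (· • b) e
  simp only [X_smul w, X_smul w', hb, sc_true, add_assoc, add_right_inj] at this
  rw [← add_eq_zero_v, add_add_add_comm, add_eq_zero_v] at this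
  unfold md
  revert this
  cases ω b (g • q) <;> cases ω b q <;> simp [add_eq_zero_v] <;> intro e
  · exact .inl e
  · exact .inr (by rw [← e, add_comm (g • q), add_add_self])
  · exact .inr (by rw [← e, add_comm (g • q), add_add_self])
  · exact .inl e

theorem md35' {g : Sp} (k : Sp) {a b c : V} (ka : k • e1 = a) (kb : k • e3 = b) (kc : k • f3 = c) (h0 : g • a = a)
    (h1 : md a (g • b) b) (h2 : md a (g • c) c) (e : g ^ 35 = 1) : g = 1 := by
  subst ka kb kc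
  have q : ∀ {v}, md (k • e1) (g • k • v) (k • v) → md e1 ((k⁻¹ * g * k) • v) v := fun h => by
    simpa only [md, mul_smul, inv_smul_eq_iff, smul_add] using h
  have := md35 (g := k⁻¹ * g * k) (by rw [mul_smul, mul_smul, h0, inv_smul_smul]) (q h1) (q h2)
    (by simpa [e] using conj_pow (i := 35) (a := k⁻¹) (b := g))
  rwa [mul_assoc, inv_mul_eq_one, right_eq_mul] at this
theorem comm_X {g : Sp} {a q : V} (h1 : g • a = a) (h2 : g • q = q) : Commute g (X a q) := by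
  rw [commute_iff_eq, ← mul_inv_eq_iff_eq_mul, conj_X, h1, h2]
theorem md_of_comm' {g : Sp} {a q : V} {s : Bool} (h0 : g • a = a) (a0 : a ≠ 0) (h : Commute g (X a q * Tb s a))
    (w : ω a q = false) : md a (g • q) q :=
  md_of_comm h0 a0 (by simpa using h.mul_right (comm_Tb h0 s).inv_right) w
theorem md_norm {g : Sp} {a b c : V} (l : a ≠ 0 ∧ (T b * T c) • a = a ∧ ∀ q, md a ((T b * T c) • q) q →
      ω q b = false ∧ ω q c = false) (h0 : g • a = a)
    (h1 : md a (g • b) b) (h2 : md a (g • c) c) : g ∈ N(Ua a ⊓ C[T b * T c]) := mem_norm_of_cj_le fun _ hx => by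
  obtain ⟨_, ⟨⟨q, s, hq, rfl⟩, hc⟩, rfl⟩ := mem_cj'.1 hx
  obtain ⟨k0, k1, k⟩ := l
  have hq' : ω a (g • q) = false := by rw [← h0, ω_smul, hq]
  have w : ∀ {b}, md a (g • b) b → ω q b = false → ω (g • q) b = false := fun {b} h e => by
    have := ω_smul g q b
    rcases h with h | h <;> simpa [h, e, ω_comm (g • q) a, hq'] using this
  rw [← conj_mul, conj_X, conj_Tb, h0]
  have := k q (md_of_comm' k1 k0 (mem_cent1.1 hc).symm hq)
  exact ⟨⟨_, _, hq', rfl⟩, mem_cent1.2 ((comm_X k1 (by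
    rw [mul_smul, T_fix (w h2 this.2), T_fix (w h1 this.1)])).mul_right (comm_Tb k1 s)).symm⟩

theorem pi_comap (i : Function.Injective ψ) {π : Set ℕ} (h : PiG π K) : PiG π (K.comap ψ) := PiN.of_elt fun g hg => by
  have := h.elt (show ψ g ∈ K from hg)
  unfold PiE at *; rwa [orderOf_injective ψ i] at this
theorem pi_map {π : Set ℕ} {S : Subgroup Sp} (h : PiG π S) : PiG π (S.map ψ) := h.dvd (card_map_dvd _ _)
theorem norm_comap {g : Sp} (h : ψ g ∈ N(K)) : g ∈ N(K.comap ψ) := mem_norm_of_cj_le fun _ hx => by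
  obtain ⟨y, hy, rfl⟩ := mem_cj'.1 hx
  change ψ _ ∈ K; rw [map_mul, map_mul, map_inv]; exact conj_mem_of_norm h hy
theorem norm_map {S : Subgroup Sp} {g : Sp} (h : g ∈ N(S)) : ψ g ∈ N(S.map ψ) := mem_norm_of_cj_le fun _ hx => by
  obtain ⟨_, ⟨y, hy, rfl⟩, rfl⟩ := mem_cj'.1 hx
  exact ⟨_, conj_mem_of_norm h hy, by simp⟩
theorem norm_of_comm {S : Subgroup Sp} (h : ∀ g, Commute x (ψ g)) : x ∈ N(S.map ψ) :=
  cent_le_norm _ (mem_cent.2 (by rintro _ ⟨g, -, rfl⟩; exact (h g).symm))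
theorem norm_c1 (h : Commute x y) : x ∈ N(C[y]) := le_normalizer (mem_cent1.2 h)
theorem norm_inf (h1 : x ∈ N(K)) (h2 : x ∈ N(K')) : x ∈ N(K ⊓ K') :=
  norms_inf (zpowers_le.2 h1) (zpowers_le.2 h2) (mem_zpowers x)
theorem Ua_pg (a : V) : PG 2 (Ua a) := pg_of_pow Nat.prime_two fun _ h => by rw [pow_two, Ua_sq h]
theorem map3 {g : Sp} (h : g ^ 3 = 1) : φ g ^ 3 = 1 := by rw [← map_pow, h, map_one]
theorem d2_3 : d2 ^ 3 = 1 := by decide +kernel
theorem d3_3 : d3 ^ 3 = 1 := by decide +kernel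

theorem free {t k : G} (kn : k ∈ N(W)) (h : W ⊓ C[t * (k * t * k⁻¹)] = ⊥) : #(W ⊓ C[t]) * #(W ⊓ C[t]) ≤ #W := by
  have e : cj k (W ⊓ C[t]) = W ⊓ C[k * t * k⁻¹] := by rw [cj_inf, cj_cent1, cj_of_mem_norm kn]
  have h1 := card_inf_mul_relIndex (W ⊓ C[k * t * k⁻¹]) (W ⊓ C[t])
  rw [show W ⊓ C[k * t * k⁻¹] ⊓ (W ⊓ C[t]) = ⊥ from eq_bot_iff.2 fun x hx => h.le ⟨hx.1.1,
    mem_cent1.2 (Commute.mul_right (mem_cent1.1 hx.2.2) (mem_cent1.1 hx.1.2))⟩, card_bot, one_mul] at h1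
  have h2 := card_mul_relIndex (inf_le_left : W ⊓ C[k * t * k⁻¹] ≤ W)
  rw [← h2, ← e, card_cj, e]
  exact Nat.mul_le_mul_left _ (h1 ▸ relIndex_le_of_le_right inf_le_left (relIndex_ne_zero' _ _))

theorem inv4 {a d : G} (hS : PG 2 S) (c4 : #S ≤ 4) (dn : d ∈ N(S)) (fpf : S ⊓ C[d] = ⊥) (an : a ∈ N(S))
    (a2 : a * a = 1) (ad : Commute d a) : S ≤ C[a] := by
  by_cases h1 : S = ⊥
  · exact h1 ▸ bot_le
  have n := hS.meet_cent (pg_of_pow Nat.prime_two fun x hx => by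
    obtain ⟨k, rfl⟩ := hx; rw [← zpow_natCast, ← zpow_mul, mul_comm, zpow_mul, zpow_natCast, pow_two, a2, one_zpow])
    (zpowers_le.2 an) h1
  rw [cent_zpowers] at n
  refine inf_eq_left.1 (eq_of_le_of_card_ge inf_le_left (c4.trans ?_))
  obtain ⟨k, e⟩ := (hS.infl C[a]).exists_card
  rcases k with _ | _ | k
  · exact (n (card_eq_one.1 e)).elim
  · obtain ⟨⟨x, hx⟩, x1, u⟩ := (Nat.card_eq_two_iff' (1 : ↥(S ⊓ C[a]))).1 e
    have x1 : x ≠ 1 := fun e => x1 (Subtype.ext e)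
    have := u ⟨_, conj_mem_of_norm (norm_inf dn (norm_c1 ad)) hx⟩ fun e => x1 (conj_eq_one_iff.1 (congrArg Subtype.val e))
    exact (x1 (mem_bot.1 (fpf.le ⟨hx.1, mem_cent1.2 (mul_inv_eq_iff_eq_mul.1 (congrArg Subtype.val this)).symm⟩))).elim
  · rw [e, pow_succ, pow_succ]; have := Nat.two_pow_pos k; omega

end H26.SX
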